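import Groth.Agent.H1.Obs.Line

/-!
# The character criterion for observability
-/

universe u

open CategoryTheory Limits MonoidalCategory CartesianMonoidalCategory MonObj GrpObj AlgebraicGeometry
open scoped TensorProduct

namespace Groth.Agent.H1.Obs

set_option linter.style.haveILetI false
set_option linter.unusedSectionVars false

open Groth.Agent.Lib.RedPts Groth.Agent.Lib.RedPts.Points Classical.Scheme' Groth.Agent.H1.RInv Groth.Agent.Lib.GrpQ

attribute [local instance] baseAlgebra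

variable {k : Type u} [Field k] [IsAlgClosed k] {G H : Over (Spec (CommRingCat.of k))} [GrpObj G] [GrpObj H]
  [IsAffine G.left] [Smooth G.hom] [IsAffine H.left] [Smooth H.hom] (i : H ⟶ G)

/-- A weight of a nonzero semi-invariant function. -/
def IsWt (c : P H → k) : Prop :=
  ∃ f : Γ(G.left, ⊤), f ≠ 0 ∧ ∀ (x : P G) (h : P H), ev (x * (h ≫ i)) f = c h * ev x f

theorem ev_gmFn_inv (χ : H ⟶ Red.Gm (Spec (CommRingCat.of k))) (h : P H) :
    ev h (Red.gmFn χ⁻¹) = (ev h (Red.gmFn χ))⁻¹ :=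
  eq_inv_of_mul_eq_one_left (by rw [← map_mul, Lib.RedPts.Gm.gmFn_inv_mul_gmFn, map_one])

theorem ev_gmFn_ne (χ : H ⟶ Red.Gm (Spec (CommRingCat.of k))) (h : P H) : ev h (Red.gmFn χ) ≠ 0 :=
  ((Lib.RedPts.Gm.isUnit_gmFn χ).map (ev h)).ne_zero

theorem ev_gmFn_mul (χ : H ⟶ Red.Gm (Spec (CommRingCat.of k))) [IsMonHom χ] (x y : P H) :
    ev (x * y) (Red.gmFn χ) = ev x (Red.gmFn χ) * ev y (Red.gmFn χ) := by
  have e : ∀ z : P H, ev z (Red.gmFn χ) = (Scheme.ΓSpecIso (CommRingCat.of k)).hom (Red.gmFn (z ≫ χ)) := fun z => by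
    rw [Lib.RedPts.Gm.gmFn_comp]
    rfl
  rw [e, e, e, MonObj.mul_comp, Lib.RedPts.Gm.gmFn_mul, map_mul]

theorem ev_gmFn_one (χ : H ⟶ Red.Gm (Spec (CommRingCat.of k))) [IsMonHom χ] : ev (1 : P H) (Red.gmFn χ) = 1 := by
  have h := ev_gmFn_mul χ 1 1
  rw [_root_.mul_one] at h
  exact (mul_eq_left₀ (ev_gmFn_ne χ 1)).mp h.symm

/-- A character on a semi-invariant vector is the weight of a semi-invariant function. -/
theorem isWt_of_vector [IsMonHom i] (χ : H ⟶ Red.Gm (Spec (CommRingCat.of k))) {V : Type u} [AddCommGroup V]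
    [Module k V] (ρ : VecGrp.GMod G V) (v : V) (hv0 : v ≠ 0)
    (hv : ∀ h : P H, act ρ (h ≫ i) v = ev h (Red.gmFn χ) • v) : IsWt i fun h => ev h (Red.gmFn χ) := by
  obtain ⟨l, hl⟩ : ∃ l : Module.Dual k V, l v ≠ 0 := by
    by_contra h
    push Not at h
    exact hv0 ((Module.forall_dual_apply_eq_zero_iff k v).mp h)
  refine ⟨coef ρ l v, fun h0 => hl ?_, fun x h => ?_⟩
  · have := congrArg (ev (1 : P G)) h0
    rwa [ev_coef, act_one, map_zero] at this
  · rw [ev_coef, ev_coef, act_mul, hv, map_smul, map_smul, smul_eq_mul]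

/-- A weight of a semi-invariant function occurs on a vector. -/
theorem exists_vector_of_isWt (χ : H ⟶ Red.Gm (Spec (CommRingCat.of k)))
    (hc : IsWt i fun h => ev h (Red.gmFn χ)) :
    ∃ (V : Type u) (_ : AddCommGroup V) (_ : Module k V) (_ : Module.Finite k V) (ρ : VecGrp.GMod G V) (v : V), v ≠ 0 ∧
      ∀ (B : Type u) [CommRing B] [Algebra k B] (h : VecGrp.pt k B ⟶ H),
        ρ.ρ B (h ≫ i) ((1 : B) ⊗ₜ[k] v) = VecGrp.chiVal χ h • ((1 : B) ⊗ₜ[k] v) := by
  obtain ⟨f, hf, hw⟩ := hc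
  obtain ⟨W, _, hs, hW⟩ := exists_stable {f}
  have hfW : f ∈ W := hs (Finset.mem_singleton_self f)
  obtain ⟨r, e, he⟩ := exists_rep_of_stable W hW
  refine ⟨_, inferInstance, inferInstance, inferInstance, r.gmod, e.symm ⟨f, hfW⟩, ?_, (semi_iff r.gmod i χ _).mpr fun h => ?_⟩
  · intro h0
    rw [LinearEquiv.map_eq_zero_iff] at h0
    exact hf (congrArg Subtype.val h0)
  · refine e.injective (Subtype.ext ?_)
    rw [he, map_smul, LinearEquiv.apply_symm_apply]
    refine ext_fun fun x => ?_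
    rw [ev_rtr, hw, Submodule.coe_smul_of_tower, Algebra.smul_def, map_mul, ev_const]

/-- The condition on characters. -/
def CharCrit : Prop :=
  ∀ (χ : H ⟶ Red.Gm (Spec (CommRingCat.of k))), IsMonHom χ →
    (IsWt i fun h => ev h (Red.gmFn χ)) → IsWt i fun h => ev h (Red.gmFn χ⁻¹)

theorem charCrit_of_observable (hobs : AGF.IsObservableIn k i) : CharCrit i := by
  rintro χ - ⟨f, hf, hw⟩
  obtain ⟨f', hf', hw'⟩ := exists_inverse_weight i hobs f hf _ (ev_gmFn_ne χ) hw
  exact ⟨f', hf', fun x h => by simp only [ev_gmFn_inv]; exact hw' x h⟩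

theorem IsWt.exists_ne_one {c : P H → k} (hc : IsWt i c) :
    ∃ f : Γ(G.left, ⊤), ev (1 : P G) f ≠ 0 ∧ ∀ (x : P G) (h : P H), ev (x * (h ≫ i)) f = c h * ev x f := by
  obtain ⟨f, hf, hw⟩ := hc
  obtain ⟨y, hy⟩ : ∃ y : P G, ev y f ≠ 0 := by
    by_contra h
    push Not at h
    exact hf (ext_fun fun x => by rw [h x, map_zero])
  exact ⟨ltr y f, by rwa [ev_ltr, _root_.mul_one], fun x h => by rw [ev_ltr, ev_ltr, ← _root_.mul_assoc, hw]⟩

theorem observable_of_charCrit [IsMonHom i] [IsClosedImmersion i.left] (hcrit : CharCrit i) :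
    AGF.IsObservableIn k i := by
  refine (isObservableIn_iff i).mpr fun g hg => ?_
  obtain ⟨d, v, L₀, χ, hχ, hL₀, hw, hstab⟩ := exists_line i
  obtain ⟨f', hf', hw'⟩ := (hcrit χ hχ ⟨minor v L₀, fun h0 => hL₀ (by rw [h0, map_zero]), hw L₀⟩).exists_ne_one
  have hprod : ∀ L, ev g f' * ev g (minor v L) = ev 1 f' * ev 1 (minor v L) := fun L => by
    have hinv : Inv i (f' * minor v L) := fun x h => by
      rw [map_mul, map_mul, hw' x h, hw L x h, ev_gmFn_inv, _root_.mul_mul_mul_comm, inv_mul_cancel₀ (ev_gmFn_ne χ h),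
        _root_.one_mul]
    simpa using hg _ hinv 1
  have hne : ev g f' ≠ 0 := fun h => by
    have := hprod L₀
    rw [h, zero_mul] at this
    exact mul_ne_zero hf' hL₀ this.symm
  exact hstab g (ev 1 f' / ev g f') (div_ne_zero hf' hne) fun L => by
    rw [div_mul_eq_mul_div, eq_div_iff hne, mul_comm, hprod]

theorem observable_iff_charCrit [IsMonHom i] [IsClosedImmersion i.left] : AGF.IsObservableIn k i ↔ CharCrit i :=
  ⟨charCrit_of_observable i, observable_of_charCrit i⟩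

/-- Observable subgroups are those on which invariant fractions are fractions of invariants. -/
theorem observable_of_fractions [IsMonHom i] [IsClosedImmersion i.left] [ConnectedSpace G.left]
    (hfrac : ∀ a b : Γ(G.left, ⊤), b ≠ 0 →
      (∀ (x : P G) (h : P H), ev (x * (h ≫ i)) a * ev x b = ev x a * ev (x * (h ≫ i)) b) →
      ∃ a' b' : Γ(G.left, ⊤), Inv i a' ∧ Inv i b' ∧ b' ≠ 0 ∧ a * b' = a' * b) :
    AGF.IsObservableIn k i := by
  classical
  haveI := GrpIrred.isIntegral G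
  haveI : Nonempty (⊤ : G.left.Opens) := ⟨⟨(η[G]).left (IsLocalRing.closedPoint k), trivial⟩⟩
  refine (isObservableIn_iff i).mpr fun g hg => ?_
  obtain ⟨d, v, L₀, χ, hχ, hL₀, hw, hstab⟩ := exists_line i
  set D₀ := minor v L₀ with hD₀
  have hD₀0 : D₀ ≠ 0 := fun h0 => hL₀ (by rw [h0, map_zero])
  -- a point where everything in sight is nonzero
  have hD₀g : rtr g D₀ ≠ 0 := fun h0 => hD₀0 (by rw [← rtr_one D₀, ← inv_mul_cancel g, ← rtr_rtr, h0, map_zero])
  have key : ∀ L, rtr g (minor v L) * D₀ = minor v L * rtr g D₀ := fun L => by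
    obtain ⟨a', b', ha', hb', hb0, hab⟩ := hfrac (minor v L) D₀ hD₀0 fun x h => by
      rw [hw, hw]
      ring
    have h1 : rtr g a' = a' := ext_fun fun x => by rw [ev_rtr, hg a' ha' x]
    have h2 : rtr g b' = b' := ext_fun fun x => by rw [ev_rtr, hg b' hb' x]
    have h3 := congrArg (rtr g) hab
    rw [map_mul, map_mul, h1, h2] at h3
    refine mul_right_cancel₀ hb0 ?_
    linear_combination D₀ * h3 - rtr g D₀ * hab
  obtain ⟨y, hy⟩ : ∃ y : P G, ev y (D₀ * rtr g D₀) ≠ 0 := by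
    by_contra h
    push Not at h
    exact mul_ne_zero hD₀0 hD₀g (ext_fun fun x => by rw [h x, map_zero])
  rw [map_mul, mul_ne_zero_iff, ev_rtr] at hy
  refine hstab g (ev (y * g) D₀ / ev y D₀) (div_ne_zero hy.2 hy.1) fun L => ?_
  have hlt : minor v (fun l => L l * y⁻¹) = ltr y⁻¹ (minor v L) := ext_fun fun x => by
    rw [ev_ltr, ev_minor, ev_minor]
    simp [_root_.mul_assoc]
  have h := congrArg (ev y) (key fun l => L l * y⁻¹)
  rw [hlt, map_mul, map_mul, ev_rtr, ev_rtr, ev_ltr, ev_ltr, inv_mul_cancel_left, inv_mul_cancel] at h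
  rw [div_mul_eq_mul_div, eq_div_iff hy.1, mul_comm (ev (y * g) D₀)]
  exact h

end Groth.Agent.H1.Obs
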