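import Groth.Agent.H1.Obs.Open
import Groth.Agent.H1.Classical.Kolchin
import Groth.Agent.H63.GrpIdentity
import Groth.Agent.H1.GrpIrred
import Mathlib.AlgebraicGeometry.Morphisms.FlatMono

/-!
# Subgroups of solvable groups are observable
-/

universe u v w

open CategoryTheory Limits MonoidalCategory CartesianMonoidalCategory MonObj GrpObj AlgebraicGeometry
open scoped TensorProduct

namespace Groth.Agent.H1.Obs

set_option linter.style.haveILetI false
set_option linter.unusedSectionVars false

open Groth.Agent.Lib.RedPts Groth.Agent.Lib.RedPts.Points Classical.Scheme' Groth.Agent.H1.RInv Groth.Agent.Lib.GrpQ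

attribute [local instance] baseAlgebra

section Abstract

open Module Classical.Kolchin

variable {k : Type u} [Field k] [IsAlgClosed k] {Γ : Type v} [Group Γ] [Group.IsSolvable Γ] {R : Subalgebra k (Γ → k)}
  [NoZeroDivisors R]

/-- An eigenvalue of a vector is the value of a character of a solvable group. -/
theorem exists_inverse_eigenfn : ∀ (n : ℕ) {V : Type w} [AddCommGroup V] [Module k V] [FiniteDimensional k V],
    Module.finrank k V ≤ n → ∀ (ρ : Representation k Γ V), EndFn R (fun g => ρ g) → EndFn R (fun g => ρ g⁻¹) →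
    ∀ v : V, v ≠ 0 → ∃ f ∈ R, f 1 = 1 ∧ ∀ (g a : Γ) (c : k), ρ a v = c • v → c * f (g * a) = f g := by
  intro n
  induction n with
  | zero =>
    intro V _ _ _ h ρ _ _ v hv
    haveI : Subsingleton V := Module.finrank_zero_iff.mp (Nat.le_zero.mp h)
    exact absurd (Subsingleton.elim v 0) hv
  | succ n ih =>
    intro V _ _ _ hn ρ hρ hρ' v hv
    by_cases hirr : ∀ W : Submodule k V, (∀ g, ∀ w ∈ W, ρ g w ∈ W) → W = ⊥ ∨ W = ⊤
    · haveI : Nontrivial V := nontrivial_of_ne v 0 hv
      have h1 := finrank_eq_one ρ hρ hρ' hirr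
      obtain ⟨l, hl⟩ : ∃ l : Dual k V, l v ≠ 0 := by
        by_contra h; push Not at h
        exact hv ((Module.forall_dual_apply_eq_zero_iff k v).mp h)
      have hspan : ∀ x : V, x = (l x / l v) • v := fun x => by
        obtain ⟨c, rfl⟩ := (finrank_eq_one_iff_of_nonzero' v hv).mp h1 x
        rw [map_smul, smul_eq_mul, mul_div_assoc, div_self hl, _root_.mul_one]
      refine ⟨(l v)⁻¹ • fun g => l (ρ g⁻¹ v), R.smul_mem (hρ' v l) _, by simp [inv_mul_cancel₀ hl], fun g a c hc => ?_⟩
      have h2 : c • ρ (g * a)⁻¹ v = ρ g⁻¹ v := by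
        rw [_root_.mul_inv_rev, map_mul, End.mul_apply, hspan (ρ g⁻¹ v), map_smul, smul_comm, ← map_smul, ← hc,
          ← End.mul_apply, ← map_mul, inv_mul_cancel, map_one, End.one_apply]
      simp only [Pi.smul_apply, smul_eq_mul]
      rw [← h2, map_smul, smul_eq_mul]
      ring
    · push Not at hirr
      obtain ⟨W, hW, hW0, hWt⟩ := hirr
      by_cases hvW : v ∈ W
      · let ρW : Representation k Γ W :=
          { toFun := fun g => (ρ g).restrict (hW g)
            map_one' := LinearMap.ext fun x => Subtype.ext (by simp)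
            map_mul' := fun g h => LinearMap.ext fun x => Subtype.ext (by simp) }
        have hlt : Module.finrank k W < Module.finrank k V := Submodule.finrank_lt hWt
        have hR : ∀ F : Γ → Γ, EndFn R (fun g => ρ (F g)) → EndFn R (fun g => ρW (F g)) := fun F hF x l => by
          obtain ⟨l', hl'⟩ := l.exists_extend
          have := hF x.1 l'
          convert this using 1
          funext g
          rw [← hl']
          rfl
        obtain ⟨f, hf, hf1, hfe⟩ := ih (by omega) ρW (hR id hρ) (hR (·⁻¹) hρ') ⟨v, hvW⟩
          (fun h => hv (congrArg Subtype.val h))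
        exact ⟨f, hf, hf1, fun g a c hc => hfe g a c (Subtype.ext hc)⟩
      · let ρQ : Representation k Γ (V ⧸ W) :=
          { toFun := fun g => W.mapQ W (ρ g) fun x hx => hW g x hx
            map_one' := Submodule.linearMap_qext _ (LinearMap.ext fun x => by simp)
            map_mul' := fun g h => Submodule.linearMap_qext _ (LinearMap.ext fun x => by simp) }
        have hlt : Module.finrank k (V ⧸ W) < Module.finrank k V := by
          have h1 := Submodule.finrank_quotient_add_finrank W
          have h2 := Submodule.one_le_finrank_iff.mpr hW0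
          omega
        have hR : ∀ F : Γ → Γ, EndFn R (fun g => ρ (F g)) → EndFn R (fun g => ρQ (F g)) := fun F hF x l => by
          obtain ⟨x, rfl⟩ := Submodule.Quotient.mk_surjective W x
          exact hF x (l ∘ₗ W.mkQ)
        obtain ⟨f, hf, hf1, hfe⟩ := ih (by omega) ρQ (hR id hρ) (hR (·⁻¹) hρ') (Submodule.Quotient.mk v)
          (fun h => hvW ((Submodule.Quotient.mk_eq_zero W).mp h))
        exact ⟨f, hf, hf1, fun g a c hc => hfe g a c (by
          show Submodule.Quotient.mk (ρ a v) = _
          rw [hc, Submodule.Quotient.mk_smul])⟩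

end Abstract

variable {k : Type u} [Field k] [IsAlgClosed k] {G H : Over (Spec (CommRingCat.of k))} [GrpObj G] [GrpObj H]
  [IsAffine G.left] [Smooth G.hom]

theorem ev_appTop_inv (x : P G) (f : Γ(G.left, ⊤)) : ev x (ι[G].left.appTop f) = ev x⁻¹ f := by
  rw [← ev_comp, ← Hom.inv_def]

variable [IsAffine H.left] [Smooth H.hom]

/-- Subgroups of a connected solvable group are observable. -/
theorem observable_of_solvable_connected [ConnectedSpace G.left] [Group.IsSolvable (P G)] (i : H ⟶ G) [IsMonHom i]
    [IsClosedImmersion i.left] : AGF.IsObservableIn k i := by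
  haveI := GrpIrred.isIntegral G
  haveI : Nonempty (⊤ : G.left.Opens) := ⟨⟨(η[G]).left (IsLocalRing.closedPoint k), trivial⟩⟩
  let Φ : Γ(G.left, ⊤) →ₐ[k] (P G → k) := AlgHom.pi fun x => evA x
  have hinj : Function.Injective Φ := fun f f' h => ext_fun fun x => congrFun h x
  haveI : NoZeroDivisors Φ.range := ⟨fun {a b} hab => by
    obtain ⟨_, f, rfl⟩ := a
    obtain ⟨_, f', rfl⟩ := b
    have h0 : Φ (f * f') = 0 := by rw [map_mul]; exact congrArg Subtype.val hab
    rcases mul_eq_zero.mp (hinj (h0.trans (map_zero Φ).symm)) with h | h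
    · exact Or.inl (Subtype.ext ((congrArg Φ h).trans (map_zero Φ)))
    · exact Or.inr (Subtype.ext ((congrArg Φ h).trans (map_zero Φ)))⟩
  refine observable_of_charCrit i fun χ hχ hwt => ?_
  obtain ⟨V, _, _, _, ρ, v, hv0, hv⟩ := exists_vector_of_isWt i χ hwt
  let ρ' : Representation k (P G) V :=
    { toFun := act ρ
      map_one' := LinearMap.ext fun w => act_one ρ w
      map_mul' := fun x y => LinearMap.ext fun w => act_mul ρ x y w }
  obtain ⟨_, ⟨f, rfl⟩, hf1, hfe⟩ := exists_inverse_eigenfn (R := Φ.range) (Module.finrank k V) le_rfl ρ'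
    (fun w l => ⟨coef ρ l w, funext fun x => ev_coef ρ x l w⟩)
    (fun w l => ⟨ι[G].left.appTop (coef ρ l w), funext fun x => by
      show ev x (ι[G].left.appTop (coef ρ l w)) = _
      rw [ev_appTop_inv, ev_coef]
      rfl⟩) v hv0
  refine ⟨f, fun h0 => one_ne_zero (α := k) ?_, fun x h => ?_⟩
  · rw [← hf1, h0, map_zero]
    rfl
  · have h1 := hfe x (h ≫ i) _ ((semi_iff ρ i χ v).mp hv h)
    show ev (x * (h ≫ i)) f = ev h (Red.gmFn χ⁻¹) * ev x f
    rw [ev_gmFn_inv, show ev x f = _ from h1.symm, inv_mul_cancel_left₀ (ev_gmFn_ne χ h)]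
    rfl

open Groth.Agent.H63.GrpIdentity in
/-- The identity component is an open subgroup. -/
theorem identity_props (X : Over (Spec (CommRingCat.of k))) [GrpObj X] [Smooth X.hom] :
    IsOpenImmersion (idHom X).left ∧ IsClosedImmersion (idHom X).left ∧ Smooth (idObj X).hom ∧
      ConnectedSpace (idObj X).left := by
  haveI : IsClosedImmersion (idHom X).left := isClosedImmersion_idIncl X
  haveI : Flat (idHom X).left := flat_idIncl X
  haveI : IsLocallyNoetherian X.left := LocallyOfFiniteType.isLocallyNoetherian X.hom
  haveI : LocallyOfFinitePresentation (idHom X).left := inferInstance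
  haveI : IsOpenImmersion (idHom X).left := IsOpenImmersion.of_flat_of_mono _
  letI := idGrp X
  refine ⟨inferInstance, inferInstance, smooth_of_open (idHom X), ?_⟩
  have h : _root_.IsConnected (Set.range (idHom X).left) := by
    rw [show Set.range (idHom X).left = _ from range_idIncl X]
    exact isIrreducible_irreducibleComponent.isConnected
  rw [connectedSpace_iff_univ]
  refine ⟨(Set.range_nonempty_iff_nonempty.mp h.nonempty).elim fun x => ⟨x, trivial⟩, ?_⟩
  rw [← (idHom X).left.isClosedEmbedding.isInducing.isPreconnected_image, Set.image_univ]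
  exact h.isPreconnected

open Groth.Agent.H63.GrpIdentity in
/-- Subgroups of a solvable group are observable. -/
theorem observable_of_solvable [Group.IsSolvable (P G)] (i : H ⟶ G) [IsMonHom i]
    [IsClosedImmersion i.left] : AGF.IsObservableIn k i := by
  obtain ⟨hGo, hGc, hGs, hGconn⟩ := identity_props G
  obtain ⟨hHo, hHc, hHs, hHconn⟩ := identity_props H
  letI := idGrp G
  letI := idGrp H
  haveI := isMonHom_idHom G
  haveI := isMonHom_idHom H
  haveI : IsAffine (idObj G).left := isAffine_of_isAffineHom (idHom G).left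
  haveI : IsAffine (idObj H).left := isAffine_of_isAffineHom (idHom H).left
  obtain ⟨i₀, hc⟩ := exists_lift G (idHom H ≫ i) fun t => by
    haveI := hHconn
    rw [← range_idIncl]
    have hclopen : IsClopen (Set.range (idHom G).left) :=
      ⟨(idHom G).left.isClosedEmbedding.isClosed_range, (idHom G).left.isOpenEmbedding.isOpen_range⟩
    refine (isPreconnected_range (idHom H ≫ i).left.continuous).subset_isClopen hclopen
      ⟨η[G].left (IsLocalRing.closedPoint k), ⟨η[idObj H].left (IsLocalRing.closedPoint k), ?_⟩,
        η[idObj G].left (IsLocalRing.closedPoint k), ?_⟩ ⟨t, rfl⟩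
    · rw [← Scheme.Hom.comp_apply, ← Over.comp_left, IsMonHom.one_hom]
    · rw [← Scheme.Hom.comp_apply, ← Over.comp_left, IsMonHom.one_hom]
  haveI : IsMonHom i₀ :=
    { one_hom := by rw [← cancel_mono (idHom G), Category.assoc, hc, IsMonHom.one_hom, IsMonHom.one_hom]
      mul_hom := by
        rw [← cancel_mono (idHom G), Category.assoc, hc, IsMonHom.mul_hom, Category.assoc, IsMonHom.mul_hom (idHom G),
          MonoidalCategory.tensorHom_comp_tensorHom_assoc, hc] }
  haveI : IsClosedImmersion (i₀.left ≫ (idHom G).left) := by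
    rw [← Over.comp_left, hc, Over.comp_left]
    infer_instance
  haveI : IsClosedImmersion i₀.left := IsClosedImmersion.of_comp i₀.left (idHom G).left
  haveI : Group.IsSolvable (P (idObj G)) := Group.isSolvable_of_isSolvable_injective
    (f := { toFun := fun x => x ≫ idHom G, map_one' := MonObj.one_comp _, map_mul' := fun x y => MonObj.mul_comp x y _ })
    fun x y h => comp_left_injective (idHom G) h
  refine observable_of_open_comp (idHom H) i ?_
  rw [← hc]
  exact observable_comp (idHom G) i₀ (observable_of_solvable_connected i₀) (observable_of_open (idHom G))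

end Groth.Agent.H1.Obs
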