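import Groth.Agent.H1.Obs.Extend

/-!
# Observable subgroups: consequences
-/

universe u

open CategoryTheory Limits MonoidalCategory CartesianMonoidalCategory MonObj GrpObj AlgebraicGeometry
open scoped TensorProduct

namespace Groth.Agent.H1.Obs

set_option linter.style.haveILetI false
set_option linter.unusedSectionVars false

open Groth.Agent.Lib.RedPts Groth.Agent.Lib.RedPts.Points Classical.Scheme' Groth.Agent.H1.RInv Groth.Agent.Lib.GrpQ

attribute [local instance] baseAlgebra

variable {k : Type u} [Field k] [IsAlgClosed k] {G K H : Over (Spec (CommRingCat.of k))} [GrpObj G] [GrpObj K] [GrpObj H]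
  [IsAffine G.left] [Smooth G.hom] [IsAffine K.left] [Smooth K.hom] [IsAffine H.left] [Smooth H.hom]

/-- An equivariant map on points. -/
theorem map_act_of_equivariant (i : H ⟶ G) {V W : Type u} [AddCommGroup V] [Module k V] [AddCommGroup W] [Module k W]
    (σ : VecGrp.GMod H V) (ρ : VecGrp.GMod G W) (φ : V →ₗ[k] W)
    (h : ∀ (B : Type u) [CommRing B] [Algebra k B] (h : VecGrp.pt k B ⟶ H) (x : B ⊗[k] V),
      φ.baseChange B (σ.ρ B h x) = ρ.ρ B (h ≫ i) (φ.baseChange B x)) (x : P H) (v : V) :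
    φ (act σ x v) = act ρ (x ≫ i) (φ v) := by
  have h1 := h k (toPt x) ((1 : k) ⊗ₜ v)
  rw [act_apply, LinearMap.baseChange_tmul, LinearMap.baseChange_tmul, ← toPt_comp, act_apply] at h1
  simpa using congrArg (TensorProduct.lid k W) h1

/-- Observability is transitive. -/
theorem observable_comp (j : K ⟶ G) [IsMonHom j] [IsClosedImmersion j.left] (i : H ⟶ K) [IsMonHom i]
    [IsClosedImmersion i.left] (hH : AGF.IsObservableIn k i) (hK : AGF.IsObservableIn k j) :
    AGF.IsObservableIn k (i ≫ j) := by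
  obtain ⟨s, hs, hsep⟩ := exists_sep_of_observable i hH
  obtain ⟨n, σ, v, hv⟩ := exists_stab_of_sep i s hs hsep
  obtain ⟨W, _, _, _, ρ, φ, hφ, heq⟩ := extendsAlong_of_observable j hK _ σ
  refine (isObservableIn_iff _).mpr fun g hg => ?_
  obtain ⟨g', rfl⟩ := (isObservableIn_iff j).mp hK g fun f hf => hg f fun x h => by
    rw [← Category.assoc]
    exact hf x (h ≫ i)
  have hvh : ∀ h : P H, act σ (h ≫ i) v = v := fun h => by
    apply (TensorProduct.lid k (Fin n → k)).symm.injective
    rw [TensorProduct.lid_symm_apply, TensorProduct.lid_symm_apply, ← act_apply]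
    exact (hv _).mpr ⟨toPt h, (toPt_comp h i).symm⟩
  have hfix : act σ g' v = v := hφ (by
    rw [map_act_of_equivariant j σ ρ φ heq]
    exact act_eq_of_inHull (i ≫ j) ρ (fun h => by rw [← Category.assoc, ← map_act_of_equivariant j σ ρ φ heq, hvh]) hg)
  obtain ⟨h, hh⟩ := (hv (toPt g')).mp (by rw [act_apply, hfix])
  exact ⟨ofPt h, by rw [← Category.assoc, ← ofPt_comp, hh, ofPt_toPt]⟩

/-- The invariance of a fraction on points. -/
theorem frac_iff (i : H ⟶ G) (a b : Γ(G.left, ⊤)) :
    ((G ◁ i) ≫ μ[G]).left.appTop a * (fst G H).left.appTop b = (fst G H).left.appTop a * ((G ◁ i) ≫ μ[G]).left.appTop b ↔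
      ∀ (x : P G) (h : P H), ev (x * (h ≫ i)) a * ev x b = ev x a * ev (x * (h ≫ i)) b := by
  constructor
  · intro h x t
    have h' := congrArg (ev (lift x t)) h
    rwa [map_mul, map_mul, ← ev_comp, ← ev_comp, ← ev_comp, ← ev_comp, lift_whiskerLeft_assoc, lift_fst,
      ← Hom.mul_def] at h'
  · intro h
    haveI : IsAffine (G ⊗ H).left := inferInstanceAs (IsAffine (pullback G.hom H.hom))
    haveI : Smooth (G ⊗ H).hom := inferInstanceAs (Smooth (pullback.fst G.hom H.hom ≫ G.hom))
    haveI : IsReduced (G ⊗ H).left := Groth.Agent.Lib.GrpSch.isReduced_of_smooth_field (G ⊗ H).hom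
    haveI : LocallyOfFiniteType (G ⊗ H).hom := inferInstance
    refine ext_points fun p => ?_
    have h' := h (p ≫ fst G H) (p ≫ snd G H)
    rw [show (p ≫ fst G H) * ((p ≫ snd G H) ≫ i) = p ≫ (G ◁ i) ≫ μ[G] by
      rw [Hom.mul_def, Category.assoc, ← comp_lift_assoc]
      congr 2] at h'
    rwa [map_mul, map_mul, ← ev_comp, ← ev_comp, ← ev_comp, ← ev_comp]

end Groth.Agent.H1.Obs
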