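import Groth.Agent.H1.Obs.Rep

/-!
# Observable subgroups: separation by invariants
-/

universe u

open CategoryTheory Limits MonoidalCategory CartesianMonoidalCategory MonObj GrpObj AlgebraicGeometry
open scoped TensorProduct

namespace Groth.Agent.H1.Obs

set_option linter.style.haveILetI false
set_option linter.unusedSectionVars false

open Groth.Agent.Lib.RedPts Groth.Agent.Lib.RedPts.Points Classical.Scheme' Groth.Agent.H1.RInv Groth.Agent.Lib.GrpQ

attribute [local instance] baseAlgebra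

variable {k : Type u} [Field k] {G H : Over (Spec (CommRingCat.of k))} [GrpObj G] [GrpObj H]

/-- Invariance under right translation by the rational points of a subgroup. -/
def Inv (i : H ⟶ G) (f : Γ(G.left, ⊤)) : Prop := ∀ (x : P G) (h : P H), ev (x * (h ≫ i)) f = ev x f

/-- The observable hull on points. -/
def InHull (i : H ⟶ G) (g : P G) : Prop := ∀ f, Inv i f → ∀ x : P G, ev (x * g) f = ev x f

variable (i : H ⟶ G)

theorem Inv.ltr {f : Γ(G.left, ⊤)} (hf : Inv i f) (y : P G) : Inv i (Obs.ltr y f) :=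
  fun x h => by rw [ev_ltr, ev_ltr, ← _root_.mul_assoc, hf]

theorem inHull_of_ev_one {g : P G} (h : ∀ f, Inv i f → ev g f = ev 1 f) : InHull i g := fun f hf x => by
  have := h _ (hf.ltr i x)
  rwa [ev_ltr, ev_ltr, _root_.mul_one] at this

variable [IsAlgClosed k] [IsAffine G.left] [Smooth G.hom] [IsAffine H.left] [Smooth H.hom]

theorem isRTransInv_iff (f : Γ(G.left, ⊤)) : AGF.IsRTransInv i f ↔ Inv i f := rTransInv_iff i f

theorem inHull_iff (g : VecGrp.pt k k ⟶ G) :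
    (∀ f : Γ(G.left, ⊤), AGF.IsRTransInv i f → AGF.IsRTransInv g f) ↔ InHull i (ofPt g) :=
  forall_congr' fun f => by rw [isRTransInv_iff, rTransInv_pt_iff]

theorem isObservableIn_iff : AGF.IsObservableIn k i ↔ ∀ g : P G, InHull i g → ∃ h : P H, h ≫ i = g := by
  constructor
  · intro hobs g hg
    obtain ⟨h, hh⟩ := hobs (toPt g) ((inHull_iff i _).mpr (by rwa [ofPt_toPt]))
    exact ⟨ofPt h, by rw [← ofPt_comp, hh, ofPt_toPt]⟩
  · intro hobs g hg
    obtain ⟨h, hh⟩ := hobs (ofPt g) ((inHull_iff i g).mp hg)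
    exact ⟨toPt h, by rw [← toPt_comp, hh, toPt_ofPt]⟩

/-- Finitely many invariants separate what all invariants separate. -/
theorem exists_finset_sep : ∃ s : Finset Γ(G.left, ⊤), (∀ f ∈ s, Inv i f) ∧
    ∀ x y : P G, (∀ f ∈ s, ev x f = ev y f) → ∀ f, Inv i f → ev x f = ev y f := by
  classical
  haveI : Algebra.FiniteType k Γ(G.left, ⊤) := RInv.finiteType_Γ (G := G)
  haveI : Algebra.FiniteType k (Γ(G.left, ⊤) ⊗[k] Γ(G.left, ⊤)) :=
    Algebra.FiniteType.trans (S := Γ(G.left, ⊤)) inferInstance inferInstance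
  haveI : IsNoetherianRing (Γ(G.left, ⊤) ⊗[k] Γ(G.left, ⊤)) := Algebra.FiniteType.isNoetherianRing k _
  let d : Γ(G.left, ⊤) → Γ(G.left, ⊤) ⊗[k] Γ(G.left, ⊤) := fun f => f ⊗ₜ 1 - 1 ⊗ₜ f
  obtain ⟨t, hts, ht⟩ := Submodule.fg_span_iff_fg_span_finset_subset (d '' {f | Inv i f}) |>.mp
    ((isNoetherianRing_iff_ideal_fg _).mp ‹_› (Ideal.span (d '' {f | Inv i f})))
  choose φ hφ hd using fun z : t => hts z.2
  refine ⟨t.attach.image φ, fun f hf => by obtain ⟨z, -, rfl⟩ := Finset.mem_image.mp hf; exact hφ z,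
    fun x y hxy f hf => ?_⟩
  let E := Algebra.TensorProduct.lift (evA x) (evA y) fun _ _ => Commute.all _ _
  have hle : Submodule.span _ (t : Set (Γ(G.left, ⊤) ⊗[k] Γ(G.left, ⊤))) ≤ RingHom.ker E := by
    rw [Submodule.span_le]
    intro z hz
    have := hxy (φ ⟨z, hz⟩) (Finset.mem_image_of_mem φ (Finset.mem_attach _ _))
    show E z = 0
    exact (congrArg E (hd ⟨z, hz⟩)).symm.trans (by simp [E, d, evA_apply, this])
  have h : E (d f) = 0 := hle (ht ▸ Submodule.subset_span ⟨f, hf, rfl⟩)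
  simpa [E, d, evA_apply, sub_eq_zero] using h

/-- (i) ⇒ (iii). -/
theorem exists_sep_of_observable (h : AGF.IsObservableIn k i) : ∃ s : Finset Γ(G.left, ⊤), (∀ f ∈ s, Inv i f) ∧
    ∀ x y : P G, (∀ f ∈ s, ev x f = ev y f) → ∃ z : P H, y = x * (z ≫ i) := by
  obtain ⟨s, hs, hsep⟩ := exists_finset_sep i
  refine ⟨s, hs, fun x y hxy => ?_⟩
  obtain ⟨z, hz⟩ := (isObservableIn_iff i).mp h (x⁻¹ * y) (inHull_of_ev_one i fun f hf => by
    have := hsep x y hxy _ (hf.ltr i x⁻¹)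
    rw [ev_ltr, ev_ltr, inv_mul_cancel] at this
    exact this.symm)
  exact ⟨z, by rw [hz, mul_inv_cancel_left]⟩

/-- An invariant vector is fixed by the hull. -/
theorem act_eq_of_inHull [IsMonHom i] {M : Type u} [AddCommGroup M] [Module k M] (ρ : VecGrp.GMod G M) {v : M}
    (hv : ∀ h : P H, act ρ (h ≫ i) v = v) {g : P G} (hg : InHull i g) : act ρ g v = v := by
  refine sub_eq_zero.mp ((Module.forall_dual_apply_eq_zero_iff k _).mp fun l => ?_)
  have h1 : Inv i (coef ρ l v) := fun x h => by rw [ev_coef, ev_coef, act_mul, hv]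
  have h2 := hg _ h1 1
  rw [_root_.one_mul, ev_coef, ev_coef, act_one] at h2
  rw [map_sub, h2, sub_self]

/-- (ii) ⇒ (i). -/
theorem observable_of_stab [IsMonHom i] {M : Type u} [AddCommGroup M] [Module k M] (ρ : VecGrp.GMod G M) (v : M)
    (hv : AGF.IsStabOnPts k i ρ v) : AGF.IsObservableIn k i := by
  refine (isObservableIn_iff i).mpr fun g hg => ?_
  have hfix : ∀ h : P H, act ρ (h ≫ i) v = v := fun h => by
    apply (TensorProduct.lid k M).symm.injective
    rw [TensorProduct.lid_symm_apply, TensorProduct.lid_symm_apply, ← act_apply, toPt_comp]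
    exact (hv _).mpr ⟨toPt h, rfl⟩
  obtain ⟨h, hh⟩ := (hv (toPt g)).mp (by rw [act_apply, act_eq_of_inHull i ρ hfix hg])
  exact ⟨ofPt h, by rw [← ofPt_comp, hh, ofPt_toPt]⟩

/-- (iii) ⇒ (ii). -/
theorem exists_stab_of_sep (s : Finset Γ(G.left, ⊤)) (hs : ∀ f ∈ s, Inv i f)
    (hsep : ∀ x y : P G, (∀ f ∈ s, ev x f = ev y f) → ∃ z : P H, y = x * (z ≫ i)) :
    ∃ (n : ℕ) (ρ : VecGrp.GMod G (Fin n → k)) (v : Fin n → k), AGF.IsStabOnPts k i ρ v := by
  obtain ⟨n, ρ, v, hv⟩ := exists_gmod_tuple (fun l : s => (l : Γ(G.left, ⊤)))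
  refine ⟨n, ρ, v, fun g => ?_⟩
  rw [← toPt_ofPt g, act_apply]
  constructor
  · intro h
    have h' := (hv (ofPt g)).mp (by simpa using congrArg (TensorProduct.lid k _) h)
    obtain ⟨z, hz⟩ := hsep 1 (ofPt g) fun f hf => by
      have := congrArg (ev (1 : P G)) (h' ⟨f, hf⟩)
      rw [ev_rtr, _root_.one_mul] at this
      exact this.symm
    exact ⟨toPt z, by rw [← toPt_comp, ← _root_.one_mul (z ≫ i), ← hz]⟩
  · rintro ⟨h, hh⟩
    rw [(hv (ofPt g)).mpr fun l => ext_fun fun x => by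
      rw [ev_rtr, show ofPt g = ofPt h ≫ i by rw [← ofPt_comp, hh, toPt_ofPt], hs l l.2]]

theorem sep_pt_iff (s : Finset Γ(G.left, ⊤)) :
    (∀ g g' : VecGrp.pt k k ⟶ G, (∀ f ∈ s, g.left.appTop f = g'.left.appTop f) →
      ∃ h : VecGrp.pt k k ⟶ H, g' = g * (h ≫ i)) ↔
    ∀ x y : P G, (∀ f ∈ s, ev x f = ev y f) → ∃ z : P H, y = x * (z ≫ i) := by
  have e : ∀ (g : VecGrp.pt k k ⟶ G) (f : Γ(G.left, ⊤)),
      ev (ofPt g) f = (Scheme.ΓSpecIso (CommRingCat.of k)).hom (g.left.appTop f) := fun g f => by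
    rw [← evB_ofPt, evB_apply]
  constructor
  · intro h x y hxy
    obtain ⟨z, hz⟩ := h (toPt x) (toPt y) fun f hf =>
      (Scheme.ΓSpecIso (CommRingCat.of k)).commRingCatIsoToRingEquiv.injective
        (((e _ f).symm.trans (by rw [ofPt_toPt, ofPt_toPt, hxy f hf])).trans (e _ f))
    exact ⟨ofPt z, by rw [← ofPt_toPt y, hz, ofPt_mul, ofPt_toPt, ofPt_comp]⟩
  · intro h g g' hgg
    obtain ⟨z, hz⟩ := h (ofPt g) (ofPt g') fun f hf => by rw [e, e, hgg f hf]
    exact ⟨toPt z, by rw [← toPt_ofPt g', hz, toPt_mul, toPt_ofPt, toPt_comp]⟩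

end Groth.Agent.H1.Obs
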