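import Groth.Agent.H1.Obs.QuotAffine
import Mathlib.Algebra.Category.Ring.Constructions
import Mathlib.RingTheory.Flat.Basic

/-!
# Extending increments along an affine quotient
-/

universe u

open CategoryTheory Limits MonoidalCategory CartesianMonoidalCategory MonObj GrpObj AlgebraicGeometry
open scoped TensorProduct

namespace Groth.Agent.H1.Obs

set_option linter.style.haveILetI false
set_option linter.unusedSectionVars false
set_option maxHeartbeats 1000000
set_option synthInstance.maxHeartbeats 80000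

open Groth.Agent.Lib.RedPts Groth.Agent.Lib.RedPts.Points Classical.Scheme' Groth.Agent.H1.RInv

attribute [local instance] baseAlgebra

variable {k : Type u} [Field k] [IsAlgClosed k] {G H U X : Over (Spec (CommRingCat.of k))} [GrpObj G] [GrpObj H]
  [GrpObj U] [IsAffine G.left] [Smooth G.hom] [IsAffine H.left] [Smooth H.hom] [IsAffine U.left] [Smooth U.hom]

/-- If the quotient is affine, functions with increments along a subgroup of `H` extend to `G`. -/
theorem exists_increment_extend (i : H ⟶ G) [IsMonHom i] (u : U ⟶ H) [IsMonHom u] {a : AlgGrp.Action G X}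
    {o : 𝟙_ (Over (Spec (CommRingCat.of k))) ⟶ X} (hX : AGF.IsQuotient i X a o) [IsAffine X.left]
    (f : Γ(H.left, ⊤)) (c : Γ(U.left, ⊤)) (hf : ∀ (x : P H) (t : P U), ev (x * (t ≫ u)) f = ev x f + ev t c) :
    ∃ F : Γ(G.left, ⊤), ∀ (x : P G) (t : P U), ev (x * (t ≫ u ≫ i)) F = ev x F + ev t c := by
  classical
  obtain ⟨-, hflat, hsurj, hpb⟩ := hX
  haveI := hflat
  haveI := hsurj
  set q := a.orbitMap o
  let m : G ⊗ H ⟶ G := (G ◁ i) ≫ μ[G]
  letI : Algebra Γ(X.left, ⊤) Γ(G.left, ⊤) := q.left.appTop.hom.toAlgebra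
  haveI : IsScalarTower k Γ(X.left, ⊤) Γ(G.left, ⊤) := IsScalarTower.of_algebraMap_eq fun r => by
    have h := congrArg (fun f => f.hom ((Scheme.ΓSpecIso (CommRingCat.of k)).inv r))
      (congrArg Scheme.Hom.appTop (Over.w q))
    simp only [Scheme.Hom.comp_appTop, CommRingCat.hom_comp, RingHom.comp_apply] at h
    exact h.symm
  haveI : Module.Flat Γ(X.left, ⊤) Γ(G.left, ⊤) := (RingHom.flat_algebraMap_iff).mp (Scheme.Hom.flat_appTop q.left)
  haveI : IsAffine (G ⊗ H).left := inferInstanceAs (IsAffine (pullback G.hom H.hom))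
  haveI : Smooth (G ⊗ H).hom := inferInstanceAs (Smooth (pullback.fst G.hom H.hom ≫ G.hom))
  haveI : IsReduced (G ⊗ H).left := Groth.Agent.Lib.GrpSch.isReduced_of_smooth_field (G ⊗ H).hom
  haveI : IsReduced G.left := Groth.Agent.Lib.GrpSch.isReduced_of_smooth_field G.hom
  haveI : IsReduced U.left := Groth.Agent.Lib.GrpSch.isReduced_of_smooth_field U.hom
  have hP1 : IsPushout q.left.appTop q.left.appTop (fst G H).left.appTop m.left.appTop :=
    isPushout_appTop_of_isPullback (hpb.map (Over.forget _))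
  have hP2 := CommRingCat.isPushout_tensorProduct Γ(X.left, ⊤) Γ(G.left, ⊤) Γ(G.left, ⊤)
  let e := hP2.isoIsPushout _ _ hP1
  let θ : Γ(G.left, ⊤) ⊗[Γ(X.left, ⊤)] Γ(G.left, ⊤) →+* Γ((G ⊗ H).left, ⊤) := e.hom.hom
  have hθl : ∀ s, θ (s ⊗ₜ 1) = (fst G H).left.appTop s := fun s =>
    ConcreteCategory.congr_hom (IsPushout.inl_isoIsPushout_hom _ _ hP2 hP1) s
  have hθr : ∀ s, θ (1 ⊗ₜ s) = m.left.appTop s := fun s =>
    ConcreteCategory.congr_hom (IsPushout.inr_isoIsPushout_hom _ _ hP2 hP1) s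
  have hθb : Function.Bijective θ := e.commRingCatIsoToRingEquiv.bijective
  have hθev : ∀ (x : P G) (h : P H) (s t : Γ(G.left, ⊤)),
      ev (lift x h) (θ (s ⊗ₜ t)) = ev x s * ev (x * (h ≫ i)) t := fun x h s t => by
    rw [show s ⊗ₜ[Γ(X.left, ⊤)] t = (s ⊗ₜ 1) * (1 ⊗ₜ t) by
      rw [Algebra.TensorProduct.tmul_mul_tmul, _root_.mul_one, _root_.one_mul], map_mul, map_mul, hθl, hθr,
      ← ev_comp, ← ev_comp, lift_fst, lift_whiskerLeft_assoc, ← Hom.mul_def]
  have hzero : ∀ z, (∀ (x : P G) (h : P H), ev (lift x h) (θ z) = 0) → z = 0 := fun z hz => by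
    refine hθb.1 ((ext_points fun p => ?_).trans (map_zero θ).symm)
    rw [map_zero, show p = lift (p ≫ fst G H) (p ≫ snd G H) from (lift_comp_fst_snd p).symm]
    exact hz _ _
  obtain ⟨z₀, hz₀⟩ := hθb.2 ((snd G H).left.appTop f)
  have hqinv : ∀ (r : Γ(X.left, ⊤)) (x : P G) (h : P H),
      ev (x * (h ≫ i)) (algebraMap Γ(X.left, ⊤) Γ(G.left, ⊤) r) = ev x (algebraMap Γ(X.left, ⊤) Γ(G.left, ⊤) r) :=
    fun r x h => by
      show ev (x * (h ≫ i)) (q.left.appTop r) = ev x (q.left.appTop r)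
      rw [← ev_comp, ← ev_comp, ← Lib.Homog.comp_mulPair, Category.assoc, ← hpb.w, lift_fst_assoc]
  have hrtrq : ∀ (t : P U) (r : Γ(X.left, ⊤)),
      rtr (t ≫ u ≫ i) (algebraMap Γ(X.left, ⊤) Γ(G.left, ⊤) r) = algebraMap Γ(X.left, ⊤) Γ(G.left, ⊤) r := fun t r =>
    ext_points fun x => by rw [ev_rtr, ← Category.assoc, hqinv]
  -- the difference map
  let ρU := pullMod (regular G) (u ≫ i)
  have hact : ∀ (t : P U) (F : Γ(G.left, ⊤)), act ρU t F = rtr (t ≫ u ≫ i) F := fun t F => by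
    rw [act_pullMod, act_regular]
  let Δ : Γ(G.left, ⊤) → Γ(G.left, ⊤) ⊗[k] Γ(U.left, ⊤) := fun F =>
    TensorProduct.comm k Γ(U.left, ⊤) Γ(G.left, ⊤) (ρU.ρ _ (univPt U) ((1 : Γ(U.left, ⊤)) ⊗ₜ F))
  have hfix : ∀ r : Γ(X.left, ⊤), Δ (algebraMap Γ(X.left, ⊤) Γ(G.left, ⊤) r) =
      (algebraMap Γ(X.left, ⊤) Γ(G.left, ⊤) r) ⊗ₜ 1 := fun r => by
    show TensorProduct.comm k _ _ _ = _
    rw [show ρU.ρ _ (univPt U) ((1 : Γ(U.left, ⊤)) ⊗ₜ algebraMap Γ(X.left, ⊤) Γ(G.left, ⊤) r) =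
      (1 : Γ(U.left, ⊤)) ⊗ₜ algebraMap Γ(X.left, ⊤) Γ(G.left, ⊤) r from eq_of_points fun t => by
        rw [Wmap_univ, VecGrp.Wmap_tmul, map_one, hact, hrtrq], TensorProduct.comm_tmul]
  have hΔmul : ∀ F F', Δ (F * F') = Δ F * Δ F' := fun F F' => by
    show (Algebra.TensorProduct.comm k Γ(U.left, ⊤) Γ(G.left, ⊤)) _ =
      (Algebra.TensorProduct.comm k Γ(U.left, ⊤) Γ(G.left, ⊤)) _ * (Algebra.TensorProduct.comm k Γ(U.left, ⊤) Γ(G.left, ⊤)) _
    rw [← map_mul, ← (pullMod_isMult (u ≫ i) regular_isMult _ (univPt U)).1,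
      Algebra.TensorProduct.tmul_mul_tmul, _root_.one_mul]
  let D : Γ(X.left, ⊤) × Γ(G.left, ⊤) →ₗ[Γ(X.left, ⊤)] Γ(G.left, ⊤) ⊗[k] Γ(U.left, ⊤) :=
    { toFun := fun p => Δ p.2 - p.2 ⊗ₜ 1 - (algebraMap Γ(X.left, ⊤) Γ(G.left, ⊤) p.1) ⊗ₜ c
      map_add' := fun p p' => by
        simp only [Δ, Prod.fst_add, Prod.snd_add, map_add, TensorProduct.tmul_add, TensorProduct.add_tmul]
        abel
      map_smul' := fun r p => by
        rw [show (r • p).1 = r * p.1 from rfl, show (r • p).2 = algebraMap _ Γ(G.left, ⊤) r * p.2 from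
          Algebra.smul_def _ _]
        simp only [map_mul, hΔmul, hfix, RingHom.id_apply, Algebra.smul_def, Algebra.TensorProduct.algebraMap_apply,
          Algebra.algebraMap_self, mul_sub, Algebra.TensorProduct.tmul_mul_tmul, _root_.one_mul] }
  let evU : P U → Γ(G.left, ⊤) ⊗[k] Γ(U.left, ⊤) → Γ(G.left, ⊤) := fun t w =>
    TensorProduct.lid k _ (VecGrp.Wmap (evA t) (TensorProduct.comm k _ _ w))
  have hevU : ∀ t p, evU t (D p) =
      rtr (t ≫ u ≫ i) p.2 - p.2 - ev t c • algebraMap Γ(X.left, ⊤) Γ(G.left, ⊤) p.1 := fun t p => by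
    have h1 : ∀ w, TensorProduct.comm k Γ(G.left, ⊤) Γ(U.left, ⊤) (TensorProduct.comm k Γ(U.left, ⊤) Γ(G.left, ⊤) w) = w :=
      fun w => (TensorProduct.comm k _ _).symm_apply_apply w
    show TensorProduct.lid k _ (VecGrp.Wmap (evA t) (TensorProduct.comm k _ _ (Δ p.2 - _ - _))) = _
    simp only [map_sub, Δ, h1, TensorProduct.comm_tmul, Wmap_univ, VecGrp.Wmap_tmul, map_one, TensorProduct.lid_tmul,
      one_smul, hact, evA_apply]
  let Ψ : Γ(G.left, ⊤) ⊗[Γ(X.left, ⊤)] (Γ(X.left, ⊤) × Γ(G.left, ⊤)) :=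
    (1 : Γ(G.left, ⊤)) ⊗ₜ ((1 : Γ(X.left, ⊤)), (0 : Γ(G.left, ⊤))) +
      LinearMap.lTensor Γ(G.left, ⊤) (LinearMap.inr Γ(X.left, ⊤) Γ(X.left, ⊤) Γ(G.left, ⊤)) z₀
  have hΨ : LinearMap.lTensor Γ(G.left, ⊤) D Ψ = 0 := by
    let α := (TensorProduct.AlgebraTensorModule.assoc k Γ(X.left, ⊤) Γ(X.left, ⊤) Γ(G.left, ⊤) Γ(G.left, ⊤) Γ(U.left, ⊤)).symm
    apply α.injective
    rw [map_zero]
    apply (TensorProduct.comm k _ Γ(U.left, ⊤)).injective
    rw [map_zero]
    refine eq_of_points fun t => ?_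
    rw [map_zero]
    apply (TensorProduct.lid k _).injective
    rw [map_zero]
    refine hzero _ fun x h => ?_
    let L : Γ(X.left, ⊤) × Γ(G.left, ⊤) →ₗ[Γ(X.left, ⊤)] Γ(G.left, ⊤) :=
      { toFun := fun p => evU t (D p)
        map_add' := fun p p' => by
          rw [hevU, hevU, hevU]
          simp only [Prod.fst_add, Prod.snd_add, map_add, smul_add]
          abel
        map_smul' := fun r p => by
          simp only [hevU, Prod.smul_fst, Prod.smul_snd, RingHom.id_apply, smul_sub]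
          rw [Algebra.smul_def r p.2, map_mul, hrtrq, smul_eq_mul, map_mul, Algebra.smul_def r (rtr _ _), ← smul_comm,
            Algebra.smul_def r (algebraMap _ _ p.1)] }
    have hnat : ∀ w, TensorProduct.lid k _ (VecGrp.Wmap (evA t) (TensorProduct.comm k _ Γ(U.left, ⊤)
        (α (LinearMap.lTensor Γ(G.left, ⊤) D w)))) = LinearMap.lTensor Γ(G.left, ⊤) L w := fun w => by
      induction w using TensorProduct.induction_on with
      | zero => simp
      | add p q hp hq => simp only [map_add, hp, hq]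
      | tmul s p =>
        rw [LinearMap.lTensor_tmul, LinearMap.lTensor_tmul]
        show _ = s ⊗ₜ[Γ(X.left, ⊤)] evU t (D p)
        generalize D p = d
        induction d using TensorProduct.induction_on with
        | zero => simp [evU]
        | add p q hp hq => simp only [TensorProduct.tmul_add, map_add, hp, hq, evU] at *
        | tmul a b => simp [α, evU, evA_apply, TensorProduct.smul_tmul']
    rw [hnat]
    have hev : ∀ w, ev (lift x h) (θ (LinearMap.lTensor Γ(G.left, ⊤) L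
        (LinearMap.lTensor Γ(G.left, ⊤) (LinearMap.inr Γ(X.left, ⊤) Γ(X.left, ⊤) Γ(G.left, ⊤)) w))) =
        ev (lift x (h * (t ≫ u))) (θ w) - ev (lift x h) (θ w) := fun w => by
      induction w using TensorProduct.induction_on with
      | zero => simp
      | add p q hp hq => simp only [map_add, hp, hq]; abel
      | tmul s p =>
        rw [LinearMap.lTensor_tmul, LinearMap.lTensor_tmul, hθev, hθev, hθev]
        show _ * ev _ (evU t (D ((0 : Γ(X.left, ⊤)), p))) = _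
        rw [hevU, map_zero, smul_zero, sub_zero, map_sub, ev_rtr, MonObj.mul_comp, Category.assoc, _root_.mul_assoc]
        ring
    rw [map_add, map_add, map_add, hev, hz₀, LinearMap.lTensor_tmul, hθev, ← ev_comp, ← ev_comp, lift_snd, lift_snd, hf]
    show _ * ev _ (evU t (D ((1 : Γ(X.left, ⊤)), (0 : Γ(G.left, ⊤))))) + _ = _
    simp only [hevU, map_zero, map_one, sub_zero, zero_sub, map_neg, Algebra.smul_def, _root_.mul_one, ev_const,
      _root_.one_mul]
    ring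
  obtain ⟨z, hz⟩ := (Module.Flat.lTensor_exact Γ(G.left, ⊤) (LinearMap.exact_subtype_ker_map D) Ψ).mp hΨ
  let J : Ideal Γ(X.left, ⊤) := (LinearMap.ker D).map (LinearMap.fst Γ(X.left, ⊤) Γ(X.left, ⊤) Γ(G.left, ⊤))
  have hJ : J = ⊤ := by
    by_contra hne
    obtain ⟨M, hM, hle⟩ := Ideal.exists_le_maximal J hne
    have h1 : ∀ w : Γ(G.left, ⊤) ⊗[Γ(X.left, ⊤)] LinearMap.ker D,
        TensorProduct.rid Γ(X.left, ⊤) Γ(G.left, ⊤) (LinearMap.lTensor Γ(G.left, ⊤)
          (LinearMap.fst Γ(X.left, ⊤) Γ(X.left, ⊤) Γ(G.left, ⊤)) (LinearMap.lTensor Γ(G.left, ⊤) (LinearMap.ker D).subtype w)) ∈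
          M.map (algebraMap Γ(X.left, ⊤) Γ(G.left, ⊤)) := fun w => by
      induction w using TensorProduct.induction_on with
      | zero => simp
      | add p q hp hq => simp only [map_add]; exact Ideal.add_mem _ hp hq
      | tmul s p =>
        simp only [LinearMap.lTensor_tmul, TensorProduct.rid_tmul, Algebra.smul_def, Submodule.subtype_apply,
          LinearMap.fst_apply]
        exact Ideal.mul_mem_right _ _ (Ideal.mem_map_of_mem _ (hle ⟨p.1, p.2, rfl⟩))
    have h2 := h1 z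
    rw [hz] at h2
    have h3 : ∀ w, LinearMap.lTensor Γ(G.left, ⊤) (LinearMap.fst Γ(X.left, ⊤) Γ(X.left, ⊤) Γ(G.left, ⊤))
        (LinearMap.lTensor Γ(G.left, ⊤) (LinearMap.inr Γ(X.left, ⊤) Γ(X.left, ⊤) Γ(G.left, ⊤)) w) = 0 := fun w => by
      rw [← LinearMap.lTensor_comp_apply, show LinearMap.fst Γ(X.left, ⊤) Γ(X.left, ⊤) Γ(G.left, ⊤) ∘ₗ
        LinearMap.inr Γ(X.left, ⊤) Γ(X.left, ⊤) Γ(G.left, ⊤) = 0 from LinearMap.fst_comp_inr _ _ _,
        LinearMap.lTensor_zero, LinearMap.zero_apply]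
    rw [map_add, h3, add_zero, LinearMap.lTensor_tmul, TensorProduct.rid_tmul, LinearMap.fst_apply, one_smul] at h2
    have htop : M.map (algebraMap Γ(X.left, ⊤) Γ(G.left, ⊤)) = ⊤ := (Ideal.eq_top_iff_one _).mpr h2
    have hspec : Surjective (Spec.map q.left.appTop) := by
      haveI : Surjective (q.left ≫ X.left.toSpecΓ) := inferInstance
      rw [Scheme.toSpecΓ_naturality] at this
      exact Surjective.of_comp G.left.toSpecΓ _
    obtain ⟨p, hp⟩ := hspec.surj ⟨M, hM.isPrime⟩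
    have hMp : M.map (algebraMap Γ(X.left, ⊤) Γ(G.left, ⊤)) ≤ p.asIdeal := Ideal.map_le_iff_le_comap.mpr
      (le_of_eq (congrArg PrimeSpectrum.asIdeal hp).symm)
    exact p.isPrime.ne_top (top_le_iff.mp (htop ▸ hMp))
  obtain ⟨⟨r, F⟩, hrF, hr1⟩ := (show (1 : Γ(X.left, ⊤)) ∈ J by rw [hJ]; trivial)
  change r = 1 at hr1
  refine ⟨F, fun x t => ?_⟩
  have h := congrArg (ev x) ((hevU t (r, F)).symm.trans (show evU t (D (r, F)) = 0 by rw [show D (r, F) = 0 from hrF]; simp [evU]))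
  rw [map_sub, map_sub, ev_rtr, map_zero, hr1, map_one, Algebra.smul_def, _root_.mul_one, ev_const] at h
  linear_combination h

end Groth.Agent.H1.Obs
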