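import Groth.Agent.H1.Obs.Line
import Groth.Agent.H1.GrpIrred
import Groth.Agent.H1.Classical.Kolchin
import Groth.Agent.H1.Classical.RadUApply
import Groth.Agent.H1.Classical.CharRadScheme

/-!
# Eigenvectors of connected solvable groups in rational modules and in algebras with an action
-/

universe u

open CategoryTheory Limits MonoidalCategory CartesianMonoidalCategory MonObj GrpObj AlgebraicGeometry
open scoped TensorProduct

namespace Groth.Agent.H1.Obs

set_option linter.style.haveILetI false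
set_option linter.unusedSectionVars false

open Groth.Agent.Lib.RedPts Groth.Agent.Lib.RedPts.Points Classical.Scheme' Groth.Agent.H1.RInv

attribute [local instance] baseAlgebra

variable {k : Type u} [Field k] [IsAlgClosed k] {G H : Over (Spec (CommRingCat.of k))} [GrpObj G] [GrpObj H]
  [IsAffine G.left] [IsAffine H.left] [Smooth H.hom] (i : H ⟶ G) [IsMonHom i]

section Module

variable {M : Type u} [AddCommGroup M] [Module k M] (ρ : VecGrp.GMod G M)

/-- Orbits span finite dimensional spaces. -/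
theorem exists_orbit_bound (v : M) :
    ∃ V : Submodule k M, FiniteDimensional k V ∧ ∀ x : P G, act ρ x v ∈ V := by
  obtain ⟨S, hS⟩ := TensorProduct.exists_finset (ρ.ρ Γ(G.left, ⊤) (univPt G) ((1 : Γ(G.left, ⊤)) ⊗ₜ v))
  classical
  refine ⟨Submodule.span k ↑(S.image Prod.snd), FiniteDimensional.span_finset k _, fun x => ?_⟩
  have h := congrArg (TensorProduct.lid k M) (Wmap_univ ρ x v)
  rw [hS, TensorProduct.lid_tmul, one_smul, map_sum, map_sum] at h
  rw [← h]
  refine Submodule.sum_mem _ fun p hp => ?_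
  rw [VecGrp.Wmap_tmul, TensorProduct.lid_tmul]
  exact Submodule.smul_mem _ _ (Submodule.subset_span (Finset.mem_image_of_mem _ hp))

variable [ConnectedSpace H.left]

/-- Functions on a connected smooth affine group form a domain. -/
theorem isDomain_functions (H : Over (Spec (CommRingCat.of k))) [GrpObj H] [IsAffine H.left] [Smooth H.hom]
    [ConnectedSpace H.left] : IsDomain Γ(H.left, ⊤) := by
  haveI : QuasiCompact H.hom := (quasiCompact_iff_compactSpace H.hom).mpr inferInstance
  haveI : IsIntegral H.left := GrpIrred.isIntegral H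
  haveI : Nonempty (⊤ : H.left.Opens).toScheme := ⟨⟨Classical.arbitrary H.left, trivial⟩⟩
  infer_instance

/-- A connected solvable group has an eigenvector in every nonzero stable subspace. -/
theorem exists_eigen (hsol : Red.IsSolvableGrp H) (W : Submodule k M) (hW : W ≠ ⊥)
    (hst : ∀ h : P H, ∀ w ∈ W, act ρ (h ≫ i) w ∈ W) :
    ∃ v ∈ W, v ≠ 0 ∧ ∃ χ : H ⟶ Red.Gm (Spec (CommRingCat.of k)), IsMonHom χ ∧
      ∀ h : P H, act ρ (h ≫ i) v = ev h (Red.gmFn χ) • v := by
  classical
  let Good : ℕ → Prop := fun n => ∃ V : Submodule k M, V ≠ ⊥ ∧ V ≤ W ∧ FiniteDimensional k V ∧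
    (∀ h : P H, ∀ w ∈ V, act ρ (h ≫ i) w ∈ V) ∧ Module.finrank k V = n
  have hex : ∃ n, Good n := by
    obtain ⟨w, hw, hw0⟩ := (Submodule.ne_bot_iff W).mp hW
    obtain ⟨V, hVf, hV⟩ := exists_orbit_bound ρ w
    let V' : Submodule k M := Submodule.span k (Set.range fun h : P H => act ρ (h ≫ i) w)
    have h1 : V' ≤ V := Submodule.span_le.mpr (by rintro _ ⟨h, rfl⟩; exact hV _)
    haveI := Submodule.finiteDimensional_of_le h1
    refine ⟨_, V', fun h0 => hw0 ?_, Submodule.span_le.mpr (by rintro _ ⟨h, rfl⟩; exact hst h w hw), inferInstance,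
      fun h => Submodule.span_le (p := V'.comap (act ρ (h ≫ i))).mpr ?_, rfl⟩
    · have : act ρ ((1 : P H) ≫ i) w ∈ V' := Submodule.subset_span ⟨1, rfl⟩
      rwa [h0, Submodule.mem_bot, MonObj.one_comp, act_one] at this
    · rintro _ ⟨h', rfl⟩
      exact Submodule.subset_span ⟨h * h', by simp only [MonObj.mul_comp, act_mul]⟩
  obtain ⟨V, hV0, hVW, hVf, hVst, hVn⟩ := Nat.find_spec hex
  haveI := hVf
  haveI : Nontrivial V := Submodule.nontrivial_iff_ne_bot.mpr hV0
  let σ : Representation k (P H) V :=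
    { toFun := fun h => (act ρ (h ≫ i)).restrict fun w hw => hVst h w hw
      map_one' := LinearMap.ext fun v => Subtype.ext (by
        show act ρ ((1 : P H) ≫ i) v = v
        rw [MonObj.one_comp, act_one])
      map_mul' := fun x y => LinearMap.ext fun v => Subtype.ext (by
        show act ρ ((x * y) ≫ i) v = act ρ (x ≫ i) (act ρ (y ≫ i) v)
        rw [MonObj.mul_comp, act_mul]) }
  let evs : Γ(H.left, ⊤) →ₐ[k] (P H → k) := AlgHom.pi fun x => evA x
  haveI : IsReduced H.left := Groth.Agent.Lib.GrpSch.isReduced_of_smooth_field H.hom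
  have hinj : Function.Injective evs := fun f g h => ext_points fun x => congrFun h x
  haveI : NoZeroDivisors evs.range := by
    haveI := isDomain_functions H
    exact (AlgEquiv.ofInjective evs hinj).symm.toMulEquiv.noZeroDivisors
  have hext : ∀ l : Module.Dual k V, ∃ l' : Module.Dual k M, ∀ v : V, l' (v : M) = l v := fun l => by
    obtain ⟨l', hl'⟩ := LinearMap.exists_extend l
    exact ⟨l', fun v => LinearMap.congr_fun hl' v⟩
  have hco : ∀ (v : V) (l' : Module.Dual k M) (h : P H),
      ev h (i.left.appTop (coef ρ l' v)) = l' (σ h v : M) := fun v l' h => by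
    rw [← ev_comp, ev_coef]
    rfl
  have hρ : Classical.Kolchin.EndFn evs.range (fun g => σ g) := fun v l => by
    obtain ⟨l', hl'⟩ := hext l
    exact ⟨i.left.appTop (coef ρ l' v), funext fun h => (hco v l' h).trans (hl' _)⟩
  have hρ' : Classical.Kolchin.EndFn evs.range (fun g => σ g⁻¹) := fun v l => by
    obtain ⟨l', hl'⟩ := hext l
    refine ⟨ι[H].left.appTop (i.left.appTop (coef ρ l' v)), funext fun h => ?_⟩
    show ev h (ι[H].left.appTop _) = _
    rw [← ev_comp, ← Hom.inv_def]
    exact (hco v l' h⁻¹).trans (hl' _)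
  haveI : Group.IsSolvable (P H) := by
    obtain ⟨n, hn⟩ := hsol
    exact (Group.isSolvable_def _).mpr ⟨n, hn _⟩
  have hirr : ∀ U : Submodule k V, (∀ g, ∀ w ∈ U, σ g w ∈ U) → U = ⊥ ∨ U = ⊤ := by
    intro U hU
    by_cases h0 : U = ⊥
    · exact Or.inl h0
    refine Or.inr ?_
    have h1 : U.map V.subtype ≠ ⊥ := fun h => h0 (Submodule.map_injective_of_injective V.subtype_injective
      (h.trans (Submodule.map_bot _).symm))
    have hU' : Good (Module.finrank k U) := ⟨U.map V.subtype, h1, (Submodule.map_subtype_le V U).trans hVW,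
      Submodule.finiteDimensional_of_le (Submodule.map_subtype_le V U), fun h w hw => by
        obtain ⟨u, hu, rfl⟩ := hw
        exact ⟨σ h u, hU h u hu, rfl⟩,
      (Submodule.equivMapOfInjective V.subtype V.subtype_injective U).finrank_eq.symm⟩
    have := Nat.find_min' hex hU'
    refine Submodule.eq_top_of_finrank_eq (le_antisymm (Submodule.finrank_le U) ?_)
    rw [hVn]
    exact this
  have h1 := Classical.Kolchin.finrank_eq_one (R := evs.range) σ hρ hρ' hirr
  obtain ⟨v, hv⟩ := exists_ne (0 : V)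
  obtain ⟨l, hl⟩ : ∃ l : Module.Dual k V, l v = 1 := by
    obtain ⟨l, hl⟩ : ∃ l : Module.Dual k V, l v ≠ 0 := by
      by_contra h
      push Not at h
      exact hv ((Module.forall_dual_apply_eq_zero_iff k v).mp h)
    exact ⟨(l v)⁻¹ • l, by rw [LinearMap.smul_apply, smul_eq_mul, inv_mul_cancel₀ hl]⟩
  obtain ⟨l', hl'⟩ := hext l
  have hcs : ∀ h : P H, σ h v = l (σ h v) • v := fun h => by
    obtain ⟨c, hc⟩ := exists_smul_eq_of_finrank_eq_one h1 hv (σ h v)
    rw [← hc, map_smul, hl, smul_eq_mul, _root_.mul_one]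
  set f := i.left.appTop (coef ρ l' (v : M))
  have hf : ∀ h : P H, ev h f = l (σ h v) := fun h => (hco v l' h).trans (hl' _)
  obtain ⟨χ, hχ, hχf⟩ := exists_char f (by rw [hf, map_one, Module.End.one_apply, hl]) fun x y => by
    rw [hf, hf, hf, map_mul, Module.End.mul_apply]
    conv_lhs => rw [hcs y, map_smul, map_smul, smul_eq_mul, mul_comm]
  exact ⟨v, hVW v.2, fun h => hv (Subtype.ext h), χ, hχ, fun h => by
    rw [hχf, hf]
    exact congrArg Subtype.val (hcs h)⟩

/-- A unipotent group fixes a nonzero vector in every nonzero stable subspace. -/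
theorem exists_fixed (hU : Classical.Unipotent.NoTorsion H) (W : Submodule k M) (hW : W ≠ ⊥)
    (hst : ∀ h : P H, ∀ w ∈ W, act ρ (h ≫ i) w ∈ W) : ∃ v ∈ W, v ≠ 0 ∧ v ∈ ρ.fixedUnder i := by
  obtain ⟨v, hv, hv0, χ, hχ, hvχ⟩ := exists_eigen i ρ (Classical.Unipotent.isSolvableGrp_of_noTorsion hU) W hW hst
  haveI := hχ
  refine ⟨v, hv, hv0, (mem_fixedUnder_iff ρ i v).mpr fun h => ?_⟩
  rw [hvχ, Classical.CharRad.char_eq_one_of_noTorsion hU χ, Lib.RedPts.Gm.gmFn_one, map_one, one_smul]

end Module

section Algebra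

variable {A : Type u} [CommRing A] [Algebra k A] (ρ : VecGrp.GMod G A) (hρ : ρ.IsMult)

include hρ in
/-- Points act multiplicatively. -/
theorem act_map_mul (x : P G) (a b : A) : act ρ x (a * b) = act ρ x a * act ρ x b := by
  apply (TensorProduct.lid k A).symm.injective
  have h := (hρ k (toPt x)).1 ((1 : k) ⊗ₜ a) ((1 : k) ⊗ₜ b)
  rw [Algebra.TensorProduct.tmul_mul_tmul, act_apply, act_apply, Algebra.TensorProduct.tmul_mul_tmul,
    _root_.one_mul] at h
  rw [TensorProduct.lid_symm_apply, TensorProduct.lid_symm_apply, ← act_apply]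
  exact h

include hρ in
theorem act_map_one (x : P G) : act ρ x (1 : A) = 1 := by
  apply (TensorProduct.lid k A).symm.injective
  rw [TensorProduct.lid_symm_apply, TensorProduct.lid_symm_apply, ← act_apply]
  have h := (hρ k (toPt x)).2
  rwa [Algebra.TensorProduct.one_def] at h

theorem act_inj (x : P G) : Function.Injective (act ρ x) := fun a b h => by
  have := congrArg (act ρ x⁻¹) h
  rwa [← act_mul, ← act_mul, inv_mul_cancel, act_one, act_one] at this

variable [ConnectedSpace H.left]

include hρ in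
/-- A connected group fixes every prime minimal over a stable ideal. -/
theorem minimalPrimes_stable (J : Ideal A) (hJ : ∀ h : P H, ∀ a ∈ J, act ρ (h ≫ i) a ∈ J) {q : Ideal A}
    (hq : q ∈ J.minimalPrimes) (h : P H) {a : A} (ha : a ∈ q) : act ρ (h ≫ i) a ∈ q := by
  haveI := hq.1.1
  haveI := isDomain_functions H
  let Q : Ideal A :=
    { carrier := {a | ∀ h : P H, act ρ (h ≫ i) a ∈ q}
      zero_mem' := fun h => by rw [map_zero]; exact q.zero_mem
      add_mem' := fun ha hb h => by rw [map_add]; exact q.add_mem (ha h) (hb h)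
      smul_mem' := fun c a ha h => by rw [smul_eq_mul, act_map_mul ρ hρ]; exact q.mul_mem_left _ (ha h) }
  have hQ : ∀ a, a ∈ Q ↔ ∀ h : P H, act ρ (h ≫ i) a ∈ q := fun _ => Iff.rfl
  have hsep : ∀ a, a ∉ Q → ∃ f : Γ(H.left, ⊤), f ≠ 0 ∧ ∀ h : P H, ev h f ≠ 0 → act ρ (h ≫ i) a ∉ q := by
    intro a ha
    rw [hQ] at ha
    push Not at ha
    obtain ⟨h₀, hh₀⟩ := ha
    obtain ⟨l, hl0, hl⟩ := Submodule.exists_dual_map_eq_bot_of_notMem
      (p := q.restrictScalars k) (x := act ρ (h₀ ≫ i) a) hh₀ inferInstance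
    have hf : ∀ h : P H, ev h (i.left.appTop (coef ρ l a)) = l (act ρ (h ≫ i) a) := fun h => by rw [← ev_comp, ev_coef]
    refine ⟨i.left.appTop (coef ρ l a), fun h0 => hl0 ?_, fun h hh hmem => hh ?_⟩
    · rw [← hf, h0, map_zero]
    · rw [hf]
      exact (Submodule.mem_bot k).mp (hl ▸ Submodule.mem_map_of_mem (p := q.restrictScalars k) hmem)
  haveI : Q.IsPrime := by
    refine ⟨fun htop => hq.1.1.ne_top ((Ideal.eq_top_iff_one _).mpr ?_), fun {a b} hab => ?_⟩
    · have := (hQ 1).mp ((Ideal.eq_top_iff_one _).mp htop) 1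
      rwa [act_map_one ρ hρ] at this
    · by_contra hne
      push Not at hne
      obtain ⟨f, hf0, hf⟩ := hsep a hne.1
      obtain ⟨g, hg0, hg⟩ := hsep b hne.2
      haveI : IsReduced H.left := Groth.Agent.Lib.GrpSch.isReduced_of_smooth_field H.hom
      obtain ⟨x, hx⟩ : ∃ x : P H, ev x (f * g) ≠ 0 := by
        by_contra hall
        push Not at hall
        exact mul_ne_zero hf0 hg0 (ext_points fun x => by rw [hall, map_zero])
      rw [map_mul] at hx
      have := (hQ _).mp hab x
      rw [act_map_mul ρ hρ] at this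
      rcases hq.1.1.mem_or_mem this with h | h
      · exact hf x (left_ne_zero_of_mul hx) h
      · exact hg x (right_ne_zero_of_mul hx) h
  have hQq : Q ≤ q := fun a ha => by
    have := (hQ a).mp ha 1
    rwa [MonObj.one_comp, act_one] at this
  exact (hQ a).mp (hq.2 (y := Q) ⟨inferInstance, fun a ha => (hQ a).mpr fun h => hq.1.2 (hJ h a ha)⟩ hQq ha) h

include hρ in
/-- Invariance of a fraction, on points. -/
theorem frac_act {H' : Over (Spec (CommRingCat.of k))} [GrpObj H'] (j : H' ⟶ G) (c : P H' → k) (a b : A)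
    (h : ∀ x : P H', ρ.ρ k (toPt (x ≫ j)) ((1 : k) ⊗ₜ a) * ((1 : k) ⊗ₜ b) =
      c x • (((1 : k) ⊗ₜ[k] a) * ρ.ρ k (toPt (x ≫ j)) ((1 : k) ⊗ₜ b))) (x : P H') :
    act ρ (x ≫ j) a * b = c x • (a * act ρ (x ≫ j) b) := by
  have h' := congrArg (TensorProduct.lid k A) (h x)
  rwa [act_apply, act_apply, Algebra.TensorProduct.tmul_mul_tmul, Algebra.TensorProduct.tmul_mul_tmul,
    _root_.one_mul, map_smul, TensorProduct.lid_tmul, TensorProduct.lid_tmul, one_smul, one_smul] at h'

end Algebra

end Groth.Agent.H1.Obs
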