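import Groth.Agent.H1.Obs.Basic

/-!
# Epimorphic subgroups
-/

universe u

open CategoryTheory Limits MonoidalCategory CartesianMonoidalCategory MonObj GrpObj AlgebraicGeometry
open scoped TensorProduct

namespace Groth.Agent.H1.Obs

set_option linter.style.haveILetI false
set_option linter.unusedSectionVars false

open Groth.Agent.Lib.RedPts Groth.Agent.Lib.RedPts.Points Classical.Scheme' Groth.Agent.H1.RInv Groth.Agent.Lib.GrpQ

attribute [local instance] baseAlgebra

/-- The coordinate ring of the general linear group is smooth over any ring. -/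
theorem smooth_GLn_ring (R : Type u) [CommRing R] (n : ℕ) : Algebra.Smooth R (CoordGrp.GLn n R) := by
  refine ⟨Algebra.FormallySmooth.of_comp_surjective fun C _ _ I hI f => ?_, ?_⟩
  · choose M hM using fun p : Fin n × Fin n => Ideal.Quotient.mkₐ_surjective R I (f (CoordGrp.GLn.X p.1 p.2))
    let P : Matrix (Fin n) (Fin n) C := Matrix.of fun i j => M (i, j)
    have hP : (Ideal.Quotient.mkₐ R I) P.det = f CoordGrp.GLn.det := by
      rw [CoordGrp.GLn.det_eq, AlgHom.map_det, AlgHom.map_det]
      congr 1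
      ext i j
      exact hM (i, j)
    have hu : IsUnit P.det := by
      have h : IsUnit (Ideal.Quotient.mk I P.det) := by
        rw [show Ideal.Quotient.mk I P.det = f CoordGrp.GLn.det from hP]
        exact (IsUnit.of_mul_eq_one _ CoordGrp.GLn.det_mul_Dinv).map f
      exact (IsNilpotent.isUnit_quotient_mk_iff ⟨2, hI⟩).1 h
    refine ⟨CoordGrp.GLn.pt n R P ↑hu.unit⁻¹ hu.mul_val_inv, ?_⟩
    refine CoordGrp.GLn.algHom_ext (fun i j => ?_) ?_
    · simp only [AlgHom.comp_apply, CoordGrp.GLn.pt_X]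
      exact hM (i, j)
    · have h1 := congrArg f (CoordGrp.GLn.det_mul_Dinv (n := n) (k := R))
      have h2 : (Ideal.Quotient.mkₐ R I) (P.det * ↑hu.unit⁻¹) = 1 := by rw [hu.mul_val_inv, map_one]
      rw [map_mul, map_one] at h1
      rw [map_mul, hP] at h2
      simp only [AlgHom.comp_apply, CoordGrp.GLn.pt_Dinv]
      exact left_inv_eq_right_inv (by rwa [mul_comm] at h2) h1
  · have : Algebra.FinitePresentation R (CoordGrp.GLb n R) :=
      inferInstanceAs (Algebra.FinitePresentation R (MvPolynomial (CoordGrp.GLPoly.Idx n) R))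
    exact Algebra.FinitePresentation.quotient (Submodule.fg_span (Set.finite_singleton _))

variable {k : Type u} [Field k]

theorem isAffine_GLn (n : ℕ) : IsAffine (FrB.GLn n (Spec (CommRingCat.of k))).left := by
  haveI : IsAffineHom (FrB.GLZ.{u} n).hom := inferInstanceAs (IsAffineHom (Spec.map (CommRingCat.ofHom
    (algebraMap (ULift.{u} ℤ) (CoordGrp.GLn n (ULift.{u} ℤ))))))
  haveI : IsAffineHom (FrB.GLn n (Spec (CommRingCat.of k))).hom := inferInstanceAs (IsAffineHom (pullback.snd _ _))
  exact isAffine_of_isAffineHom (FrB.GLn n (Spec (CommRingCat.of k))).hom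

theorem smooth_GLn_hom (n : ℕ) : Smooth (FrB.GLn n (Spec (CommRingCat.of k))).hom := by
  haveI := smooth_GLn_ring.{u} (ULift.{u} ℤ) n
  haveI : Smooth (FrB.GLZ.{u} n).hom := by
    show Smooth (Spec.map (CommRingCat.ofHom (algebraMap (ULift.{u} ℤ) (CoordGrp.GLn n (ULift.{u} ℤ)))))
    rw [HasRingHomProperty.Spec_iff (P := @Smooth)]
    exact RingHom.smooth_algebraMap.mpr inferInstance
  exact inferInstanceAs (Smooth (pullback.snd _ _))

variable [IsAlgClosed k] {G H : Over (Spec (CommRingCat.of k))} [GrpObj G] [GrpObj H]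
  [IsAffine G.left] [Smooth G.hom] [IsAffine H.left] [Smooth H.hom] (i : H ⟶ G)

/-- Matrix representations which agree on a subgroup give homomorphisms which agree on it. -/
theorem comp_toGLn_eq {n : ℕ} (r r' : RepMat.Rep G n) (h : ∀ x : P H, r.P.map (ev (x ≫ i)) = r'.P.map (ev (x ≫ i))) :
    i ≫ r.toGLn = i ≫ r'.toGLn := by
  apply BC.down_injective
  refine RepMat.glnPoint_ext _ _ fun a b => ?_
  rw [RepMat.Rep.toGLn_X, RepMat.Rep.toGLn_X]
  haveI : IsReduced H.left := Groth.Agent.Lib.GrpSch.isReduced_of_smooth_field H.hom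
  refine ext_points fun x => ?_
  have h1 := congrFun (congrFun (h x) a) b
  simp only [Matrix.map_apply, ev_comp] at h1
  exact h1

omit [IsAlgClosed k] [IsAffine G.left] [Smooth G.hom] in
theorem P_eq_of_toGLn {n : ℕ} (r r' : RepMat.Rep G n) (h : r.toGLn = r'.toGLn) : r.P = r'.P := by
  ext a b
  have h1 := r.toGLn_X (𝟙 G) a b
  rw [h, RepMat.Rep.toGLn_X, RepMat.pbM_id, RepMat.pbM_id] at h1
  exact h1.symm

/-- (e) ⇒ (b): if homomorphisms are determined on the subgroup then invariants are constant. -/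
theorem const_of_epi [IsMonHom i]
    (hepi : ∀ (G' : Over (Spec (CommRingCat.of k))) [GrpObj G'] [IsAffine G'.left] [Smooth G'.hom]
        (r s : G ⟶ G') [IsMonHom r] [IsMonHom s], i ≫ r = i ≫ s → r = s)
    {f : Γ(G.left, ⊤)} (hf : Inv i f) : f = algebraMap k _ (ev (1 : P G) f) := by
  classical
  obtain ⟨W, _, hsW, hW⟩ := exists_stable {f}
  have hfW : f ∈ W := hsW (Finset.mem_singleton_self f)
  obtain ⟨r, e, he⟩ := exists_rep_of_stable W hW
  let c : Fin (Module.finrank k W) → k := e.symm ⟨f, hfW⟩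
  have hfix : ∀ x : P G, (r.P.map (ev x)).mulVec c = c ↔ rtr x f = f := fun x => by
    rw [← act_rep, ← e.injective.eq_iff]
    refine Subtype.ext_iff.trans ?_
    rw [he]
    simp only [c, LinearEquiv.apply_symm_apply]
  -- the two representations
  let σ : (Fin (Module.finrank k W) ⊕ Fin 1) ≃ Fin ((Module.finrank k W) + 1) := finSumFinEquiv
  let col : k → Matrix (Fin (Module.finrank k W)) (Fin 1) k := fun t => Matrix.of fun a _ => t * c a
  let T : Matrix (Fin (Module.finrank k W) ⊕ Fin 1) (Fin (Module.finrank k W) ⊕ Fin 1) k := Matrix.fromBlocks 1 (col (-1)) 0 1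
  let T' : Matrix (Fin (Module.finrank k W) ⊕ Fin 1) (Fin (Module.finrank k W) ⊕ Fin 1) k := Matrix.fromBlocks 1 (col 1) 0 1
  have hTT : T' * T = 1 := by
    simp only [T, T', Matrix.fromBlocks_multiply]
    rw [← Matrix.fromBlocks_one]
    congr 1 <;> ext <;> simp [col]
  have hTT' : T * T' = 1 := mul_eq_one_comm.mp hTT
  let E : Matrix (Fin (Module.finrank k W) ⊕ Fin 1) (Fin (Module.finrank k W) ⊕ Fin 1) Γ(G.left, ⊤) := Matrix.fromBlocks r.P 0 0 1
  let E' : Matrix (Fin (Module.finrank k W) ⊕ Fin 1) (Fin (Module.finrank k W) ⊕ Fin 1) Γ(G.left, ⊤) := T.map (algebraMap k _) * E * T'.map (algebraMap k _)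
  have hE : ∀ x : P G, E.map (ev x) = Matrix.fromBlocks (r.P.map (ev x)) 0 0 1 := fun x => by
    simp [E, Matrix.fromBlocks_map]
  have hconst : ∀ (M : Matrix (Fin (Module.finrank k W) ⊕ Fin 1) (Fin (Module.finrank k W) ⊕ Fin 1) k) (x : P G), (M.map (algebraMap k Γ(G.left, ⊤))).map (ev x) = M := fun M x => by
    ext a b
    simp [ev_const]
  have hE' : ∀ x : P G, E'.map (ev x) = T * E.map (ev x) * T' := fun x => by
    simp only [E', Matrix.map_mul, hconst]
  have hpb : ∀ x : P G, (RepMat.pbM x r.P).map (Scheme.ΓSpecIso (CommRingCat.of k)).hom = r.P.map (ev x) := fun x => rfl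
  have hAmul : ∀ x y : P G, r.P.map (ev (x * y)) = r.P.map (ev x) * r.P.map (ev y) := fun x y => by
    rw [← hpb, r.mul, Matrix.map_mul, hpb, hpb]
  have hAone : r.P.map (ev (1 : P G)) = 1 := by rw [← hpb, r.one, Matrix.map_one _ (map_zero _) (map_one _)]
  have hEmul : ∀ x y : P G, E.map (ev (x * y)) = E.map (ev x) * E.map (ev y) := fun x y => by
    simp [hE, hAmul, Matrix.fromBlocks_multiply]
  have hEone : E.map (ev (1 : P G)) = 1 := by rw [hE, hAone, Matrix.fromBlocks_one]
  obtain ⟨r₁, hr₁⟩ := exists_rep (Matrix.reindex σ σ E)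
    (fun x y => by simp only [Matrix.reindex_apply, ← Matrix.submatrix_map, Matrix.submatrix_mul_equiv, hEmul])
    (by simp only [Matrix.reindex_apply, ← Matrix.submatrix_map, hEone, Matrix.submatrix_one_equiv])
  obtain ⟨r₂, hr₂⟩ := exists_rep (Matrix.reindex σ σ E')
    (fun x y => by
      simp only [Matrix.reindex_apply, ← Matrix.submatrix_map, Matrix.submatrix_mul_equiv, hE', hEmul]
      congr 1
      rw [show T * E.map (ev x) * T' * (T * E.map (ev y) * T') =
        T * E.map (ev x) * (T' * T) * E.map (ev y) * T' by simp only [Matrix.mul_assoc], hTT, Matrix.mul_one,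
        ← Matrix.mul_assoc T])
    (by simp only [Matrix.reindex_apply, ← Matrix.submatrix_map, hE', hEone, Matrix.mul_one, hTT',
      Matrix.submatrix_one_equiv])
  have hcomm : ∀ x : P G, E'.map (ev x) = E.map (ev x) ↔ rtr x f = f := fun x => by
    rw [← hfix, hE', hE]
    simp only [T, T', Matrix.fromBlocks_multiply, Matrix.fromBlocks_inj, Matrix.mul_one, Matrix.one_mul, Matrix.zero_mul,
      Matrix.mul_zero, add_zero, zero_add]
    constructor
    · rintro ⟨-, h, -⟩
      funext a
      have h1 := congrFun (congrFun h a) 0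
      simp [Matrix.mul_apply, col] at h1
      simp only [Matrix.mulVec, dotProduct, Matrix.map_apply]
      linear_combination h1
    · intro h
      refine ⟨trivial, Matrix.ext fun a b => ?_, trivial, trivial⟩
      have h1 := congrFun h a
      simp only [Matrix.mulVec, dotProduct, Matrix.map_apply] at h1
      simp [Matrix.mul_apply, col]
      linear_combination h1
  haveI := isAffine_GLn (k := k) ((Module.finrank k W) + 1)
  haveI := smooth_GLn_hom (k := k) ((Module.finrank k W) + 1)
  haveI := r₁.isMonHom_toGLn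
  haveI := r₂.isMonHom_toGLn
  have heq : r₁.toGLn = r₂.toGLn := hepi _ _ _ (comp_toGLn_eq i r₁ r₂ fun h => by
    rw [hr₁, hr₂, Matrix.reindex_apply, Matrix.reindex_apply, ← Matrix.submatrix_map, ← Matrix.submatrix_map,
      (hcomm (h ≫ i)).mpr (ext_fun fun x => by rw [ev_rtr, hf])])
  have hP := P_eq_of_toGLn r₁ r₂ heq
  rw [hr₁, hr₂] at hP
  have hEE : E = E' := (Matrix.reindex σ σ).injective hP
  refine ext_fun fun x => ?_
  rw [ev_const]
  have h1 : rtr x f = f := (hcomm x).mp (by rw [← hEE])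
  have h2 := congrArg (ev (1 : P G)) h1
  rwa [ev_rtr, _root_.one_mul] at h2

end Groth.Agent.H1.Obs
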