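import Groth.Agent.H1.Obs.Crit
import Mathlib.LinearAlgebra.Matrix.Determinant.Basic
import Mathlib.RingTheory.Artinian.Module

/-!
# Extending modules of an observable subgroup
-/

universe u

open CategoryTheory Limits MonoidalCategory CartesianMonoidalCategory MonObj GrpObj AlgebraicGeometry
open scoped TensorProduct

namespace Groth.Agent.H1.Obs

set_option linter.style.haveILetI false
set_option linter.unusedSectionVars false
set_option maxHeartbeats 800000

open Groth.Agent.Lib.RedPts Groth.Agent.Lib.RedPts.Points Classical.Scheme' Groth.Agent.H1.RInv Groth.Agent.Lib.GrpQ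

attribute [local instance] baseAlgebra

variable {k : Type u} [Field k] [IsAlgClosed k] {G H : Over (Spec (CommRingCat.of k))} [GrpObj G] [GrpObj H]
  [IsAffine G.left] [Smooth G.hom]

/-- Finitely many copies of a representation. -/
theorem exists_rep_pow {n : ℕ} (r : RepMat.Rep G n) (m : ℕ) :
    ∃ R : RepMat.Rep G (n * m), ∀ (g : P G) (v : Fin (n * m) → k) (q : Fin m) (i : Fin n),
      act R.gmod g v (finProdFinEquiv (i, q)) = act r.gmod g (fun j => v (finProdFinEquiv (j, q))) i := by
  classical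
  let σ : Fin n × Fin m ≃ Fin (n * m) := finProdFinEquiv
  let B : Matrix (Fin (n * m)) (Fin (n * m)) Γ(G.left, ⊤) := Matrix.reindex σ σ (Matrix.blockDiagonal fun _ => r.P)
  have hmap : ∀ x : P G, B.map (ev x) = Matrix.reindex σ σ (Matrix.blockDiagonal fun _ => r.P.map (ev x)) := fun x => by
    show (Matrix.reindex σ σ (Matrix.blockDiagonal fun _ => r.P)).map (ev x) = _
    rw [Matrix.reindex_apply, Matrix.reindex_apply, ← Matrix.submatrix_map, Matrix.blockDiagonal_map _ _ (map_zero _)]
  have hpb : ∀ x : P G, (RepMat.pbM x r.P).map (Scheme.ΓSpecIso (CommRingCat.of k)).hom = r.P.map (ev x) := fun x => rfl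
  obtain ⟨R, hR⟩ := exists_rep B (fun x y => by
      simp only [hmap, Matrix.reindex_apply, Matrix.submatrix_mul_equiv, ← Matrix.blockDiagonal_mul, ← hpb, r.mul,
        Matrix.map_mul])
    (by
      simp only [hmap, ← hpb, r.one]
      rw [show (fun _ : Fin m => ((1 : Matrix (Fin n) (Fin n) _)).map
        (Scheme.ΓSpecIso (CommRingCat.of k)).hom) = 1 from funext fun _ => Matrix.map_one _ (map_zero _) (map_one _),
        Matrix.blockDiagonal_one, Matrix.reindex_apply, Matrix.submatrix_one_equiv])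
  refine ⟨R, fun g v q i => ?_⟩
  rw [act_rep, hR, hmap, act_rep]
  simp only [Matrix.mulVec, dotProduct, Matrix.reindex_apply, Matrix.submatrix_apply]
  rw [← σ.sum_comp, Fintype.sum_prod_type_right, Finset.sum_eq_single q]
  · refine Finset.sum_congr rfl fun j _ => ?_
    rw [Equiv.symm_apply_apply, Equiv.symm_apply_apply, Matrix.blockDiagonal_apply_eq]
  · intro p _ hp
    refine Finset.sum_eq_zero fun j _ => ?_
    rw [Equiv.symm_apply_apply, Equiv.symm_apply_apply, Matrix.blockDiagonal_apply_ne _ _ _ (Ne.symm hp), zero_mul]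
  · simp

/-- A minor of tuples of functions. -/
noncomputable def vminor {n e : ℕ} (w : Fin e → Fin n → Γ(G.left, ⊤)) (L : Fin e → P G × Fin n) : Γ(G.left, ⊤) :=
  (Matrix.of fun l j => ltr (L l).1 (w j (L l).2)).det

theorem ev_vminor {n e : ℕ} (w : Fin e → Fin n → Γ(G.left, ⊤)) (L : Fin e → P G × Fin n) (x : P G) :
    ev x (vminor w L) = (Matrix.of fun l j => ev ((L l).1 * x) (w j (L l).2)).det := by
  rw [vminor, RingHom.map_det]
  refine congrArg Matrix.det (Matrix.ext fun l j => ?_)
  simp [RingHom.mapMatrix_apply]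

/-- The right translation of a tuple of functions. -/
noncomputable def rtrV {n : ℕ} (g : P G) : (Fin n → Γ(G.left, ⊤)) →ₗ[k] (Fin n → Γ(G.left, ⊤)) :=
  LinearMap.pi fun j => (rtr g).toLinearMap ∘ₗ LinearMap.proj j

theorem ev_vminor_mul {n e : ℕ} (w : Fin e → Fin n → Γ(G.left, ⊤)) (L : Fin e → P G × Fin n) (x g : P G) :
    ev (x * g) (vminor w L) = ev x (vminor (fun j => rtrV g (w j)) L) := by
  rw [ev_vminor, ev_vminor]
  simp [rtrV, _root_.mul_assoc]

theorem vminor_comb {n e : ℕ} (w : Fin e → Fin n → Γ(G.left, ⊤)) (T : Matrix (Fin e) (Fin e) k)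
    (L : Fin e → P G × Fin n) (x : P G) :
    ev x (vminor (fun j => ∑ m, T j m • w m) L) = T.det * ev x (vminor w L) := by
  rw [ev_vminor, ev_vminor, mul_comm, ← Matrix.det_transpose T, ← Matrix.det_mul]
  refine congrArg Matrix.det (Matrix.ext fun l j => ?_)
  simp only [Matrix.of_apply, Matrix.mul_apply, Matrix.transpose_apply, Finset.sum_apply, Pi.smul_apply, map_sum]
  simp only [Algebra.smul_def, map_mul, ev_const]
  exact Finset.sum_congr rfl fun m _ => mul_comm _ _

/-- Independent tuples have a nonzero minor. -/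
theorem exists_vminor_ne {n d : ℕ} (w : Fin d → Fin n → Γ(G.left, ⊤)) (hw : LinearIndependent k w) :
    ∃ L : Fin d → P G × Fin n, ev 1 (vminor w L) ≠ 0 := by
  classical
  let E : P G × Fin n → Fin d → k := fun p j => ev p.1 (w j p.2)
  have hspan : Submodule.span k (Set.range E) = ⊤ := by
    by_contra h
    obtain ⟨φ, hφ0, hφ⟩ := Submodule.exists_dual_map_eq_bot_of_lt_top (lt_top_iff_ne_top.mpr h) inferInstance
    apply hφ0
    have h2 : ∀ x, φ (E x) = 0 := fun x =>
      LinearMap.mem_ker.mp ((Submodule.span_le.mp (LinearMap.le_ker_iff_map.mpr hφ)) ⟨x, rfl⟩)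
    have h3 : (∑ j, φ (Pi.single j 1) • w j) = 0 := funext fun q => ext_fun fun x => by
      rw [Finset.sum_apply, map_sum, Pi.zero_apply, map_zero, ← h2 (x, q)]
      conv_rhs => rw [← Finset.univ_sum_single (E (x, q)), map_sum]
      refine Finset.sum_congr rfl fun j _ => ?_
      rw [Pi.smul_apply, Algebra.smul_def, map_mul, ev_const,
        show Pi.single j (E (x, q) j) = E (x, q) j • (Pi.single j 1 : Fin d → k) by simp [← Pi.single_smul],
        LinearMap.map_smul, smul_eq_mul, mul_comm]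
    have h4 := Fintype.linearIndependent_iff.mp hw _ h3
    exact (Pi.basisFun k (Fin d)).ext fun j => by simp [h4]
  obtain ⟨t, hts, htspan, hti⟩ := exists_linearIndependent k (Set.range E)
  haveI := hti.finite
  haveI := Fintype.ofFinite t
  have hcard : Fintype.card t = d := by
    have h := finrank_span_eq_card hti
    rw [Subtype.range_coe_subtype, Set.ofPred_mem_eq, htspan, hspan, finrank_top, Module.finrank_fin_fun] at h
    exact h.symm
  let e : Fin d ≃ t := (Fintype.equivFinOfCardEq hcard).symm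
  choose L hL using fun l : Fin d => hts (e l).2
  refine ⟨L, ?_⟩
  rw [ev_vminor, ← isUnit_iff_ne_zero, ← Matrix.isUnit_iff_isUnit_det, ← Matrix.linearIndependent_rows_iff_isUnit]
  have : (Matrix.of fun l j => ev ((L l).1 * 1) (w j (L l).2)).row = fun l => ((e l : t) : Fin d → k) := funext fun l => by
    funext j
    show ev ((L l).1 * 1) (w j (L l).2) = _
    rw [_root_.mul_one, ← hL l]
  rw [this]
  exact hti.comp e e.injective

/-- Bordered minors vanish only on the span. -/
theorem mem_span_of_border {n d : ℕ} (N : Fin d → Fin n → Γ(G.left, ⊤)) (w : Fin n → Γ(G.left, ⊤))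
    (L₀ : Fin d → P G × Fin n) (h₀ : ev 1 (vminor N L₀) ≠ 0)
    (h : ∀ p, ev 1 (vminor (Fin.snoc (α := fun _ => Fin n → Γ(G.left, ⊤)) N w) (Fin.snoc (α := fun _ => P G × Fin n) L₀ p)) = 0) :
    w ∈ Submodule.span k (Set.range N) := by
  classical
  let A : Matrix (Fin d) (Fin d) k := Matrix.of fun l j => ev (L₀ l).1 (N j (L₀ l).2)
  have hA : A.det = ev 1 (vminor N L₀) := by simp [A, ev_vminor]
  let u : Fin d → k := fun l => ev (L₀ l).1 (w (L₀ l).2)
  let c : Fin d → k := A⁻¹.mulVec u
  have hc : A.mulVec c = u := by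
    simp only [c]
    rw [Matrix.mulVec_mulVec, Matrix.mul_nonsing_inv _ (isUnit_iff_ne_zero.mpr (hA ▸ h₀)), Matrix.one_mulVec]
  suffices w = ∑ j, c j • N j by
    rw [this]
    exact Submodule.sum_mem _ fun j _ => Submodule.smul_mem _ _ (Submodule.subset_span ⟨j, rfl⟩)
  refine funext fun q => ext_fun fun x => ?_
  let L : Fin (d + 1) → P G × Fin n := Fin.snoc (α := fun _ => P G × Fin n) L₀ (x, q)
  let B : Matrix (Fin (d + 1)) (Fin (d + 1)) k :=
    Matrix.of fun l j => ev (L l).1 (Fin.snoc (α := fun _ => Fin n → Γ(G.left, ⊤)) N w j (L l).2)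
  have hB : B.det = 0 := by
    rw [← h (x, q), ev_vminor]
    simp [B, L]
  obtain ⟨z, hz0, hz⟩ := Matrix.exists_mulVec_eq_zero_iff.mpr hB
  let z' : Fin d → k := fun j => z j.castSucc
  have hrow : ∀ l : Fin (d + 1), (∑ j, ev (L l).1 (N j (L l).2) * z' j) + ev (L l).1 (w (L l).2) * z (Fin.last d) = 0 :=
    fun l => by
      have := congrFun hz l
      simpa [Matrix.mulVec, dotProduct, Fin.sum_univ_castSucc, B, z'] using this
  have hz' : z' = -(z (Fin.last d) • c) := by
    have h1 : A.mulVec z' = -(z (Fin.last d) • u) := funext fun l => by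
      have := hrow l.castSucc
      simp only [L, Fin.snoc_castSucc] at this
      simp only [Matrix.mulVec, dotProduct, A, Matrix.of_apply, u, Pi.neg_apply, Pi.smul_apply, smul_eq_mul]
      linear_combination this
    have h2 := congrArg A⁻¹.mulVec h1
    rwa [Matrix.mulVec_mulVec, Matrix.nonsing_inv_mul _ (isUnit_iff_ne_zero.mpr (hA ▸ h₀)), Matrix.one_mulVec,
      Matrix.mulVec_neg, Matrix.mulVec_smul] at h2
  have hlast : z (Fin.last d) ≠ 0 := fun h0 => hz0 (funext fun l => by
    induction l using Fin.lastCases with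
    | last => exact h0
    | cast l =>
      have := congrFun hz' l
      rwa [h0, zero_smul, neg_zero] at this)
  have h3 := hrow (Fin.last d)
  simp only [L, Fin.snoc_last, hz', Pi.neg_apply, Pi.smul_apply, smul_eq_mul, mul_neg, Finset.sum_neg_distrib] at h3
  simp only [Finset.sum_apply, Pi.smul_apply, map_sum]
  simp only [Algebra.smul_def, map_mul, ev_const]
  refine mul_right_cancel₀ hlast ?_
  rw [Finset.sum_mul]
  refine Eq.trans ?_ (Finset.sum_congr rfl fun j _ => show ev x (N j q) * (z (Fin.last d) * c j) =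
    algebraMap k k (c j) * ev x (N j q) * z (Fin.last d) by simp; ring)
  linear_combination h3

variable [IsAffine H.left] [Smooth H.hom] (i : H ⟶ G)

/-- A module of the subgroup is a quotient of a stable space of tuples of functions. -/
theorem exists_presentation [IsMonHom i] [IsClosedImmersion i.left] (V : Type u) [AddCommGroup V] [Module k V]
    [Module.Finite k V] (σ : VecGrp.GMod H V) :
    ∃ (n : ℕ) (T : Submodule k (Fin n → Γ(G.left, ⊤))) (π : T →ₗ[k] V), FiniteDimensional k T ∧
      Function.Surjective π ∧ ∀ (h : P H) (w : T), ∃ hw : rtrV (h ≫ i) (w : Fin n → Γ(G.left, ⊤)) ∈ T,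
        π ⟨_, hw⟩ = act σ h (π w) := by
  classical
  obtain ⟨-, hsurj⟩ := IsClosedImmersion.isAffine_surjective_of_isAffine i.left
  let b := Module.finBasis k V
  let n := Module.finrank k V
  choose F hF using fun p : Fin n × Fin n => hsurj (coef σ (b.coord p.1) (b p.2))
  obtain ⟨W₁, _, hW₁s, hW₁⟩ := exists_stable (Finset.univ.image F)
  -- tuples lifting the coefficient functions of a vector
  let T : Submodule k (Fin n → Γ(G.left, ⊤)) :=
    { carrier := {w | (∀ j, w j ∈ W₁) ∧ ∃ v : V, ∀ (j : Fin n) (h : P H), ev (h ≫ i) (w j) = b.coord j (act σ h v)}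
      add_mem' := fun {w w'} ⟨hw, v, hv⟩ ⟨hw', v', hv'⟩ => ⟨fun j => W₁.add_mem (hw j) (hw' j), v + v', fun j h => by
        rw [Pi.add_apply, map_add, hv, hv', map_add, map_add]⟩
      zero_mem' := ⟨fun j => W₁.zero_mem, 0, fun j h => by simp⟩
      smul_mem' := fun a w ⟨hw, v, hv⟩ => ⟨fun j => W₁.smul_mem a (hw j), a • v, fun j h => by
        rw [Pi.smul_apply, Algebra.smul_def, map_mul, ev_const, hv, map_smul, map_smul, smul_eq_mul]⟩ }
  choose hTW pr hpr using fun w : T => w.2
  have pr_unique : ∀ (w : T) (v : V), (∀ j h, ev (h ≫ i) ((w : Fin n → Γ(G.left, ⊤)) j) = b.coord j (act σ h v)) →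
      pr w = v := fun w v hv => b.ext_elem fun j => by
    have h1 := hpr w j 1
    rwa [hv, act_one, act_one, eq_comm] at h1
  let π : T →ₗ[k] V :=
    { toFun := pr
      map_add' := fun w w' => pr_unique _ _ fun j h => by
        rw [Submodule.coe_add, Pi.add_apply, map_add, hpr, hpr, map_add, map_add]
      map_smul' := fun a w => pr_unique _ _ fun j h => by
        rw [Submodule.coe_smul, Pi.smul_apply, Algebra.smul_def, map_mul, ev_const, hpr, RingHom.id_apply, map_smul,
          map_smul, smul_eq_mul] }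
  have hπ : Function.Surjective π := fun v => by
    refine ⟨⟨fun j => ∑ m, b.repr v m • F (j, m), fun j => Submodule.sum_mem _ fun m _ => Submodule.smul_mem _ _
      (hW₁s (Finset.mem_coe.mpr (Finset.mem_image_of_mem F (Finset.mem_univ _)))), v, fun j h => ?_⟩, ?_⟩
    · conv_rhs => rw [← b.sum_repr v, map_sum, map_sum]
      rw [map_sum]
      refine Finset.sum_congr rfl fun m _ => ?_
      rw [Algebra.smul_def, map_mul, ev_const, map_smul, map_smul, smul_eq_mul, ev_comp, hF, ev_coef]
    · refine pr_unique _ _ fun j h => ?_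
      conv_rhs => rw [← b.sum_repr v, map_sum, map_sum]
      rw [map_sum]
      refine Finset.sum_congr rfl fun m _ => ?_
      rw [Algebra.smul_def, map_mul, ev_const, map_smul, map_smul, smul_eq_mul, ev_comp, hF, ev_coef]
  have hTst : ∀ (h : P H) (w : T), ∃ hw : rtrV (h ≫ i) (w : Fin n → Γ(G.left, ⊤)) ∈ T,
      π ⟨_, hw⟩ = act σ h (π w) := fun h w => by
    have hval : ∀ j h', ev (h' ≫ i) (rtrV (h ≫ i) (w : Fin n → Γ(G.left, ⊤)) j) =
        b.coord j (act σ h' (act σ h (pr w))) := fun j h' => by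
      show ev (h' ≫ i) (rtr (h ≫ i) ((w : Fin n → Γ(G.left, ⊤)) j)) = _
      rw [ev_rtr, ← MonObj.mul_comp, hpr, act_mul]
    exact ⟨⟨fun j => hW₁ _ _ (hTW w j), _, hval⟩, pr_unique _ _ hval⟩
  haveI : FiniteDimensional k T := by
    refine FiniteDimensional.of_injective
      ({ toFun := fun w j => ⟨_, hTW w j⟩, map_add' := fun _ _ => rfl, map_smul' := fun _ _ => rfl } : T →ₗ[k] Fin n → W₁)
      fun w w' h => Subtype.ext (funext fun j => congrArg Subtype.val (congrFun h j))
  exact ⟨n, T, π, inferInstance, hπ, hTst⟩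

/-- The bordered minor. -/
noncomputable def border {n d : ℕ} (N : Fin d → Fin n → Γ(G.left, ⊤)) (L₀ : Fin d → P G × Fin n) (p : P G × Fin n)
    (w : Fin n → Γ(G.left, ⊤)) : Γ(G.left, ⊤) :=
  vminor (Fin.snoc (α := fun _ => Fin n → Γ(G.left, ⊤)) N w) (Fin.snoc (α := fun _ => P G × Fin n) L₀ p)

theorem isLinear_border {n d : ℕ} (N : Fin d → Fin n → Γ(G.left, ⊤)) (L₀ : Fin d → P G × Fin n) (p : P G × Fin n) :
    IsLinearMap k (border N L₀ p) := by
  have hupd : ∀ w, (Matrix.of fun l j => ltr ((Fin.snoc (α := fun _ => P G × Fin n) L₀ p) l).1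
      (Fin.snoc (α := fun _ => Fin n → Γ(G.left, ⊤)) N w j ((Fin.snoc (α := fun _ => P G × Fin n) L₀ p) l).2)) =
      Matrix.updateCol (Matrix.of fun l j => ltr ((Fin.snoc (α := fun _ => P G × Fin n) L₀ p) l).1
        (Fin.snoc (α := fun _ => Fin n → Γ(G.left, ⊤)) N 0 j ((Fin.snoc (α := fun _ => P G × Fin n) L₀ p) l).2))
        (Fin.last d) (fun l => ltr ((Fin.snoc (α := fun _ => P G × Fin n) L₀ p) l).1
          (w ((Fin.snoc (α := fun _ => P G × Fin n) L₀ p) l).2)) := fun w => by
    refine Matrix.ext fun l j => ?_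
    induction j using Fin.lastCases with
    | last => simp [Matrix.updateCol_apply]
    | cast j => simp [Matrix.updateCol_apply, Fin.castSucc_ne_last]
  refine ⟨fun w w' => ?_, fun a w => ?_⟩
  · simp only [border, vminor]
    rw [hupd, hupd w, hupd w', ← Matrix.det_updateCol_add]
    exact congrArg Matrix.det (congrArg _ (funext fun l => by simp))
  · simp only [border, vminor]
    rw [hupd, hupd w]
    conv_rhs => rw [Algebra.smul_def, ← Matrix.det_updateCol_smul]
    exact congrArg Matrix.det (congrArg _ (funext fun l => by simp [Algebra.smul_def]))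

theorem border_self {n d : ℕ} (N : Fin d → Fin n → Γ(G.left, ⊤)) (L₀ : Fin d → P G × Fin n) (p : P G × Fin n)
    (j : Fin d) : border N L₀ p (N j) = 0 := by
  refine Matrix.det_zero_of_column_eq (Fin.castSucc_ne_last j) fun l => ?_
  simp

theorem border_mul {n d : ℕ} (N : Fin d → Fin n → Γ(G.left, ⊤)) (L₀ : Fin d → P G × Fin n) (p : P G × Fin n)
    (g : P G) (M : Matrix (Fin d) (Fin d) k) (hM : ∀ j, rtrV g (N j) = ∑ m, M j m • N m)
    (w : Fin n → Γ(G.left, ⊤)) (x : P G) :
    ev (x * g) (border N L₀ p w) = M.det * ev x (border N L₀ p (rtrV g w)) := by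
  let T' : Matrix (Fin (d + 1)) (Fin (d + 1)) k :=
    Matrix.of (Fin.snoc (α := fun _ => Fin (d + 1) → k) (fun j => Fin.snoc (α := fun _ => k) (M j) 0) (Pi.single (Fin.last d) 1))
  have hT' : T'.det = M.det := by
    rw [Matrix.det_succ_row T' (Fin.last d), Finset.sum_eq_single (Fin.last d)]
    · have hsub : T'.submatrix (Fin.last d).succAbove (Fin.last d).succAbove = M := by
        ext a b
        simp [T', Fin.succAbove_last]
      rw [hsub]
      simp [T', ← two_mul, pow_mul]
    · intro m _ hm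
      simp [T', hm]
    · simp
  have hcol : (fun j => rtrV g (Fin.snoc (α := fun _ => Fin n → Γ(G.left, ⊤)) N w j)) =
      fun j => ∑ m, T' j m • Fin.snoc (α := fun _ => Fin n → Γ(G.left, ⊤)) N (rtrV g w) m := by
    funext j
    induction j using Fin.lastCases with
    | last => simp [T', Fin.sum_univ_castSucc, Fin.castSucc_ne_last]
    | cast j => simp [T', Fin.sum_univ_castSucc, hM j]
  show ev (x * g) (vminor _ _) = _
  rw [ev_vminor_mul, hcol, vminor_comb, hT']
  rfl

/-- A finite-dimensional subspace is spanned by finitely many independent vectors. -/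
theorem exists_indep_spanning {M : Type u} [AddCommGroup M] [Module k M] (K : Submodule k M) [FiniteDimensional k K] :
    ∃ (d : ℕ) (N : Fin d → M), LinearIndependent k N ∧ Submodule.span k (Set.range N) = K := by
  refine ⟨_, fun j => (Module.finBasis k K j : M), (Module.finBasis k K).linearIndependent.map' K.subtype K.ker_subtype, ?_⟩
  rw [show (fun j => (Module.finBasis k K j : M)) = K.subtype ∘ Module.finBasis k K from rfl, Set.range_comp,
    Submodule.span_image, Module.Basis.span_eq, Submodule.map_subtype_top]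

/-- Modules of an observable subgroup are submodules of modules of the group. -/
theorem extendsAlong_of_observable [IsMonHom i] [IsClosedImmersion i.left] (hobs : AGF.IsObservableIn k i)
    (V : Type u) [AddCommGroup V] [Module k V] [Module.Finite k V] (σ : VecGrp.GMod H V) : σ.ExtendsAlong i := by
  classical
  obtain ⟨n, T, π, _, hπ, hTst⟩ := exists_presentation i V σ
  obtain ⟨d, N, hN, hNK⟩ := exists_indep_spanning ((LinearMap.ker π).map T.subtype)
  obtain ⟨L₀, hL₀⟩ := exists_vminor_ne N hN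
  have hNst : ∀ h : P H, ∃ M : Matrix (Fin d) (Fin d) k, ∀ j, rtrV (h ≫ i) (N j) = ∑ m, M j m • N m := fun h => by
    have hk : ∀ j, ∃ c : Fin d → k, ∑ m, c m • N m = rtrV (h ≫ i) (N j) := fun j => by
      rw [← Submodule.mem_span_range_iff_exists_fun, hNK]
      obtain ⟨z, hz, hzN⟩ : N j ∈ (LinearMap.ker π).map T.subtype := hNK ▸ Submodule.subset_span ⟨j, rfl⟩
      obtain ⟨hw, hπw⟩ := hTst h z
      exact ⟨⟨_, hw⟩, LinearMap.mem_ker.mpr (by rw [hπw, LinearMap.mem_ker.mp hz, map_zero]), by rw [← hzN]; rfl⟩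
    choose c hc using hk
    exact ⟨Matrix.of c, fun j => (hc j).symm⟩
  choose M hM using hNst
  have hwN : ∀ (L : Fin d → P G × Fin n) (x : P G) (h : P H),
      ev (x * (h ≫ i)) (vminor N L) = (M h).det * ev x (vminor N L) := fun L x h => by
    rw [ev_vminor_mul, funext (hM h), vminor_comb]
  -- the character
  let c : Γ(H.left, ⊤) := algebraMap k _ (ev 1 (vminor N L₀))⁻¹ * i.left.appTop (vminor N L₀)
  have hcM : ∀ h : P H, ev h c = (M h).det := fun h => by
    have := hwN L₀ 1 h
    rw [_root_.one_mul] at this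
    simp only [c, map_mul, ev_const, ← ev_comp, this]
    field_simp
  obtain ⟨χ, hχm, hχ⟩ := exists_char c
    (mul_right_cancel₀ hL₀ (by rw [hcM, ← hwN L₀ 1 1, MonObj.one_comp, _root_.mul_one, _root_.one_mul]))
    (fun x y => mul_right_cancel₀ hL₀ (by
      rw [hcM, hcM, hcM, ← hwN L₀ 1 (x * y), _root_.one_mul, MonObj.mul_comp, hwN, ← _root_.one_mul (x ≫ i), hwN]
      ring))
  obtain ⟨f', hf', hw'⟩ := (charCrit_of_observable i hobs χ hχm
    ⟨vminor N L₀, fun h0 => hL₀ (by rw [h0, map_zero]), fun x h => by simp only [hχ, hcM]; exact hwN L₀ x h⟩).exists_ne_one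
  obtain ⟨sec, hsec⟩ := π.exists_rightInverse_of_surjective (LinearMap.range_eq_top.mpr hπ)
  have hsec' : ∀ v, π (sec v) = v := fun v => LinearMap.congr_fun hsec v
  have hΦN : ∀ p, ∀ z : T, π z = 0 → border N L₀ p (z : Fin n → Γ(G.left, ⊤)) = 0 := fun p z hz => by
    have hle : Submodule.span k (Set.range N) ≤ LinearMap.ker (IsLinearMap.mk' _ (isLinear_border N L₀ p)) :=
      Submodule.span_le.mpr (by rintro _ ⟨j, rfl⟩; exact border_self N L₀ p j)
    exact hle (hNK ▸ ⟨z, LinearMap.mem_ker.mpr hz, rfl⟩)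
  let Ψ : P G × Fin n → (V →ₗ[k] Γ(G.left, ⊤)) := fun p =>
    LinearMap.mulLeft k f' ∘ₗ IsLinearMap.mk' _ (isLinear_border N L₀ p) ∘ₗ T.subtype ∘ₗ sec
  have hΨ : ∀ p (h : P H) v, Ψ p (act σ h v) = rtr (h ≫ i) (Ψ p v) := fun p h v => ext_fun fun x => by
    show ev x (f' * border N L₀ p (sec (act σ h v) : Fin n → Γ(G.left, ⊤))) = ev x (rtr (h ≫ i) (f' * border N L₀ p (sec v : Fin n → Γ(G.left, ⊤))))
    obtain ⟨hw, hπw⟩ := hTst h (sec v)
    rw [hsec'] at hπw
    have hdiff : π (⟨_, hw⟩ - sec (act σ h v) : T) = 0 := by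
      rw [map_sub, hπw, hsec', sub_self]
    have e1 : border N L₀ p (rtrV (h ≫ i) (sec v : Fin n → Γ(G.left, ⊤))) = border N L₀ p (sec (act σ h v) : Fin n → Γ(G.left, ⊤)) := by
      have := hΦN p _ hdiff
      rwa [Submodule.coe_sub, (isLinear_border N L₀ p).map_sub, sub_eq_zero] at this
    have e2 : ev (x * (h ≫ i)) (border N L₀ p (sec v : Fin n → Γ(G.left, ⊤))) =
        (M h).det * ev x (border N L₀ p (rtrV (h ≫ i) (sec v : Fin n → Γ(G.left, ⊤)))) := by
      exact border_mul N L₀ p _ (M h) (hM h) _ x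
    rw [map_mul, ev_rtr, map_mul, e2, e1, hw' x h, ev_gmFn_inv, hχ, hcM, _root_.mul_mul_mul_comm, inv_mul_cancel₀
      (by rw [← hcM, ← hχ]; exact ev_gmFn_ne χ h), _root_.one_mul]
  -- joint injectivity of finitely many of them
  obtain ⟨S, hS⟩ : ∃ S : Finset (P G × Fin n), ∀ v, (∀ p ∈ S, Ψ p v = 0) → v = 0 := by
    obtain ⟨_, ⟨S, rfl⟩, hmin⟩ := (IsArtinian.set_has_minimal (R := k) (M := V))
      (Set.range fun S : Finset (P G × Fin n) => S.inf fun p => LinearMap.ker (Ψ p)) ⟨_, ∅, rfl⟩
    refine ⟨S, fun v hv => ?_⟩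
    have hall : ∀ p, Ψ p v = 0 := fun p => by
      by_contra hp
      refine hmin _ ⟨insert p S, rfl⟩ (lt_of_le_of_ne (Finset.inf_mono (Finset.subset_insert p S)) fun heq => hp ?_)
      have : v ∈ S.inf fun p => LinearMap.ker (Ψ p) := Submodule.mem_finsetInf.mpr fun q hq => hv q hq
      simp only at heq
      rw [← heq, Submodule.mem_finsetInf] at this
      exact this p (Finset.mem_insert_self p S)
    have hz : (sec v : Fin n → Γ(G.left, ⊤)) ∈ Submodule.span k (Set.range N) := by
      refine mem_span_of_border N _ L₀ hL₀ fun p => ?_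
      have := congrArg (ev (1 : P G)) (hall p)
      simp only [Ψ, LinearMap.comp_apply, LinearMap.mulLeft_apply, map_mul, map_zero] at this
      exact (mul_eq_zero.mp this).resolve_left hf'
    rw [hNK] at hz
    obtain ⟨z, hz, hze⟩ := hz
    rw [← hsec' v, ← Subtype.ext hze]
    exact hz
  let b := Module.finBasis k V
  obtain ⟨W₂, _, hW₂s, hW₂⟩ := exists_stable ((S ×ˢ Finset.univ).image fun q => Ψ q.1 (b q.2))
  have hmem : ∀ p ∈ S, ∀ v, Ψ p v ∈ W₂ := fun p hp v => by
    rw [← b.sum_repr v, map_sum]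
    exact Submodule.sum_mem _ fun m _ => by
      rw [map_smul]
      exact Submodule.smul_mem _ _ (hW₂s (Finset.mem_coe.mpr (Finset.mem_image.mpr ⟨(p, m), by simp [hp], rfl⟩)))
  obtain ⟨r, e, he⟩ := exists_rep_of_stable W₂ hW₂
  obtain ⟨R, hR⟩ := exists_rep_pow r S.card
  let φ : V →ₗ[k] (Fin (Module.finrank k W₂ * S.card) → k) := LinearMap.pi fun m =>
    LinearMap.proj (finProdFinEquiv.symm m).1 ∘ₗ e.symm.toLinearMap ∘ₗ
      (Ψ (S.equivFin.symm (finProdFinEquiv.symm m).2)).codRestrict W₂ fun v => hmem _ (S.equivFin.symm _).2 v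
  have hφ : ∀ v l q, φ v (finProdFinEquiv (l, q)) =
      e.symm ⟨Ψ (S.equivFin.symm q) v, hmem _ (S.equivFin.symm q).2 v⟩ l := fun v l q => by
    simp only [φ, LinearMap.pi_apply, Equiv.symm_apply_apply, LinearMap.comp_apply, LinearMap.proj_apply]
    rfl
  refine ⟨_, inferInstance, inferInstance, inferInstance, R.gmod, φ, ?_, equivariant_of_points R.gmod i σ φ fun h v => ?_⟩
  · rw [← LinearMap.ker_eq_bot]
    refine (Submodule.eq_bot_iff _).mpr fun v hv => hS v fun p hp => ?_
    have h0 : e.symm ⟨Ψ p v, hmem p hp v⟩ = 0 := funext fun l => by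
      rw [show e.symm ⟨Ψ p v, hmem p hp v⟩ l = φ v (finProdFinEquiv (l, S.equivFin ⟨p, hp⟩)) from ?_,
        LinearMap.mem_ker.mp hv]
      · rfl
      · rw [hφ]
        simp only [Equiv.symm_apply_apply]
    rw [LinearEquiv.map_eq_zero_iff] at h0
    exact congrArg Subtype.val h0
  · funext m
    obtain ⟨⟨l, q⟩, rfl⟩ := finProdFinEquiv.surjective m
    rw [hR, hφ]
    simp only [hφ]
    refine congrFun (e.injective (Subtype.ext ?_)) l
    rw [he, LinearEquiv.apply_symm_apply, LinearEquiv.apply_symm_apply]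
    exact hΨ _ h v

/-- If every module extends then the character criterion holds. -/
theorem charCrit_of_extends [IsMonHom i]
    (hext : ∀ (V : Type u) [AddCommGroup V] [Module k V] [Module.Finite k V] (σ : VecGrp.GMod H V), σ.ExtendsAlong i) :
    CharCrit i := by
  intro χ hχ _
  haveI := hχ
  set c := Red.gmFn χ⁻¹ with hc
  obtain ⟨r, hr⟩ := exists_rep (G := H) (Matrix.of fun (_ _ : Fin 1) => c) (fun x y => by
      ext a b
      simp [Matrix.mul_apply, hc, ev_gmFn_inv, ev_gmFn_mul χ, _root_.mul_inv, mul_comm])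
    (by
      ext a b
      simp [hc, ev_gmFn_inv, ev_gmFn_one χ, Matrix.one_apply, Subsingleton.elim a b])
  obtain ⟨W, _, _, _, ρ, φ, hφ, heq⟩ := hext (Fin 1 → k) r.gmod
  refine isWt_of_vector i χ⁻¹ ρ (φ 1) (fun h0 => one_ne_zero (congrFun (hφ (h0.trans (map_zero φ).symm)) 0)) fun h => ?_
  have h1 : act r.gmod h 1 = ev h c • (1 : Fin 1 → k) := by
    rw [act_rep, hr]
    ext a
    simp [Matrix.mulVec, dotProduct]
  apply (TensorProduct.lid k W).symm.injective
  rw [TensorProduct.lid_symm_apply, TensorProduct.lid_symm_apply, ← act_apply, ← map_smul, ← h1, toPt_comp,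
    ← LinearMap.baseChange_tmul, ← LinearMap.baseChange_tmul, ← heq, act_apply]

end Groth.Agent.H1.Obs
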