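import Groth.Agent.H1.Obs.Basic
import Mathlib.LinearAlgebra.GeneralLinearGroup.Basic

/-!
# The regular representation on the functions of an affine group
-/

universe u

open CategoryTheory Limits MonoidalCategory CartesianMonoidalCategory MonObj GrpObj AlgebraicGeometry
open scoped TensorProduct

namespace Groth.Agent.H1.Obs

set_option linter.style.haveILetI false
set_option linter.unusedSectionVars false

open Groth.Agent.Lib.RedPts Groth.Agent.Lib.RedPts.Points Classical.Scheme' Groth.Agent.H1.RInv

attribute [local instance] baseAlgebra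

variable {k : Type u} [Field k] {G H : Over (Spec (CommRingCat.of k))} [GrpObj G] [GrpObj H] [IsAffine G.left]

theorem ptMap_comp' {B B' B'' : Type u} [CommRing B] [Algebra k B] [CommRing B'] [Algebra k B'] [CommRing B'']
    [Algebra k B''] (φ : B →ₐ[k] B') (ψ : B' →ₐ[k] B'') :
    VecGrp.ptMap (ψ.comp φ) = VecGrp.ptMap ψ ≫ VecGrp.ptMap φ := by
  refine Over.OverMorphism.ext ?_
  show Spec.map _ = Spec.map _ ≫ Spec.map _
  rw [← Spec.map_comp]
  rfl

theorem evB_ptMap {B B' : Type u} [CommRing B] [Algebra k B] [CommRing B'] [Algebra k B']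
    (φ : B →ₐ[k] B') (g : VecGrp.pt k B ⟶ G) (f : Γ(G.left, ⊤)) : evB (VecGrp.ptMap φ ≫ g) f = φ (evB g f) := by
  rw [evB_apply, evB_apply, Over.comp_left, Scheme.Hom.comp_appTop, CommRingCat.comp_apply]
  exact ConcreteCategory.congr_hom (Scheme.ΓSpecIso_naturality (CommRingCat.ofHom φ.toRingHom)) _

variable {B : Type u} [CommRing B] [Algebra k B]

/-- The point universal on the left translated by a point. -/
noncomputable def transPt (g : VecGrp.pt k B ⟶ G) : VecGrp.pt k (B ⊗[k] Γ(G.left, ⊤)) ⟶ G :=
  (VecGrp.ptMap (Algebra.TensorProduct.includeRight (R := k) (A := B) (B := Γ(G.left, ⊤))) ≫ univPt G) *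
    (VecGrp.ptMap (Algebra.TensorProduct.includeLeft (R := k) (S := k) (A := B) (B := Γ(G.left, ⊤))) ≫ g)

/-- Right translation of functions by a point. -/
noncomputable def transHom (g : VecGrp.pt k B ⟶ G) : B ⊗[k] Γ(G.left, ⊤) →ₐ[B] B ⊗[k] Γ(G.left, ⊤) :=
  Algebra.TensorProduct.lift (Algebra.ofId B _) (evB (transPt g)) fun _ _ => Commute.all _ _

theorem transHom_tmul (g : VecGrp.pt k B ⟶ G) (f : Γ(G.left, ⊤)) :
    transHom g ((1 : B) ⊗ₜ f) = evB (transPt g) f := by
  rw [transHom, Algebra.TensorProduct.lift_tmul, map_one, _root_.one_mul]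

theorem transHom_tmul_one (g : VecGrp.pt k B ⟶ G) (b : B) :
    transHom g (b ⊗ₜ (1 : Γ(G.left, ⊤))) = b ⊗ₜ 1 :=
  (transHom g).commutes b

theorem transHom_one : transHom (1 : VecGrp.pt k B ⟶ G) = AlgHom.id B _ := by
  refine Algebra.TensorProduct.ext (AlgHom.ext fun b => by simp [transHom_tmul_one]) (AlgHom.ext fun f => ?_)
  show transHom 1 ((1 : B) ⊗ₜ f) = (1 : B) ⊗ₜ f
  rw [transHom_tmul, transPt, MonObj.comp_one, _root_.mul_one, evB_ptMap]
  have hu : evB (univPt G) f = f := by
    rw [evB_apply]
    show (Scheme.ΓSpecIso (CommRingCat.of Γ(G.left, ⊤))).hom (G.left.isoSpec.inv.appTop f) = f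
    rw [RInv.isoSpec_inv_appTop]
    exact Iso.inv_hom_id_apply (Scheme.ΓSpecIso Γ(G.left, ⊤)) f
  rw [hu]
  rfl

theorem transHom_mul (g h : VecGrp.pt k B ⟶ G) : transHom (g * h) = (transHom g).comp (transHom h) := by
  refine Algebra.TensorProduct.ext (AlgHom.ext fun b => by simp [transHom_tmul_one]) (AlgHom.ext fun f => ?_)
  show transHom (g * h) ((1 : B) ⊗ₜ f) = transHom g (transHom h ((1 : B) ⊗ₜ f))
  rw [transHom_tmul, transHom_tmul]
  show _ = ((transHom g).restrictScalars k) (evB (transPt h) f)
  rw [← evB_ptMap]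
  congr 2
  have h1 : ((transHom g).restrictScalars k).comp Algebra.TensorProduct.includeRight = evB (transPt g) :=
    AlgHom.ext (transHom_tmul g)
  have h2 : ((transHom g).restrictScalars k).comp
      (Algebra.TensorProduct.includeLeft (R := k) (S := k) (A := B) (B := Γ(G.left, ⊤))) =
      Algebra.TensorProduct.includeLeft := AlgHom.ext fun b => by
    show transHom g (b ⊗ₜ 1) = b ⊗ₜ 1
    rw [show (b ⊗ₜ[k] (1 : Γ(G.left, ⊤)) : B ⊗[k] Γ(G.left, ⊤)) = algebraMap B _ b from rfl, AlgHom.commutes]
  conv_rhs => rw [transPt, MonObj.comp_mul, ← Category.assoc, ← ptMap_comp', h1, eq_ptMap_univ, ← Category.assoc,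
    ← ptMap_comp', h2, transPt, _root_.mul_assoc, ← MonObj.comp_mul]
  rfl

variable (G) in
/-- The regular representation. -/
noncomputable def regular : VecGrp.GMod G Γ(G.left, ⊤) where
  ρ B _ _ := (LinearMap.GeneralLinearGroup.generalLinearEquiv B _).toMonoidHom.comp
    (MonoidHom.toHomUnits
      { toFun := fun g => (transHom g).toLinearMap
        map_one' := by rw [transHom_one]; rfl
        map_mul' := fun g h => by rw [transHom_mul]; rfl })
  naturality {B B'} _ _ _ _ φ g x := by
    show VecGrp.Wmap φ (transHom g x) = transHom (VecGrp.ptMap φ ≫ g) (VecGrp.Wmap φ x)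
    induction x using TensorProduct.induction_on with
    | zero => simp
    | add p q hp hq => simp only [map_add, hp, hq]
    | tmul b f =>
      rw [VecGrp.Wmap_tmul, transHom, transHom, Algebra.TensorProduct.lift_tmul, Algebra.TensorProduct.lift_tmul]
      let ψ : B ⊗[k] Γ(G.left, ⊤) →ₐ[k] B' ⊗[k] Γ(G.left, ⊤) := Algebra.TensorProduct.map φ (AlgHom.id k _)
      have hψ : ∀ z, VecGrp.Wmap φ z = ψ z := fun z => by
        induction z using TensorProduct.induction_on with
        | zero => simp
        | tmul c d => rfl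
        | add p q hp hq => simp only [map_add, hp, hq]
      rw [hψ, map_mul, ← evB_ptMap]
      have e : VecGrp.ptMap ψ ≫ transPt g = transPt (VecGrp.ptMap φ ≫ g) := by
        rw [transPt, transPt, MonObj.comp_mul, ← Category.assoc, ← ptMap_comp', ← Category.assoc, ← ptMap_comp',
          ← Category.assoc (VecGrp.ptMap _) (VecGrp.ptMap φ), ← ptMap_comp']
        congr 2
        all_goals exact congrArg VecGrp.ptMap (AlgHom.ext fun z => by simp [ψ])
      rw [e]
      congr 1

theorem regular_ρ (g : VecGrp.pt k B ⟶ G) (x : B ⊗[k] Γ(G.left, ⊤)) : (regular G).ρ B g x = transHom g x := rfl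

theorem regular_isMult : (regular G).IsMult := fun B _ _ g =>
  ⟨fun x y => map_mul (transHom g) x y, map_one (transHom g)⟩

theorem act_regular [IsAlgClosed k] [Smooth G.hom] (x : P G) (f : Γ(G.left, ⊤)) : act (regular G) x f = rtr x f := by
  haveI : IsReduced G.left := Groth.Agent.Lib.GrpSch.isReduced_of_smooth_field G.hom
  refine ext_points fun y => ?_
  rw [ev_rtr]
  have h : ∀ z : k ⊗[k] Γ(G.left, ⊤), ev y (TensorProduct.lid k _ z) =
      (Algebra.TensorProduct.lift (AlgHom.id k k) (evA y) (fun _ _ => Commute.all _ _)) z := fun z => by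
    induction z using TensorProduct.induction_on with
    | zero => simp
    | tmul c d => simp [Algebra.smul_def, ev_const, evA_apply]
    | add p q hp hq => simp only [map_add, hp, hq]
  show ev y (TensorProduct.lid k _ ((regular G).ρ k (toPt x) ((1 : k) ⊗ₜ f))) = _
  rw [h, regular_ρ, transHom_tmul, ← evB_ptMap, transPt, MonObj.comp_mul, ← Category.assoc, ← ptMap_comp',
    ← Category.assoc, ← ptMap_comp']
  rw [← evB_toPt (y * x) f, toPt_mul]
  congr 3
  · have e1 : (Algebra.TensorProduct.lift (AlgHom.id k k) (evA y) fun _ _ => Commute.all _ _).comp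
        Algebra.TensorProduct.includeRight = evB (toPt y) := AlgHom.ext fun z => by simp [evA_apply, evB_toPt]
    rw [e1, eq_ptMap_univ]
  · have e2 : (Algebra.TensorProduct.lift (AlgHom.id k k) (evA y) fun _ _ => Commute.all _ _).comp
        Algebra.TensorProduct.includeLeft = AlgHom.id k k := AlgHom.ext fun z => by simp
    rw [e2]
    convert Category.id_comp (toPt x)
    exact Over.OverMorphism.ext (Spec.map_id _)

/-- A representation of a group as one of a group mapping to it. -/
noncomputable def pullMod {M : Type u} [AddCommGroup M] [Module k M] (ρ : VecGrp.GMod G M) (i : H ⟶ G) [IsMonHom i] :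
    VecGrp.GMod H M where
  ρ B _ _ := (ρ.ρ B).comp (MonoidHom.mk' (fun h => h ≫ i) fun a b => MonObj.mul_comp a b i)
  naturality φ h x := by
    show VecGrp.Wmap φ (ρ.ρ _ (h ≫ i) x) = ρ.ρ _ ((VecGrp.ptMap φ ≫ h) ≫ i) (VecGrp.Wmap φ x)
    rw [Category.assoc]
    exact ρ.naturality φ _ x

end Groth.Agent.H1.Obs
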