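import Groth.Agent.H1.Obs.Mod
import Groth.Agent.Lib.GrpQ.RepMat
import Mathlib.LinearAlgebra.Dual.Lemmas
import Mathlib.LinearAlgebra.Matrix.Block

/-!
# Finite dimensional representations on functions
-/

universe u

open CategoryTheory Limits MonoidalCategory CartesianMonoidalCategory MonObj GrpObj AlgebraicGeometry
open scoped TensorProduct

namespace Groth.Agent.H1.Obs

set_option linter.style.haveILetI false
set_option linter.unusedSectionVars false
set_option maxHeartbeats 800000

open Groth.Agent.Lib.RedPts Groth.Agent.Lib.RedPts.Points Classical.Scheme' Groth.Agent.H1.RInv Groth.Agent.Lib.GrpQ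

attribute [local instance] baseAlgebra

variable {k : Type u} [Field k] [IsAlgClosed k] {G : Over (Spec (CommRingCat.of k))} [GrpObj G] [IsAffine G.left]
  [Smooth G.hom]

theorem ext_fun {f f' : Γ(G.left, ⊤)} (h : ∀ x : P G, ev x f = ev x f') : f = f' :=
  haveI : IsReduced G.left := Groth.Agent.Lib.GrpSch.isReduced_of_smooth_field G.hom
  ext_points h

theorem rtr_rtr (g h : P G) (f : Γ(G.left, ⊤)) : rtr g (rtr h f) = rtr (g * h) f :=
  ext_fun fun x => by rw [ev_rtr, ev_rtr, ev_rtr, _root_.mul_assoc]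

theorem ltr_ltr (g h : P G) (f : Γ(G.left, ⊤)) : ltr g (ltr h f) = ltr (h * g) f :=
  ext_fun fun x => by rw [ev_ltr, ev_ltr, ev_ltr, _root_.mul_assoc]

theorem rtr_one (f : Γ(G.left, ⊤)) : rtr (1 : P G) f = f := ext_fun fun x => by rw [ev_rtr, _root_.mul_one]

theorem ltr_one (f : Γ(G.left, ⊤)) : ltr (1 : P G) f = f := ext_fun fun x => by rw [ev_ltr, _root_.one_mul]

theorem rtr_ltr (g h : P G) (f : Γ(G.left, ⊤)) : rtr g (ltr h f) = ltr h (rtr g f) :=
  ext_fun fun x => by rw [ev_rtr, ev_ltr, ev_ltr, ev_rtr, _root_.mul_assoc]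

/-- A finite set of functions lies in a finite dimensional subspace stable under right translation. -/
theorem exists_stable (s : Finset Γ(G.left, ⊤)) :
    ∃ W : Submodule k Γ(G.left, ⊤), FiniteDimensional k W ∧ ↑s ⊆ (W : Set Γ(G.left, ⊤)) ∧
      ∀ g : P G, ∀ w ∈ W, rtr g w ∈ W := by
  classical
  let S : Set Γ(G.left, ⊤) := {w | ∃ f ∈ s, ∃ g : P G, w = rtr g f}
  choose n a b hab using fun f : Γ(G.left, ⊤) => exists_mul f
  let U : Submodule k Γ(G.left, ⊤) := Submodule.span k (⋃ f ∈ s, Set.range (a f))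
  haveI : FiniteDimensional k U :=
    FiniteDimensional.span_of_finite k (Set.Finite.biUnion s.finite_toSet fun f _ => Set.finite_range _)
  have hle : Submodule.span k S ≤ U := by
    rw [Submodule.span_le]
    rintro _ ⟨f, hf, g, rfl⟩
    have : rtr g f = ∑ i, ev g (b f i) • a f i := ext_fun fun x => by
      rw [ev_rtr, hab f, map_sum]
      exact Finset.sum_congr rfl fun i _ => by rw [Algebra.smul_def, map_mul, ev_const, mul_comm]
    rw [this]
    exact Submodule.sum_mem _ fun i _ => Submodule.smul_mem _ _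
      (Submodule.subset_span (Set.mem_biUnion hf ⟨i, rfl⟩))
  refine ⟨Submodule.span k S, Submodule.finiteDimensional_of_le hle,
    fun f hf => Submodule.subset_span ⟨f, hf, 1, (rtr_one f).symm⟩, fun g w hw => ?_⟩
  have : Submodule.span k S ≤ (Submodule.span k S).comap (rtr g).toLinearMap := by
    rw [Submodule.span_le]
    rintro _ ⟨f, hf, h, rfl⟩
    exact Submodule.subset_span ⟨f, hf, g * h, rtr_rtr g h f⟩
  exact this hw

/-- A finite set of functions lies in a finite dimensional subspace stable under left translation. -/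
theorem exists_stable_left (s : Finset Γ(G.left, ⊤)) :
    ∃ W : Submodule k Γ(G.left, ⊤), FiniteDimensional k W ∧ ↑s ⊆ (W : Set Γ(G.left, ⊤)) ∧
      (∀ g : P G, ∀ w ∈ W, ltr g w ∈ W) ∧
      ∀ g : P G, (∀ f ∈ s, rtr g f = f) → ∀ w ∈ W, rtr g w = w := by
  classical
  let S : Set Γ(G.left, ⊤) := {w | ∃ f ∈ s, ∃ g : P G, w = ltr g f}
  choose n a b hab using fun f : Γ(G.left, ⊤) => exists_mul f
  let U : Submodule k Γ(G.left, ⊤) := Submodule.span k (⋃ f ∈ s, Set.range (b f))
  haveI : FiniteDimensional k U :=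
    FiniteDimensional.span_of_finite k (Set.Finite.biUnion s.finite_toSet fun f _ => Set.finite_range _)
  have hle : Submodule.span k S ≤ U := by
    rw [Submodule.span_le]
    rintro _ ⟨f, hf, g, rfl⟩
    have : ltr g f = ∑ i, ev g (a f i) • b f i := ext_fun fun x => by
      rw [ev_ltr, hab f, map_sum]
      exact Finset.sum_congr rfl fun i _ => by rw [Algebra.smul_def, map_mul, ev_const]
    rw [this]
    exact Submodule.sum_mem _ fun i _ => Submodule.smul_mem _ _
      (Submodule.subset_span (Set.mem_biUnion hf ⟨i, rfl⟩))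
  refine ⟨Submodule.span k S, Submodule.finiteDimensional_of_le hle,
    fun f hf => Submodule.subset_span ⟨f, hf, 1, (ltr_one f).symm⟩, fun g w hw => ?_, fun g hg w hw => ?_⟩
  · have : Submodule.span k S ≤ (Submodule.span k S).comap (ltr g).toLinearMap := by
      rw [Submodule.span_le]
      rintro _ ⟨f, hf, h, rfl⟩
      exact Submodule.subset_span ⟨f, hf, h * g, ltr_ltr g h f⟩
    exact this hw
  · have : Submodule.span k S ≤ LinearMap.eqLocus (rtr g).toLinearMap LinearMap.id := by
      rw [Submodule.span_le]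
      rintro _ ⟨f, hf, h, rfl⟩
      show rtr g (ltr h f) = ltr h f
      rw [rtr_ltr, hg f hf]
    exact this hw

/-- A matrix of functions multiplicative on rational points is a representation. -/
theorem exists_rep {n : ℕ} (M : Matrix (Fin n) (Fin n) Γ(G.left, ⊤))
    (hmul : ∀ x y : P G, M.map (ev (x * y)) = M.map (ev x) * M.map (ev y))
    (hone : M.map (ev (1 : P G)) = 1) : ∃ r : RepMat.Rep G n, r.P = M := by
  haveI : IsAffine (G ⊗ G).left := inferInstanceAs (IsAffine (pullback G.hom G.hom))
  haveI : Smooth (G ⊗ G).hom := inferInstanceAs (Smooth (pullback.fst G.hom G.hom ≫ G.hom))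
  haveI : IsReduced (G ⊗ G).left := Groth.Agent.Lib.GrpSch.isReduced_of_smooth_field (G ⊗ G).hom
  have h2 : RepMat.pbM (fst G G * snd G G) M = RepMat.pbM (fst G G) M * RepMat.pbM (snd G G) M := by
    ext i j
    refine ext_points fun p => ?_
    have h := congrFun (congrFun (hmul (p ≫ fst G G) (p ≫ snd G G)) i) j
    simp only [Matrix.mul_apply, Matrix.map_apply] at h
    simp only [RepMat.pbM, Matrix.mul_apply, Matrix.map_apply, map_sum, map_mul]
    rw [← ev_comp, MonObj.comp_mul]
    refine h.trans (Finset.sum_congr rfl fun l _ => ?_)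
    rw [ev_comp, ev_comp]
  have h1 : RepMat.pbM (η[G]) M = 1 := by
    ext i j
    apply (Scheme.ΓSpecIso (CommRingCat.of k)).commRingCatIsoToRingEquiv.injective
    have h := congrFun (congrFun hone i) j
    rw [Matrix.map_apply] at h
    have hη : (η[G] : P G) = 1 := by rw [Hom.one_def, toUnit_unique (toUnit _) (𝟙 _), Category.id_comp]
    rw [← hη] at h
    refine h.trans ?_
    rw [Matrix.one_apply, Matrix.one_apply]
    split_ifs
    · exact (map_one _).symm
    · exact (map_zero _).symm
  refine ⟨⟨M, fun {T} g h => ?_, fun {T} => ?_⟩, rfl⟩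
  · rw [show g * h = lift g h ≫ (fst G G * snd G G) by rw [MonObj.comp_mul, lift_fst, lift_snd], RepMat.pbM_comp, h2]
    conv_rhs => rw [← lift_fst g h]; arg 2; rw [← lift_snd g h]
    rw [RepMat.pbM_comp, RepMat.pbM_comp]
    exact Matrix.map_mul
  · rw [Hom.one_def, RepMat.pbM_comp, h1]
    exact Matrix.map_one _ (map_zero _) (map_one _)

omit [IsAlgClosed k] [Smooth G.hom] in
/-- The action of a point in a matrix representation. -/
theorem act_rep {n : ℕ} (r : RepMat.Rep G n) (x : P G) (v : Fin n → k) :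
    act r.gmod x v = (r.P.map (ev x)).mulVec v := by
  apply (TensorProduct.lid k (Fin n → k)).symm.injective
  rw [TensorProduct.lid_symm_apply, TensorProduct.lid_symm_apply, ← act_apply]
  show Matrix.toLinAlgEquiv (RepMat.bas k n k) (r.val k (toPt x)) _ = _
  apply (RepMat.bas k n k).repr.injective
  ext i
  rw [Matrix.toLinAlgEquiv_apply, Module.Basis.repr_sum_self, Algebra.TensorProduct.basis_repr_tmul]
  simp [Matrix.mulVec, dotProduct, RepMat.Rep.val, RepMat.pbM, ← evB_toPt, evB_apply]

/-- Coordinates are combinations of evaluations. -/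
theorem exists_coord (W : Submodule k Γ(G.left, ⊤)) [FiniteDimensional k W] {ι' : Type} (b : Module.Basis ι' k W) :
    ∃ c : ι' → (P G →₀ k), ∀ i (w : W), b.repr w i = (c i).sum fun x a => a * ev x (w : Γ(G.left, ⊤)) := by
  let E : P G → Module.Dual k W := fun x => (evA x).toLinearMap ∘ₗ W.subtype
  have hspan : Submodule.span k (Set.range E) = ⊤ := by
    by_contra h
    obtain ⟨φ, hφ0, hφ⟩ := Submodule.exists_dual_map_eq_bot_of_lt_top (lt_top_iff_ne_top.mpr h) inferInstance
    obtain ⟨w, rfl⟩ := (Module.evalEquiv k W).surjective φ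
    have : w = 0 := Subtype.ext (ext_fun fun x => by
      have h2 := (Submodule.span_le.mp (LinearMap.le_ker_iff_map.mpr hφ)) ⟨x, rfl⟩
      simpa [E, evA_apply] using h2)
    exact hφ0 (by rw [this, map_zero])
  choose c hc using fun i => Finsupp.mem_span_range_iff_exists_finsupp.mp
    (show b.coord i ∈ Submodule.span k (Set.range E) by rw [hspan]; trivial)
  refine ⟨c, fun i w => ?_⟩
  rw [← Module.Basis.coord_apply, ← hc i]
  simp [Finsupp.sum, E, evA_apply]

/-- A stable subspace carries a representation. -/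
theorem exists_rep_of_stable (W : Submodule k Γ(G.left, ⊤)) [FiniteDimensional k W]
    (hW : ∀ g : P G, ∀ w ∈ W, rtr g w ∈ W) :
    ∃ (r : RepMat.Rep G (Module.finrank k W)) (e : (Fin (Module.finrank k W) → k) ≃ₗ[k] W),
      ∀ (g : P G) (v : Fin (Module.finrank k W) → k), (e (act r.gmod g v) : Γ(G.left, ⊤)) = rtr g (e v) := by
  classical
  let b := Module.finBasis k W
  obtain ⟨c, hc⟩ := exists_coord W b
  let M : Matrix (Fin (Module.finrank k W)) (Fin (Module.finrank k W)) Γ(G.left, ⊤) :=
    fun i j => (c i).sum fun x a => a • ltr x (b j : Γ(G.left, ⊤))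
  have hM' : ∀ g i j, ev g (M i j) = b.repr ⟨rtr g (b j), hW g _ (b j).2⟩ i := fun g i j => by
    rw [hc i]
    simp only [M, Finsupp.sum, map_sum]
    refine Finset.sum_congr rfl fun x _ => ?_
    rw [Algebra.smul_def, map_mul, ev_const, ev_ltr]
    exact congrArg _ (ev_rtr x g _).symm
  let L : P G → (W →ₗ[k] W) := fun g => (rtr g).toLinearMap.restrict (hW g)
  have hL : ∀ g, M.map (ev g) = LinearMap.toMatrix b b (L g) := fun g => by
    ext i j
    rw [Matrix.map_apply, hM', LinearMap.toMatrix_apply]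
    rfl
  obtain ⟨r, hr⟩ := exists_rep M (fun x y => by
    rw [hL, hL, hL, ← LinearMap.toMatrix_comp]
    exact congrArg _ (LinearMap.ext fun w => Subtype.ext (rtr_rtr x y w).symm)) (by
    rw [hL, ← LinearMap.toMatrix_id b]
    exact congrArg _ (LinearMap.ext fun w => Subtype.ext (rtr_one (w : Γ(G.left, ⊤)))))
  refine ⟨r, b.equivFun.symm, fun g v => ?_⟩
  rw [act_rep, hr, hL]
  have h := LinearMap.toMatrix_mulVec_repr b b (L g) (b.equivFun.symm v)
  rw [show ⇑(b.repr (b.equivFun.symm v)) = v from b.equivFun.apply_symm_apply v] at h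
  rw [h, show ⇑(b.repr (L g (b.equivFun.symm v))) = b.equivFun (L g (b.equivFun.symm v)) from rfl,
    LinearEquiv.symm_apply_apply]
  rfl

/-- A tuple of functions is a vector of a finite dimensional module, on which points act by right translation. -/
theorem exists_gmod_tuple {J : Type u} [Finite J] (f : J → Γ(G.left, ⊤)) :
    ∃ (n : ℕ) (ρ : VecGrp.GMod G (Fin n → k)) (v : Fin n → k),
      ∀ g : P G, act ρ g v = v ↔ ∀ l, rtr g (f l) = f l := by
  classical
  haveI := Fintype.ofFinite J
  obtain ⟨W, _, hs, hW⟩ := exists_stable (Finset.univ.image f)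
  obtain ⟨r, e, he⟩ := exists_rep_of_stable W hW
  have hf : ∀ l, f l ∈ W := fun l => hs (Finset.mem_coe.mpr (Finset.mem_image_of_mem f (Finset.mem_univ l)))
  let n := Module.finrank k W
  let σ : Fin n × Fin (Fintype.card J) ≃ Fin (n * Fintype.card J) := finProdFinEquiv
  let B : Matrix (Fin (n * Fintype.card J)) (Fin (n * Fintype.card J)) Γ(G.left, ⊤) :=
    Matrix.reindex σ σ (Matrix.blockDiagonal fun _ => r.P)
  have hmap : ∀ x : P G, B.map (ev x) = Matrix.reindex σ σ (Matrix.blockDiagonal fun _ => r.P.map (ev x)) := fun x => by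
    show (Matrix.reindex σ σ (Matrix.blockDiagonal fun _ => r.P)).map (ev x) = _
    rw [Matrix.reindex_apply, Matrix.reindex_apply, ← Matrix.submatrix_map, Matrix.blockDiagonal_map _ _ (map_zero _)]
  have hpb : ∀ x : P G, (RepMat.pbM x r.P).map (Scheme.ΓSpecIso (CommRingCat.of k)).hom = r.P.map (ev x) := fun x => rfl
  obtain ⟨R, hR⟩ := exists_rep B (fun x y => by
      simp only [hmap, Matrix.reindex_apply, Matrix.submatrix_mul_equiv, ← Matrix.blockDiagonal_mul, ← hpb, r.mul,
        Matrix.map_mul])
    (by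
      simp only [hmap, ← hpb, r.one]
      rw [show (fun _ : Fin (Fintype.card J) => ((1 : Matrix (Fin n) (Fin n) _)).map
        (Scheme.ΓSpecIso (CommRingCat.of k)).hom) = 1 from funext fun _ => Matrix.map_one _ (map_zero _) (map_one _),
        Matrix.blockDiagonal_one, Matrix.reindex_apply, Matrix.submatrix_one_equiv])
  let v : Fin (n * Fintype.card J) → k := fun p =>
    e.symm ⟨f ((Fintype.equivFin J).symm (σ.symm p).2), hf _⟩ (σ.symm p).1
  refine ⟨_, R.gmod, v, fun g => ?_⟩
  have key : ∀ (l : J) (i : Fin n), act R.gmod g v (σ (i, Fintype.equivFin J l)) = act r.gmod g (e.symm ⟨f l, hf l⟩) i := by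
    intro l i
    rw [act_rep, hR, hmap, act_rep]
    simp only [Matrix.mulVec, dotProduct, Matrix.reindex_apply, Matrix.submatrix_apply, Equiv.symm_apply_apply]
    rw [← σ.sum_comp, Fintype.sum_prod_type_right, Finset.sum_eq_single (Fintype.equivFin J l)]
    · refine Finset.sum_congr rfl fun j _ => ?_
      rw [Equiv.symm_apply_apply, Matrix.blockDiagonal_apply_eq]
      simp only [v, Equiv.symm_apply_apply]
    · intro m _ hm
      refine Finset.sum_eq_zero fun j _ => ?_
      rw [Equiv.symm_apply_apply, Matrix.blockDiagonal_apply_ne _ _ _ (Ne.symm hm), zero_mul]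
    · simp
  constructor
  · intro h l
    have h2 : act r.gmod g (e.symm ⟨f l, hf l⟩) = e.symm ⟨f l, hf l⟩ := funext fun i => by
      rw [← key, h]
      simp only [v, Equiv.symm_apply_apply]
    have := he g (e.symm ⟨f l, hf l⟩)
    rw [h2, LinearEquiv.apply_symm_apply] at this
    exact this.symm
  · intro h
    funext p
    obtain ⟨⟨i, m⟩, rfl⟩ := σ.surjective p
    obtain ⟨l, rfl⟩ := (Fintype.equivFin J).surjective m
    rw [key]
    simp only [v, Equiv.symm_apply_apply]
    refine congrFun (e.injective (Subtype.ext ?_)) i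
    rw [he, LinearEquiv.apply_symm_apply]
    exact h l

end Groth.Agent.H1.Obs
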