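import Groth.Agent.H1.Obs.Eigen
import Groth.Agent.H1.Obs.Regular
import Groth.Agent.H1.Obs.Rep
import Groth.Agent.H1.Classical.RadU

/-!
# Functions with additive increments along a normal unipotent subgroup
-/

universe u

open CategoryTheory Limits MonoidalCategory CartesianMonoidalCategory MonObj GrpObj AlgebraicGeometry
open scoped TensorProduct

namespace Groth.Agent.H1.Obs

set_option linter.style.haveILetI false
set_option linter.unusedSectionVars false
set_option maxHeartbeats 1000000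

open Groth.Agent.Lib.RedPts Groth.Agent.Lib.RedPts.Points Classical.Scheme' Groth.Agent.H1.RInv

attribute [local instance] baseAlgebra

variable {k : Type u} [Field k] [IsAlgClosed k] {G H : Over (Spec (CommRingCat.of k))} [GrpObj G] [GrpObj H]
  [IsAffine G.left] [IsAffine H.left] [Smooth H.hom] [ConnectedSpace H.left] (i : H ⟶ G) [IsMonHom i]

/-- A unipotent group fixes a vector of every nonzero quotient of stable subspaces. -/
theorem exists_fixed_quotient (hU : Classical.Unipotent.NoTorsion H) {M : Type u} [AddCommGroup M] [Module k M]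
    (ρ : VecGrp.GMod G M) (W A : Submodule k M) [FiniteDimensional k W] (hAW : A ≤ W) (hne : A ≠ W)
    (hW : ∀ h : P H, ∀ w ∈ W, act ρ (h ≫ i) w ∈ W) (hA : ∀ h : P H, ∀ w ∈ A, act ρ (h ≫ i) w ∈ A) :
    ∃ v ∈ W, v ∉ A ∧ ∀ h : P H, act ρ (h ≫ i) v - v ∈ A := by
  classical
  let Good : ℕ → Prop := fun n => ∃ V : Submodule k M, A < V ∧ V ≤ W ∧
    (∀ h : P H, ∀ w ∈ V, act ρ (h ≫ i) w ∈ V) ∧ Module.finrank k V = n
  have hex : ∃ n, Good n := ⟨_, W, lt_of_le_of_ne hAW hne, le_rfl, hW, rfl⟩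
  obtain ⟨V, hAV, hVW, hVst, hVn⟩ := Nat.find_spec hex
  haveI : FiniteDimensional k V := Submodule.finiteDimensional_of_le hVW
  let τ : P H →* (V →ₗ[k] V) :=
    { toFun := fun h => (act ρ (h ≫ i)).restrict fun w hw => hVst h w hw
      map_one' := LinearMap.ext fun v => Subtype.ext (by
        show act ρ ((1 : P H) ≫ i) v = v
        rw [MonObj.one_comp, act_one])
      map_mul' := fun x y => LinearMap.ext fun v => Subtype.ext (by
        show act ρ ((x * y) ≫ i) v = act ρ (x ≫ i) (act ρ (y ≫ i) v)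
        rw [MonObj.mul_comp, act_mul]) }
  let A' : Submodule k V := A.comap V.subtype
  let σ : Representation k (P H) (V ⧸ A') :=
    { toFun := fun h => A'.mapQ A' (τ h) fun w hw => hA h w hw
      map_one' := Submodule.linearMap_qext _ (LinearMap.ext fun v => by simp)
      map_mul' := fun x y => Submodule.linearMap_qext _ (LinearMap.ext fun v => by simp <;> rfl) }
  obtain ⟨v₀, hv₀V, hv₀A⟩ := SetLike.exists_of_lt hAV
  haveI : Nontrivial (V ⧸ A') := Submodule.Quotient.nontrivial_iff.mpr fun htop => hv₀A (by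
    have : (⟨v₀, hv₀V⟩ : V) ∈ A' := htop ▸ Submodule.mem_top
    exact this)
  let evs : Γ(H.left, ⊤) →ₐ[k] (P H → k) := AlgHom.pi fun x => evA x
  haveI : IsReduced H.left := Groth.Agent.Lib.GrpSch.isReduced_of_smooth_field H.hom
  have hinj : Function.Injective evs := fun f g h => ext_points fun x => congrFun h x
  haveI : NoZeroDivisors evs.range := by
    haveI := isDomain_functions H
    exact (AlgEquiv.ofInjective evs hinj).symm.toMulEquiv.noZeroDivisors
  have hext : ∀ l : Module.Dual k (V ⧸ A'), ∃ l' : Module.Dual k M, ∀ v : V, l' (v : M) = l (Submodule.Quotient.mk v) :=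
    fun l => by
      obtain ⟨l', hl'⟩ := LinearMap.exists_extend (l ∘ₗ A'.mkQ)
      exact ⟨l', fun v => LinearMap.congr_fun hl' v⟩
  have hco : ∀ (v : V) (l' : Module.Dual k M) (h : P H),
      ev h (i.left.appTop (coef ρ l' v)) = l' (τ h v : M) := fun v l' h => by
    rw [← ev_comp, ev_coef]
    rfl
  have hρ : Classical.Kolchin.EndFn evs.range (fun g => σ g) := fun q l => by
    obtain ⟨v, rfl⟩ := Submodule.Quotient.mk_surjective A' q
    obtain ⟨l', hl'⟩ := hext l
    exact ⟨i.left.appTop (coef ρ l' v), funext fun h => (hco v l' h).trans (hl' _)⟩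
  have hρ' : Classical.Kolchin.EndFn evs.range (fun g => σ g⁻¹) := fun q l => by
    obtain ⟨v, rfl⟩ := Submodule.Quotient.mk_surjective A' q
    obtain ⟨l', hl'⟩ := hext l
    refine ⟨ι[H].left.appTop (i.left.appTop (coef ρ l' v)), funext fun h => ?_⟩
    show ev h (ι[H].left.appTop _) = _
    rw [← ev_comp, ← Hom.inv_def]
    exact (hco v l' h⁻¹).trans (hl' _)
  haveI : Group.IsSolvable (P H) := by
    obtain ⟨n, hn⟩ := Classical.Unipotent.isSolvableGrp_of_noTorsion hU
    exact (Group.isSolvable_def _).mpr ⟨n, hn _⟩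
  have hirr : ∀ U : Submodule k (V ⧸ A'), (∀ g, ∀ w ∈ U, σ g w ∈ U) → U = ⊥ ∨ U = ⊤ := by
    intro U hU'
    by_cases h0 : U = ⊥
    · exact Or.inl h0
    refine Or.inr ?_
    obtain ⟨q, hq, hq0⟩ := (Submodule.ne_bot_iff U).mp h0
    obtain ⟨v, rfl⟩ := Submodule.Quotient.mk_surjective A' q
    let V₁ : Submodule k M := (U.comap A'.mkQ).map V.subtype
    have hAV₁ : A < V₁ := by
      refine lt_of_le_of_ne (fun a ha => ⟨⟨a, hAV.le ha⟩, ?_, rfl⟩) fun h => hq0 ?_
      · show A'.mkQ ⟨a, hAV.le ha⟩ ∈ U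
        rw [Submodule.mkQ_apply, (Submodule.Quotient.mk_eq_zero A').mpr (show (⟨a, hAV.le ha⟩ : V) ∈ A' from ha)]
        exact U.zero_mem
      · have : (v : M) ∈ A := h ▸ ⟨v, hq, rfl⟩
        exact (Submodule.Quotient.mk_eq_zero A').mpr this
    have hgood : Good (Module.finrank k V₁) := ⟨V₁, hAV₁, (Submodule.map_subtype_le V _).trans hVW, fun h w hw => by
      obtain ⟨u, hu, rfl⟩ := hw
      exact ⟨τ h u, hU' h _ hu, rfl⟩, rfl⟩
    have hmin := Nat.find_min' hex hgood
    have heq : V₁ = V := Submodule.eq_of_le_of_finrank_le (Submodule.map_subtype_le V _) (hVn ▸ hmin)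
    refine eq_top_iff.mpr fun q _ => ?_
    obtain ⟨z, rfl⟩ := Submodule.Quotient.mk_surjective A' q
    have hz : (z : M) ∈ V₁ := heq.ge z.2
    obtain ⟨z', hz', hzz⟩ := hz
    rwa [← Subtype.ext hzz]
  have h1 := Classical.Kolchin.finrank_eq_one (R := evs.range) σ hρ hρ' hirr
  obtain ⟨v, hq⟩ : ∃ v : V, (Submodule.Quotient.mk v : V ⧸ A') ≠ 0 := by
    obtain ⟨q, hq⟩ := exists_ne (0 : V ⧸ A')
    obtain ⟨v, hv⟩ := Submodule.Quotient.mk_surjective A' q
    exact ⟨v, hv ▸ hq⟩
  let q : V ⧸ A' := Submodule.Quotient.mk v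
  obtain ⟨l, hl⟩ : ∃ l : Module.Dual k (V ⧸ A'), l q = 1 := by
    obtain ⟨l, hl⟩ : ∃ l : Module.Dual k (V ⧸ A'), l q ≠ 0 := by
      by_contra h
      push Not at h
      exact hq ((Module.forall_dual_apply_eq_zero_iff k q).mp h)
    exact ⟨(l q)⁻¹ • l, by rw [LinearMap.smul_apply, smul_eq_mul, inv_mul_cancel₀ hl]⟩
  obtain ⟨l', hl'⟩ := hext l
  have hcs : ∀ h : P H, σ h q = l (σ h q) • q := fun h => by
    obtain ⟨c, hc⟩ := exists_smul_eq_of_finrank_eq_one h1 hq (σ h q)
    rw [← hc, map_smul, hl, smul_eq_mul, _root_.mul_one]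
  set f := i.left.appTop (coef ρ l' (v : M))
  have hf : ∀ h : P H, ev h f = l (σ h (Submodule.Quotient.mk v)) := fun h => (hco v l' h).trans (hl' _)
  obtain ⟨χ, hχ, hχf⟩ := exists_char f (by rw [hf, map_one, Module.End.one_apply, hl]) fun x y => by
    rw [hf, hf, hf, map_mul, Module.End.mul_apply]
    conv_lhs => rw [hcs y, map_smul, map_smul, smul_eq_mul, mul_comm]
  refine ⟨v, hVW v.2, fun h => hq ((Submodule.Quotient.mk_eq_zero A').mpr h), fun h => ?_⟩
  have h2 : σ h (Submodule.Quotient.mk v) = Submodule.Quotient.mk v := by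
    rw [hcs h, ← hf, ← hχf, Classical.CharRad.char_eq_one_of_noTorsion hU χ, Lib.RedPts.Gm.gmFn_one, map_one, one_smul]
  exact (Submodule.Quotient.eq A').mp h2

end Groth.Agent.H1.Obs

namespace Groth.Agent.H1.Obs

open Groth.Agent.Lib.RedPts Groth.Agent.Lib.RedPts.Points Classical.Scheme' Groth.Agent.H1.RInv

attribute [local instance] baseAlgebra

variable {k : Type u} [Field k] [IsAlgClosed k] {H U : Over (Spec (CommRingCat.of k))} [GrpObj H] [GrpObj U]
  [IsAffine H.left] [Smooth H.hom] [IsAffine U.left] [Smooth U.hom] [ConnectedSpace U.left]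

/-- A function on a group with nonconstant additive increments along a normal unipotent subgroup. -/
theorem exists_increment (u : U ⟶ H) [IsMonHom u] (hn : Classical.RadU.IsNormalPts u)
    (hU : Classical.Unipotent.NoTorsion U) {t₁ : P U} (ht₁ : t₁ ≫ u ≠ 1) :
    ∃ (f : Γ(H.left, ⊤)) (c : Γ(U.left, ⊤)), (∀ (x : P H) (t : P U), ev (x * (t ≫ u)) f = ev x f + ev t c) ∧
      {a : k | ∃ t : P U, ev t c = a}.Infinite := by
  classical
  haveI : IsReduced H.left := Groth.Agent.Lib.GrpSch.isReduced_of_smooth_field H.hom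
  haveI : IsReduced U.left := Groth.Agent.Lib.GrpSch.isReduced_of_smooth_field U.hom
  obtain ⟨g₀, hg₀⟩ : ∃ g, ev (t₁ ≫ u) g ≠ ev (1 : P H) g := by
    by_contra h
    push Not at h
    exact ht₁ (point_ext h)
  obtain ⟨W, hWf, hgW, hWst⟩ := exists_stable {g₀}
  haveI := hWf
  let ρ := regular H
  have hact : ∀ (x : P H) (w : Γ(H.left, ⊤)), act ρ x w = rtr x w := act_regular
  let A : Submodule k Γ(H.left, ⊤) := W ⊓ ⨅ t : P U, LinearMap.eqLocus (rtr (t ≫ u)).toLinearMap LinearMap.id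
  have hA : ∀ w, w ∈ A ↔ w ∈ W ∧ ∀ t : P U, rtr (t ≫ u) w = w := fun w => by simp [A]
  have hAst : ∀ (x : P H), ∀ w ∈ A, rtr x w ∈ A := fun x w hw => by
    refine (hA _).mpr ⟨hWst x w ((hA w).mp hw).1, fun t => ?_⟩
    obtain ⟨t', ht'⟩ := hn x⁻¹ t
    rw [rtr_rtr, show (t ≫ u) * x = x * (t' ≫ u) by rw [← ht']; group, ← rtr_rtr, ((hA w).mp hw).2]
  have hne : A ≠ W := fun h => hg₀ (by
    have h1 := ((hA g₀).mp (h.symm ▸ hgW (Finset.mem_singleton_self g₀))).2 t₁
    conv_rhs => rw [← h1, ev_rtr, _root_.one_mul])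
  obtain ⟨d, hdW, hdA, hd⟩ := exists_fixed_quotient u hU ρ W A inf_le_left hne
    (fun t w hw => by rw [hact]; exact hWst _ w hw) (fun t w hw => by rw [hact]; exact hAst _ w hw)
  simp only [hact] at hd
  obtain ⟨t₀, ht₀⟩ : ∃ t₀ : P U, rtr (t₀ ≫ u) d ≠ d := by
    by_contra h
    push Not at h
    exact hdA ((hA d).mpr ⟨hdW, h⟩)
  obtain ⟨lam, hlam⟩ : ∃ l : Module.Dual k Γ(H.left, ⊤), l (rtr (t₀ ≫ u) d - d) ≠ 0 := by
    by_contra h
    push Not at h
    exact ht₀ (sub_eq_zero.mp ((Module.forall_dual_apply_eq_zero_iff k _).mp h))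
  haveI : FiniteDimensional k A := Submodule.finiteDimensional_of_le inf_le_left
  obtain ⟨pr, hpr⟩ := A.subtype.exists_leftInverse_of_injective A.ker_subtype
  let b := Module.finBasis k A
  let f : Γ(H.left, ⊤) := ∑ j, coef ρ ((b.coord j).comp pr) d * ι[H].left.appTop (coef ρ lam (b j : Γ(H.left, ⊤)))
  have hf : ∀ x : P H, ev x f = lam (rtr x⁻¹ (pr (rtr x d) : Γ(H.left, ⊤))) := fun x => by
    have h1 := congrArg Subtype.val (b.sum_repr (pr (rtr x d)))
    rw [Submodule.coe_sum] at h1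
    conv_rhs => rw [← h1, map_sum, map_sum]
    simp only [f, map_sum]
    refine Finset.sum_congr rfl fun j _ => ?_
    rw [map_mul, ev_coef, ← ev_comp, ← Hom.inv_def, ev_coef, hact, hact, Submodule.coe_smul, map_smul, map_smul,
      smul_eq_mul]
    rfl
  have key : ∀ (x : P H) (t : P U), ev (x * (t ≫ u)) f = ev x f + lam (rtr (t ≫ u) d - d) := fun x t => by
    set α := rtr (t ≫ u) d - d with hα
    have hαA : α ∈ A := hd t
    have hpra : ∀ a ∈ A, (pr a : Γ(H.left, ⊤)) = a := fun a ha => congrArg Subtype.val (LinearMap.congr_fun hpr ⟨a, ha⟩)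
    have h1 : (pr (rtr (x * (t ≫ u)) d) : Γ(H.left, ⊤)) = (pr (rtr x d) : Γ(H.left, ⊤)) + rtr x α := by
      rw [← rtr_rtr, show rtr (t ≫ u) d = d + α by rw [hα]; abel, map_add, map_add, Submodule.coe_add,
        hpra _ (hAst x α hαA)]
    have h2 : ∀ a ∈ A, rtr (x * (t ≫ u))⁻¹ a = rtr x⁻¹ a := fun a ha => by
      rw [_root_.mul_inv_rev, ← rtr_rtr, ← GrpObj.inv_comp, ((hA _).mp (hAst x⁻¹ a ha)).2]
    rw [hf, hf, h1, h2 _ (Submodule.add_mem _ (pr _).2 (hAst x α hαA)), map_add, map_add, rtr_rtr, inv_mul_cancel, rtr_one]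
  refine ⟨f, u.left.appTop f - algebraMap k _ (ev (1 : P H) f), fun x t => ?_, fun hfin => ?_⟩
  · have h1 := key 1 t
    rw [_root_.one_mul] at h1
    rw [key, map_sub (ev t), ev_const, ← ev_comp, h1]
    ring
  · set c := u.left.appTop f - algebraMap k _ (ev (1 : P H) f) with hc
    haveI := isDomain_functions U
    have hcv : ∀ t : P U, ev t c = lam (rtr (t ≫ u) d - d) := fun t => by
      have h1 := key 1 t
      rw [_root_.one_mul] at h1
      rw [hc, map_sub (ev t), ev_const, ← ev_comp, h1]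
      ring
    have h0 : ∏ a ∈ hfin.toFinset, (c - algebraMap k _ a) = 0 := ext_points fun t => by
      rw [map_prod, map_zero]
      exact Finset.prod_eq_zero (hfin.mem_toFinset.mpr ⟨t, rfl⟩) (by rw [map_sub, ev_const, sub_self])
    obtain ⟨a, -, ha⟩ := Finset.prod_eq_zero_iff.mp h0
    have h1 : ∀ t, ev t c = a := fun t => by rw [sub_eq_zero.mp ha, ev_const]
    refine hlam ?_
    rw [← hcv, h1, ← h1 1, hcv, MonObj.one_comp, rtr_one, sub_self, map_zero]

end Groth.Agent.H1.Obs
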