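import Groth.Agent.H1.Obs.Semi
import Mathlib.LinearAlgebra.Matrix.NonsingularInverse
import Mathlib.LinearAlgebra.Matrix.Determinant.Basic

/-!
# A subgroup as the stabiliser of a line of functions
-/

universe u

open CategoryTheory Limits MonoidalCategory CartesianMonoidalCategory MonObj GrpObj AlgebraicGeometry
open scoped TensorProduct

namespace Groth.Agent.H1.Obs

set_option linter.style.haveILetI false
set_option linter.unusedSectionVars false
set_option maxHeartbeats 800000

open Groth.Agent.Lib.RedPts Groth.Agent.Lib.RedPts.Points Classical.Scheme' Groth.Agent.H1.RInv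

attribute [local instance] baseAlgebra

variable {k : Type u} [Field k] [IsAlgClosed k] {G H : Over (Spec (CommRingCat.of k))} [GrpObj G] [GrpObj H]
  [IsAffine G.left] [Smooth G.hom]

/-- The minor of a tuple of functions at a tuple of points, as a function of a translation. -/
noncomputable def minor {d : ℕ} (v : Fin d → Γ(G.left, ⊤)) (L : Fin d → P G) : Γ(G.left, ⊤) :=
  (Matrix.of fun l j => ltr (L l) (v j)).det

theorem ev_minor {d : ℕ} (v : Fin d → Γ(G.left, ⊤)) (L : Fin d → P G) (x : P G) :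
    ev x (minor v L) = (Matrix.of fun l j => ev (L l * x) (v j)).det := by
  rw [minor, RingHom.map_det]
  refine congrArg Matrix.det (Matrix.ext fun l j => ?_)
  simp [RingHom.mapMatrix_apply]

theorem ev_minor_mul {d : ℕ} (v : Fin d → Γ(G.left, ⊤)) (L : Fin d → P G) (x g : P G) :
    ev (x * g) (minor v L) = ev x (minor (fun j => rtr g (v j)) L) := by
  rw [ev_minor, ev_minor]
  simp [_root_.mul_assoc]

theorem minor_comb {d : ℕ} (v : Fin d → Γ(G.left, ⊤)) (T : Matrix (Fin d) (Fin d) k) (L : Fin d → P G) (x : P G) :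
    ev x (minor (fun j => ∑ m, T j m • v m) L) = T.det * ev x (minor v L) := by
  rw [ev_minor, ev_minor, mul_comm, ← Matrix.det_transpose T, ← Matrix.det_mul]
  refine congrArg Matrix.det (Matrix.ext fun l j => ?_)
  simp only [Matrix.of_apply, Matrix.mul_apply, Matrix.transpose_apply, map_sum, Algebra.smul_def, map_mul, ev_const]
  exact Finset.sum_congr rfl fun m _ => mul_comm _ _

/-- Independent functions have a nonzero minor. -/
theorem exists_minor_ne {d : ℕ} (v : Fin d → Γ(G.left, ⊤)) (hv : LinearIndependent k v) :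
    ∃ L : Fin d → P G, ev 1 (minor v L) ≠ 0 := by
  classical
  let E : P G → Fin d → k := fun x j => ev x (v j)
  have hspan : Submodule.span k (Set.range E) = ⊤ := by
    by_contra h
    obtain ⟨φ, hφ0, hφ⟩ := Submodule.exists_dual_map_eq_bot_of_lt_top (lt_top_iff_ne_top.mpr h) inferInstance
    apply hφ0
    have h2 : ∀ x, φ (E x) = 0 := fun x =>
      LinearMap.mem_ker.mp ((Submodule.span_le.mp (LinearMap.le_ker_iff_map.mpr hφ)) ⟨x, rfl⟩)
    have h3 : (∑ j, φ (Pi.single j 1) • v j) = 0 := ext_fun fun x => by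
      rw [map_sum, map_zero, ← h2 x]
      conv_rhs => rw [← Finset.univ_sum_single (E x), map_sum]
      refine Finset.sum_congr rfl fun j _ => ?_
      rw [Algebra.smul_def, map_mul, ev_const,
        show Pi.single j (E x j) = E x j • (Pi.single j 1 : Fin d → k) by simp [← Pi.single_smul],
        LinearMap.map_smul, smul_eq_mul, mul_comm]
    have h4 := Fintype.linearIndependent_iff.mp hv _ h3
    exact (Pi.basisFun k (Fin d)).ext fun j => by simp [h4]
  obtain ⟨t, hts, htspan, hti⟩ := exists_linearIndependent k (Set.range E)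
  haveI := hti.finite
  haveI := Fintype.ofFinite t
  have hcard : Fintype.card t = d := by
    have h := finrank_span_eq_card hti
    rw [Subtype.range_coe_subtype, Set.ofPred_mem_eq, htspan, hspan, finrank_top, Module.finrank_fin_fun] at h
    exact h.symm
  let e : Fin d ≃ t := (Fintype.equivFinOfCardEq hcard).symm
  choose L hL using fun l : Fin d => hts (e l).2
  refine ⟨L, ?_⟩
  rw [ev_minor, ← isUnit_iff_ne_zero, ← Matrix.isUnit_iff_isUnit_det, ← Matrix.linearIndependent_rows_iff_isUnit]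
  have : (Matrix.of fun l j => ev (L l * 1) (v j)).row = fun l => ((e l : t) : Fin d → k) := funext fun l => by
    funext j
    show ev (L l * 1) (v j) = _
    rw [_root_.mul_one, ← hL l]
  rw [this]
  exact hti.comp e e.injective

/-- Proportional minors have equal spans. -/
theorem mem_span_of_minor {d : ℕ} (v v' : Fin d → Γ(G.left, ⊤)) (L₀ : Fin d → P G) (h₀ : ev 1 (minor v L₀) ≠ 0)
    (c : k) (hc : c ≠ 0) (h : ∀ L, ev 1 (minor v' L) = c * ev 1 (minor v L)) (j : Fin d) :
    v' j ∈ Submodule.span k (Set.range v) := by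
  classical
  let N : (Fin d → Γ(G.left, ⊤)) → Matrix (Fin d) (Fin d) k := fun w => Matrix.of fun l j => ev (L₀ l) (w j)
  have hN : ∀ w, ev 1 (minor w L₀) = (N w).det := fun w => by simp [ev_minor, N]
  have cramer : ∀ (w : Fin d → Γ(G.left, ⊤)) (x : P G) (m : Fin d), (N w).det ≠ 0 →
      (Matrix.vecMul (fun j => ev x (w j)) (N w)⁻¹) m * (N w).det = ev 1 (minor w (Function.update L₀ m x)) := by
    intro w x m hdet
    set a := Matrix.vecMul (fun j => ev x (w j)) (N w)⁻¹ with ha
    have hrow : (fun j => ev x (w j)) = ∑ i, a i • (N w) i := by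
      rw [← Matrix.vecMul_eq_sum, ha, Matrix.vecMul_vecMul, Matrix.nonsing_inv_mul _ (isUnit_iff_ne_zero.mpr hdet),
        Matrix.vecMul_one]
    rw [← smul_eq_mul, ← Matrix.det_updateRow_sum (N w) m a, ← hrow, ev_minor]
    refine congrArg Matrix.det (Matrix.ext fun l j => ?_)
    rw [Matrix.updateRow_apply, Matrix.of_apply, _root_.mul_one, Function.update_apply]
    split_ifs <;> rfl
  have hd : (N v).det ≠ 0 := hN v ▸ h₀
  have hd' : (N v').det ≠ 0 := by rw [← hN, h]; exact mul_ne_zero hc h₀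
  have key : ∀ x : P G, Matrix.vecMul (fun j => ev x (v' j)) (N v')⁻¹ = Matrix.vecMul (fun j => ev x (v j)) (N v)⁻¹ :=
    fun x => funext fun m => by
      refine mul_right_cancel₀ hd' ?_
      rw [cramer v' x m hd', h, ← cramer v x m hd, ← hN v', h, hN]
      ring
  let a : Fin d → Γ(G.left, ⊤) := fun m => ∑ j, (N v)⁻¹ j m • v j
  have hj : v' j = ∑ m, N v' m j • a m := ext_fun fun x => by
    have h2 : (fun j => ev x (v' j)) = Matrix.vecMul (Matrix.vecMul (fun j => ev x (v j)) (N v)⁻¹) (N v') := by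
      rw [← key, Matrix.vecMul_vecMul, Matrix.nonsing_inv_mul _ (isUnit_iff_ne_zero.mpr hd'), Matrix.vecMul_one]
    refine (congrFun h2 j).trans ?_
    simp only [Matrix.vecMul, dotProduct, a, map_sum, Algebra.smul_def, map_mul, ev_const]
    exact Finset.sum_congr rfl fun m _ => by
      rw [mul_comm]
      exact congrArg _ (Finset.sum_congr rfl fun i _ => mul_comm _ _)
  rw [hj]
  exact Submodule.sum_mem _ fun m _ => Submodule.smul_mem _ _
    (Submodule.sum_mem _ fun i _ => Submodule.smul_mem _ _ (Submodule.subset_span ⟨i, rfl⟩))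

variable [IsAffine H.left] [Smooth H.hom] (i : H ⟶ G)

/-- A multiplicative invertible function is a character. -/
theorem exists_char (c : Γ(H.left, ⊤)) (h1 : ev (1 : P H) c = 1)
    (hmul : ∀ x y : P H, ev (x * y) c = ev x c * ev y c) :
    ∃ χ : H ⟶ Red.Gm (Spec (CommRingCat.of k)), IsMonHom χ ∧ Red.gmFn χ = c := by
  obtain ⟨χ, hχ⟩ := Lib.RedPts.Gm.exists_gmFn_eq (X := H) (a := c) (IsUnit.of_mul_eq_one
    ((𝟙 H : H ⟶ H)⁻¹.left.appTop c) (ext_fun fun x => by
      rw [map_mul, map_one, ← ev_comp, GrpObj.comp_inv, Category.comp_id, ← hmul, mul_inv_cancel, h1]))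
  haveI : IsAffine (H ⊗ H).left := inferInstanceAs (IsAffine (pullback H.hom H.hom))
  haveI : Smooth (H ⊗ H).hom := inferInstanceAs (Smooth (pullback.fst H.hom H.hom ≫ H.hom))
  haveI : IsReduced (H ⊗ H).left := Groth.Agent.Lib.GrpSch.isReduced_of_smooth_field (H ⊗ H).hom
  have h : (fst H H * snd H H) ≫ χ = (fst H H ≫ χ) * (snd H H ≫ χ) := by
    refine Lib.RedPts.Gm.gmFn_injective (ext_points fun p => ?_)
    rw [Lib.RedPts.Gm.gmFn_comp, Lib.RedPts.Gm.gmFn_mul, Lib.RedPts.Gm.gmFn_comp, Lib.RedPts.Gm.gmFn_comp, hχ,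
      map_mul, ← ev_comp, ← ev_comp, ← ev_comp, MonObj.comp_mul, hmul]
  refine ⟨χ, Lib.GrpQ.RepMat.one_hom_of_mul χ fun T a b => ?_, hχ⟩
  have := congrArg (lift a b ≫ ·) h
  simpa only [← Category.assoc, MonObj.comp_mul, lift_fst, lift_snd] using this

theorem mem_of_vanish [IsClosedImmersion i.left] {g : P G}
    (hg : ∀ f : Γ(G.left, ⊤), (∀ h : P H, ev (h ≫ i) f = 0) → ev g f = 0) : ∃ h : P H, h ≫ i = g := by
  obtain ⟨-, hsurj⟩ := IsClosedImmersion.isAffine_surjective_of_isAffine i.left
  let π : Γ(G.left, ⊤) →ₐ[k] Γ(H.left, ⊤) :=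
    { i.left.appTop.hom with
      commutes' := fun c => by
        have h := congrArg (fun f => f.hom ((Scheme.ΓSpecIso (CommRingCat.of k)).inv c))
          (congrArg Scheme.Hom.appTop (Over.w i))
        simp only [Scheme.Hom.comp_appTop, CommRingCat.hom_comp, RingHom.comp_apply] at h
        exact h }
  have hker : RingHom.ker π ≤ RingHom.ker (evA g) := fun f hf => hg f fun h => by
    rw [ev_comp]
    exact (congrArg (ev h) (RingHom.mem_ker.mp hf)).trans (map_zero _)
  let e := Ideal.quotientKerAlgEquivOfSurjective (f := π) hsurj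
  obtain ⟨h, hh⟩ := exists_point (Y := H) ((Ideal.Quotient.liftₐ (RingHom.ker π) (evA g) hker).comp e.symm.toAlgHom)
  refine ⟨h, point_ext fun f => ?_⟩
  rw [ev_comp, hh]
  show Ideal.Quotient.liftₐ _ (evA g) hker (e.symm (π f)) = _
  rw [show e.symm (π f) = Ideal.Quotient.mk _ f from (AlgEquiv.symm_apply_eq _).mpr rfl]
  rfl

/-- A subgroup is the stabiliser of the line spanned by a tuple of minors. -/
theorem exists_line [IsMonHom i] [IsClosedImmersion i.left] :
    ∃ (d : ℕ) (v : Fin d → Γ(G.left, ⊤)) (L₀ : Fin d → P G) (χ : H ⟶ Red.Gm (Spec (CommRingCat.of k))),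
      IsMonHom χ ∧ ev 1 (minor v L₀) ≠ 0 ∧
      (∀ (L : Fin d → P G) (x : P G) (h : P H), ev (x * (h ≫ i)) (minor v L) = ev h (Red.gmFn χ) * ev x (minor v L)) ∧
      ∀ (g : P G) (c : k), c ≠ 0 → (∀ L, ev g (minor v L) = c * ev 1 (minor v L)) → ∃ h : P H, h ≫ i = g := by
  classical
  haveI := RInv.isNoetherianRing_Γ (G := G)
  let I : Ideal Γ(G.left, ⊤) :=
    { carrier := {f | ∀ h : P H, ev (h ≫ i) f = 0}
      add_mem' := fun ha hb h => by rw [map_add, ha h, hb h, add_zero]
      zero_mem' := fun h => map_zero _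
      smul_mem' := fun r f hf h => by rw [smul_eq_mul, map_mul, hf h, mul_zero] }
  obtain ⟨s, hsI⟩ := (isNoetherianRing_iff_ideal_fg _).mp ‹_› I
  obtain ⟨W, hWf, hsW, hW⟩ := exists_stable s
  let U : Submodule k Γ(G.left, ⊤) := W ⊓ I.restrictScalars k
  haveI : FiniteDimensional k U := Submodule.finiteDimensional_of_le (inf_le_left : U ≤ W)
  have hU : ∀ (h : P H), ∀ u ∈ U, rtr (h ≫ i) u ∈ U := fun h u hu => ⟨hW _ u hu.1, fun h' => by
    rw [ev_rtr, ← MonObj.mul_comp]
    exact hu.2 _⟩
  let b := Module.finBasis k U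
  let v : Fin (Module.finrank k U) → Γ(G.left, ⊤) := fun j => b j
  have hv : LinearIndependent k v := b.linearIndependent.map' U.subtype U.ker_subtype
  obtain ⟨L₀, hL₀⟩ := exists_minor_ne v hv
  obtain ⟨c, hc⟩ := exists_coord U b
  let M : Matrix (Fin (Module.finrank k U)) (Fin (Module.finrank k U)) Γ(H.left, ⊤) :=
    fun j m => (c m).sum fun x a => algebraMap k _ a * i.left.appTop (ltr x (v j))
  have hM : ∀ (h : P H) j, rtr (h ≫ i) (v j) = ∑ m, ev h (M j m) • v m := fun h j => by
    have h1 := congrArg Subtype.val (b.sum_repr ⟨rtr (h ≫ i) (v j), hU h _ (b j).2⟩)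
    simp only [AddSubmonoidClass.coe_finsetSum, Submodule.coe_smul_of_tower] at h1
    rw [← h1]
    refine Finset.sum_congr rfl fun m _ => ?_
    rw [hc]
    congr 1
    simp only [M, Finsupp.sum, map_sum, map_mul, ev_const, ev_rtr, ← ev_comp, ev_ltr]
  have hw : ∀ (L : Fin _ → P G) (x : P G) (h : P H),
      ev (x * (h ≫ i)) (minor v L) = ev h M.det * ev x (minor v L) := fun L x h => by
    rw [ev_minor_mul, funext (hM h), RingHom.map_det]
    exact minor_comb v ((ev h).mapMatrix M) L x
  obtain ⟨χ, hχm, hχ⟩ := exists_char M.det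
    (mul_right_cancel₀ hL₀ (by rw [← hw L₀ 1 1, MonObj.one_comp, _root_.mul_one, _root_.one_mul]))
    (fun x y => mul_right_cancel₀ hL₀ (by
      rw [← hw L₀ 1 (x * y), _root_.one_mul, MonObj.mul_comp, hw, ← _root_.one_mul (x ≫ i), hw]
      ring))
  refine ⟨_, v, L₀, χ, hχm, hL₀, fun L x h => hχ ▸ hw L x h, fun g a ha hga => mem_of_vanish i fun f hf => ?_⟩
  have hI : I ≤ RingHom.ker (ev g) := by
    rw [← hsI, Ideal.span_le]
    intro u hu
    have huU : u ∈ U := ⟨hsW hu, hsI ▸ Ideal.subset_span hu⟩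
    have hle : Submodule.span k (Set.range v) ≤ U := Submodule.span_le.mpr (by rintro _ ⟨j, rfl⟩; exact (b j).2)
    have hmem : ∀ j, rtr g (v j) ∈ Submodule.span k (Set.range v) := fun j =>
      mem_span_of_minor v (fun j => rtr g (v j)) L₀ hL₀ a ha
        (fun L => by rw [← ev_minor_mul, _root_.one_mul, hga]) j
    have h2 : rtr g u ∈ U := by
      rw [show u = ∑ m, b.repr ⟨u, huU⟩ m • v m from
        (congrArg Subtype.val (b.sum_repr ⟨u, huU⟩)).symm.trans (AddSubmonoidClass.coe_finsetSum _ _), map_sum]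
      exact Submodule.sum_mem _ fun m _ => by rw [map_smul]; exact Submodule.smul_mem _ _ (hle (hmem m))
    have h3 := h2.2 1
    rw [MonObj.one_comp, ev_rtr, _root_.one_mul] at h3
    exact h3
  exact hI hf

end Groth.Agent.H1.Obs
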