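import Groth.Agent.H1.Obs.Pts
import Groth.Agent.Lib.RedPts.Gm
import Mathlib.RingTheory.TensorProduct.Free

/-!
# Rational modules on points
-/

universe u

open CategoryTheory Limits MonoidalCategory CartesianMonoidalCategory MonObj GrpObj AlgebraicGeometry
open scoped TensorProduct

namespace Groth.Agent.H1.Obs

set_option linter.style.haveILetI false
set_option linter.unusedSectionVars false

open Groth.Agent.Lib.RedPts Groth.Agent.Lib.RedPts.Points Classical.Scheme' RInv

attribute [local instance] baseAlgebra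

variable {k : Type u} [Field k] {G H : Over (Spec (CommRingCat.of k))}

section Universal

/-- The algebra homomorphism of an affine point. -/
noncomputable def evB {B : Type u} [CommRing B] [Algebra k B] (g : VecGrp.pt k B ⟶ G) : Γ(G.left, ⊤) →ₐ[k] B :=
  { (g.left.appTop ≫ (Scheme.ΓSpecIso (CommRingCat.of B)).hom).hom with
    commutes' := fun c => by
      have h := congrArg (fun f => f.hom ((Scheme.ΓSpecIso (CommRingCat.of k)).inv c))
        (congrArg Scheme.Hom.appTop (Over.w g))
      have hn := congrArg (fun f => f.hom ((Scheme.ΓSpecIso (CommRingCat.of k)).inv c))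
        (Scheme.ΓSpecIso_naturality (CommRingCat.ofHom (algebraMap k B)))
      simp only [Scheme.Hom.comp_appTop, CommRingCat.hom_comp, RingHom.comp_apply] at h hn
      refine (congrArg (Scheme.ΓSpecIso (CommRingCat.of B)).hom h).trans (hn.trans ?_)
      exact congrArg (algebraMap k B) (Iso.inv_hom_id_apply (Scheme.ΓSpecIso (CommRingCat.of k)) c) }

theorem evB_apply {B : Type u} [CommRing B] [Algebra k B] (g : VecGrp.pt k B ⟶ G) (f : Γ(G.left, ⊤)) :
    evB g f = (Scheme.ΓSpecIso (CommRingCat.of B)).hom (g.left.appTop f) := rfl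

theorem evB_comp {B : Type u} [CommRing B] [Algebra k B] (g : VecGrp.pt k B ⟶ G) {Y : Over (Spec (CommRingCat.of k))}
    (φ : G ⟶ Y) (f : Γ(Y.left, ⊤)) : evB (g ≫ φ) f = evB g (φ.left.appTop f) := by
  simp only [evB_apply, Over.comp_left, Scheme.Hom.comp_appTop, CommRingCat.hom_comp, RingHom.comp_apply]

theorem evB_toPt (x : P G) (f : Γ(G.left, ⊤)) : evB (toPt x) f = ev x f := by
  rw [evB_apply, toPt, Over.comp_left, Scheme.Hom.comp_appTop]
  rfl

theorem evB_ofPt (g : VecGrp.pt k k ⟶ G) (f : Γ(G.left, ⊤)) : evB g f = ev (ofPt g) f := by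
  rw [← evB_toPt, toPt_ofPt]

variable (G) [IsAffine G.left]

/-- The universal affine point. -/
noncomputable def univPt : VecGrp.pt k Γ(G.left, ⊤) ⟶ G :=
  Over.homMk G.left.isoSpec.inv (by
    rw [Iso.inv_comp_eq]
    show G.hom = G.left.toSpecΓ ≫ Spec.map ((Scheme.ΓSpecIso (CommRingCat.of k)).inv ≫ G.hom.appTop)
    rw [Spec.map_comp, ← Scheme.toSpecΓ_naturality_assoc, toSpecΓ_SpecMap_ΓSpecIso_inv, Category.comp_id])

variable {G}

/-- Every affine point comes from the universal one. -/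
theorem eq_ptMap_univ {B : Type u} [CommRing B] [Algebra k B] (g : VecGrp.pt k B ⟶ G) :
    VecGrp.ptMap (evB g) ≫ univPt G = g := by
  refine Over.OverMorphism.ext (ext_of_isAffine (CommRingCat.hom_ext (RingHom.ext fun f => ?_)))
  apply (Scheme.ΓSpecIso (CommRingCat.of B)).commRingCatIsoToRingEquiv.injective
  show (Scheme.ΓSpecIso (CommRingCat.of B)).hom
    ((Spec.map (CommRingCat.ofHom (evB g).toRingHom) ≫ G.left.isoSpec.inv).appTop f) = evB g f
  rw [Scheme.Hom.comp_appTop, RInv.isoSpec_inv_appTop, CommRingCat.comp_apply, ← CommRingCat.comp_apply _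
    (Scheme.ΓSpecIso (CommRingCat.of B)).hom, Scheme.ΓSpecIso_naturality, CommRingCat.comp_apply]
  exact congrArg (evB g) (Iso.inv_hom_id_apply (Scheme.ΓSpecIso Γ(G.left, ⊤)) f)

/-- Tensors with equal values at all points are equal. -/
theorem eq_of_points [IsAlgClosed k] [LocallyOfFiniteType G.hom] [IsReduced G.left] {M : Type u} [AddCommGroup M]
    [Module k M] {z z' : Γ(G.left, ⊤) ⊗[k] M} (h : ∀ x : P G, VecGrp.Wmap (evA x) z = VecGrp.Wmap (evA x) z') :
    z = z' := by
  let b := Module.Free.chooseBasis k M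
  refine (Algebra.TensorProduct.basis Γ(G.left, ⊤) b).repr.injective (Finsupp.ext fun i => ext_points fun x => ?_)
  have key : ∀ y : Γ(G.left, ⊤) ⊗[k] M, ev x ((Algebra.TensorProduct.basis Γ(G.left, ⊤) b).repr y i) =
      (Algebra.TensorProduct.basis k b).repr (VecGrp.Wmap (evA x) y) i := fun y => by
    induction y using TensorProduct.induction_on with
    | zero => simp
    | tmul a m =>
      rw [VecGrp.Wmap_tmul, Algebra.TensorProduct.basis_repr_tmul, Algebra.TensorProduct.basis_repr_tmul]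
      simp [ev_const, evA_apply]
    | add p q hp hq => simp only [map_add, Finsupp.add_apply, hp, hq]
  rw [key, key, h]

end Universal

variable [GrpObj G] [GrpObj H] {M : Type u} [AddCommGroup M] [Module k M] (ρ : VecGrp.GMod G M)

/-- The action of a rational point. -/
noncomputable def act (x : P G) : M →ₗ[k] M :=
  (TensorProduct.lid k M).toLinearMap ∘ₗ (ρ.ρ k (toPt x)).toLinearMap ∘ₗ TensorProduct.mk k k M 1

theorem act_apply (x : P G) (v : M) : ρ.ρ k (toPt x) ((1 : k) ⊗ₜ v) = (1 : k) ⊗ₜ act ρ x v := by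
  apply (TensorProduct.lid k M).injective
  rw [TensorProduct.lid_tmul, one_smul]
  rfl

theorem act_one (v : M) : act ρ 1 v = v := by
  apply (TensorProduct.lid k M).symm.injective
  rw [TensorProduct.lid_symm_apply, TensorProduct.lid_symm_apply, ← act_apply, toPt_one, map_one]
  rfl

theorem act_mul (x y : P G) (v : M) : act ρ (x * y) v = act ρ x (act ρ y v) := by
  apply (TensorProduct.lid k M).symm.injective
  rw [TensorProduct.lid_symm_apply, TensorProduct.lid_symm_apply, ← act_apply, ← act_apply, toPt_mul, map_mul,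
    LinearEquiv.mul_apply, act_apply]

variable [IsAffine G.left]

/-- A matrix coefficient. -/
noncomputable def coef (l : M →ₗ[k] k) (v : M) : Γ(G.left, ⊤) :=
  TensorProduct.rid k Γ(G.left, ⊤) (LinearMap.lTensor _ l (ρ.ρ Γ(G.left, ⊤) (univPt G) ((1 : Γ(G.left, ⊤)) ⊗ₜ v)))

theorem Wmap_univ (x : P G) (v : M) :
    VecGrp.Wmap (evA x) (ρ.ρ Γ(G.left, ⊤) (univPt G) ((1 : Γ(G.left, ⊤)) ⊗ₜ v)) = (1 : k) ⊗ₜ act ρ x v := by
  rw [ρ.naturality, VecGrp.Wmap_tmul, map_one, ← act_apply]
  congr 2
  rw [show evA x = evB (toPt x) from AlgHom.ext fun f => (evB_toPt x f).symm, eq_ptMap_univ]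

theorem ev_coef (x : P G) (l : M →ₗ[k] k) (v : M) : ev x (coef ρ l v) = l (act ρ x v) := by
  have h : ∀ z : Γ(G.left, ⊤) ⊗[k] M, ev x (TensorProduct.rid k Γ(G.left, ⊤) (LinearMap.lTensor _ l z)) =
      l (TensorProduct.lid k M (VecGrp.Wmap (evA x) z)) := fun z => by
    induction z using TensorProduct.induction_on with
    | zero => simp
    | tmul a m =>
      simp only [LinearMap.lTensor_tmul, TensorProduct.rid_tmul, VecGrp.Wmap_tmul, TensorProduct.lid_tmul, map_smul,
        Algebra.smul_def, map_mul, ev_const, evA_apply]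
      exact mul_comm _ _
    | add p q hp hq => simp only [map_add, hp, hq]
  rw [coef, h, Wmap_univ, TensorProduct.lid_tmul, one_smul]

section Smooth

variable [IsAlgClosed k] [IsAffine H.left] [Smooth H.hom] (i : H ⟶ G)

theorem mem_fixedUnder_iff (a : M) :
    a ∈ ρ.fixedUnder i ↔ ∀ h : P H, act ρ (h ≫ i) a = a := by
  constructor
  · intro ha h
    apply (TensorProduct.lid k M).symm.injective
    rw [TensorProduct.lid_symm_apply, TensorProduct.lid_symm_apply, ← act_apply, toPt_comp]
    exact ha k (toPt h)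
  · intro ha B _ _ g
    haveI : IsReduced H.left := Groth.Agent.Lib.GrpSch.isReduced_of_smooth_field H.hom
    have key : ρ.ρ Γ(H.left, ⊤) (univPt H ≫ i) ((1 : Γ(H.left, ⊤)) ⊗ₜ a) = (1 : Γ(H.left, ⊤)) ⊗ₜ a := by
      refine eq_of_points fun x => ?_
      rw [ρ.naturality, VecGrp.Wmap_tmul, map_one, ← Category.assoc,
        show evA x = evB (toPt x) from AlgHom.ext fun f => (evB_toPt x f).symm, eq_ptMap_univ, ← toPt_comp,
        act_apply, ha]
    have h := congrArg (VecGrp.Wmap (evB g)) key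
    rwa [ρ.naturality, VecGrp.Wmap_tmul, map_one, ← Category.assoc, eq_ptMap_univ] at h

theorem chiVal_eq {B : Type u} [CommRing B] [Algebra k B] (χ : H ⟶ Red.Gm (Spec (CommRingCat.of k)))
    (g : VecGrp.pt k B ⟶ H) : VecGrp.chiVal χ g = evB g (Red.gmFn χ) := by
  rw [VecGrp.chiVal, Groth.Agent.Lib.RedPts.Gm.gmFn_comp]
  rfl

theorem semi_iff (χ : H ⟶ Red.Gm (Spec (CommRingCat.of k))) (v : M) :
    (∀ (B : Type u) [CommRing B] [Algebra k B] (h : VecGrp.pt k B ⟶ H),
      ρ.ρ B (h ≫ i) ((1 : B) ⊗ₜ[k] v) = VecGrp.chiVal χ h • ((1 : B) ⊗ₜ[k] v)) ↔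
      ∀ h : P H, act ρ (h ≫ i) v = ev h (Red.gmFn χ) • v := by
  constructor
  · intro ha h
    apply (TensorProduct.lid k M).symm.injective
    rw [TensorProduct.lid_symm_apply, TensorProduct.lid_symm_apply, ← act_apply, toPt_comp, ha k (toPt h),
      chiVal_eq, evB_toPt, TensorProduct.tmul_smul]
  · intro ha B _ _ g
    haveI : IsReduced H.left := Groth.Agent.Lib.GrpSch.isReduced_of_smooth_field H.hom
    have key : ρ.ρ Γ(H.left, ⊤) (univPt H ≫ i) ((1 : Γ(H.left, ⊤)) ⊗ₜ v) =
        Red.gmFn χ • ((1 : Γ(H.left, ⊤)) ⊗ₜ v) := by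
      refine eq_of_points fun x => ?_
      rw [ρ.naturality, VecGrp.Wmap_smul, VecGrp.Wmap_tmul, map_one, ← Category.assoc,
        show evA x = evB (toPt x) from AlgHom.ext fun f => (evB_toPt x f).symm, eq_ptMap_univ, ← toPt_comp,
        act_apply, ha, evB_toPt, TensorProduct.tmul_smul]
    have h := congrArg (VecGrp.Wmap (evB g)) key
    rwa [ρ.naturality, VecGrp.Wmap_smul, VecGrp.Wmap_tmul, map_one, ← Category.assoc, eq_ptMap_univ,
      ← chiVal_eq] at h

/-- Linear maps equivariant on points are equivariant on all test algebras. -/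
theorem equivariant_of_points {V : Type u} [AddCommGroup V] [Module k V] (σ : VecGrp.GMod H V) (φ : V →ₗ[k] M)
    (hφ : ∀ (h : P H) (v : V), φ (act σ h v) = act ρ (h ≫ i) (φ v)) (B : Type u) [CommRing B] [Algebra k B]
    (g : VecGrp.pt k B ⟶ H) (y : VecGrp.W k V B) :
    φ.baseChange B (σ.ρ B g y) = ρ.ρ B (g ≫ i) (φ.baseChange B y) := by
  haveI : IsReduced H.left := Groth.Agent.Lib.GrpSch.isReduced_of_smooth_field H.hom
  induction y using TensorProduct.induction_on with
  | zero => simp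
  | add p q hp hq => simp only [map_add, hp, hq]
  | tmul b v =>
    have key : φ.baseChange Γ(H.left, ⊤) (σ.ρ Γ(H.left, ⊤) (univPt H) ((1 : Γ(H.left, ⊤)) ⊗ₜ v)) =
        ρ.ρ Γ(H.left, ⊤) (univPt H ≫ i) ((1 : Γ(H.left, ⊤)) ⊗ₜ φ v) := by
      refine eq_of_points fun x => ?_
      rw [VecGrp.baseChange_natural, Wmap_univ, ρ.naturality, VecGrp.Wmap_tmul, map_one, ← Category.assoc,
        show evA x = evB (toPt x) from AlgHom.ext fun f => (evB_toPt x f).symm, eq_ptMap_univ, ← toPt_comp,
        act_apply, LinearMap.baseChange_tmul, hφ]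
    have h := congrArg (VecGrp.Wmap (evB g)) key
    rw [VecGrp.baseChange_natural, σ.naturality, ρ.naturality, VecGrp.Wmap_tmul, map_one, VecGrp.Wmap_tmul, map_one,
      eq_ptMap_univ, ← Category.assoc, eq_ptMap_univ] at h
    rw [show (b ⊗ₜ[k] v : B ⊗[k] V) = b • ((1 : B) ⊗ₜ v) by rw [TensorProduct.smul_tmul', smul_eq_mul, _root_.mul_one],
      map_smul, map_smul, map_smul, map_smul, h, LinearMap.baseChange_tmul]

end Smooth

end Groth.Agent.H1.Obs
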