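import Groth.Agent.H1.Obs.Apply
import Groth.Agent.S0352
import Mathlib.RingTheory.Ideal.MinimalPrime.Noetherian

/-!
# Open subgroups and observability
-/

universe u

open CategoryTheory Limits MonoidalCategory CartesianMonoidalCategory MonObj GrpObj AlgebraicGeometry
open scoped TensorProduct

namespace Groth.Agent.H1.Obs

set_option linter.style.haveILetI false
set_option linter.unusedSectionVars false

open Groth.Agent.Lib.RedPts Groth.Agent.Lib.RedPts.Points Classical.Scheme' Groth.Agent.H1.RInv Groth.Agent.Lib.GrpQ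

attribute [local instance] baseAlgebra

variable {k : Type u} [Field k] [IsAlgClosed k] {G H U : Over (Spec (CommRingCat.of k))} [GrpObj G] [GrpObj H] [GrpObj U]

/-- An open subgroup is closed. -/
theorem isClosedImmersion_of_open (j : U ⟶ G) [IsMonHom j] [IsOpenImmersion j.left] : IsClosedImmersion j.left :=
  IsClosedImmersion.of_isPreimmersion _ (Groth.Agent.S0352.result k U G j j.left.isOpenEmbedding.isOpen_range)

/-- An open subgroup is smooth. -/
theorem smooth_of_open [Smooth G.hom] (j : U ⟶ G) [IsOpenImmersion j.left] : Smooth U.hom := by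
  rw [← Over.w j]
  infer_instance

theorem comp_left_injective (j : U ⟶ G) [Mono j.left] {x y : P U} (h : x ≫ j = y ≫ j) : x = y := by
  haveI : Mono j := (Over.forget _).mono_of_mono_map (show Mono ((Over.forget _).map j) by assumption)
  exact (cancel_mono j).mp h

variable [IsAffine G.left] [Smooth G.hom]

/-- The indicator function of an open subgroup. -/
theorem exists_indicator (j : U ⟶ G) [IsMonHom j] [IsOpenImmersion j.left] :
    ∃ e : Γ(G.left, ⊤), IsIdempotentElem e ∧ ∀ x : P G,
      (ev x e = 1 ↔ ∃ u : P U, u ≫ j = x) ∧ (ev x e = 0 ↔ ¬ ∃ u : P U, u ≫ j = x) := by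
  haveI := isClosedImmersion_of_open j
  let φ := G.left.isoSpec.inv
  have hcl : IsClopen (φ ⁻¹' Set.range j.left) :=
    IsClopen.preimage ⟨j.left.isClosedEmbedding.isClosed_range, j.left.isOpenEmbedding.isOpen_range⟩
      φ.continuous
  obtain ⟨e, he, heq⟩ := PrimeSpectrum.isClopen_iff.mp hcl
  have hbo : (G.left.basicOpen e : Set G.left) = Set.range j.left := by
    rw [← Scheme.toSpecΓ_preimage_basicOpen]
    show G.left.isoSpec.hom ⁻¹' ((PrimeSpectrum.basicOpen e : TopologicalSpace.Opens (PrimeSpectrum _)) : Set (PrimeSpectrum _)) = _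
    rw [← heq, ← Set.preimage_comp, ← TopCat.coe_comp, ← Scheme.Hom.comp_base, Iso.hom_inv_id]
    rfl
  refine ⟨e, he, fun x => ?_⟩
  let s : (𝟙_ (Over (Spec (CommRingCat.of k)))).left := IsLocalRing.closedPoint k
  have hmem : x.left s ∈ G.left.basicOpen e ↔ ev x e ≠ 0 := by
    change s ∈ x.left ⁻¹ᵁ G.left.basicOpen e ↔ _
    rw [Scheme.preimage_basicOpen_top]
    constructor
    · intro h h0
      have h1 : x.left.appTop e = 0 := (Scheme.ΓSpecIso (CommRingCat.of k)).commRingCatIsoToRingEquiv.injective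
        (h0.trans (map_zero _).symm)
      simp [h1] at h
    · intro h
      have h1 : IsUnit (x.left.appTop e) := by
        have := (isUnit_iff_ne_zero.mpr h).map (Scheme.ΓSpecIso (CommRingCat.of k)).commRingCatIsoToRingEquiv.symm
        rwa [show (Scheme.ΓSpecIso (CommRingCat.of k)).commRingCatIsoToRingEquiv.symm (ev x e) = x.left.appTop e from
          RingEquiv.symm_apply_apply _ _] at this
      rw [Scheme.basicOpen_of_isUnit _ h1]
      trivial
  have hiff : ev x e ≠ 0 ↔ ∃ u : P U, u ≫ j = x := by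
    rw [← hmem, ← SetLike.mem_coe, hbo]
    constructor
    · intro h
      refine ⟨Over.homMk (IsOpenImmersion.lift j.left x.left ?_) ?_, ?_⟩
      · rintro _ ⟨z, rfl⟩
        rw [Subsingleton.elim (α := Spec (CommRingCat.of k)) z s]
        exact h
      · rw [← Over.w j, IsOpenImmersion.lift_fac_assoc, Over.w]
      · ext1; exact IsOpenImmersion.lift_fac _ _ _
    · rintro ⟨u, rfl⟩
      exact ⟨u.left s, rfl⟩
  rcases IsIdempotentElem.iff_eq_zero_or_one.mp (he.map (ev x)) with h | h
  · rw [h] at hiff ⊢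
    simpa using hiff
  · rw [h] at hiff ⊢
    simpa using hiff

/-- Open subgroups are observable. -/
theorem observable_of_open [IsAffine U.left] [Smooth U.hom] (j : U ⟶ G) [IsMonHom j] [IsOpenImmersion j.left] :
    AGF.IsObservableIn k j := by
  obtain ⟨e, -, he⟩ := exists_indicator j
  refine (isObservableIn_iff j).mpr fun g hg => ?_
  have hinv : Inv j e := fun x h => by
    by_cases hx : ∃ u : P U, u ≫ j = x
    · obtain ⟨u, rfl⟩ := hx
      rw [((he _).1).mpr ⟨u, rfl⟩, ((he _).1).mpr ⟨u * h, MonObj.mul_comp u h j⟩]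
    · rw [((he _).2).mpr hx, ((he _).2).mpr]
      rintro ⟨u, hu⟩
      refine hx ⟨u * h⁻¹, ?_⟩
      rw [MonObj.mul_comp, hu, GrpObj.inv_comp, mul_inv_cancel_right]
  have h1 := hg e hinv 1
  rw [_root_.one_mul, ((he 1).1).mpr ⟨1, MonObj.one_comp _⟩] at h1
  exact ((he g).1).mp h1

/-- A noetherian ring has finitely many idempotents. -/
theorem finite_idempotents (R : Type u) [CommRing R] [IsNoetherianRing R] :
    Finite {e : R // IsIdempotentElem e} := by
  classical
  haveI := (minimalPrimes.finite_of_isNoetherianRing R).to_subtype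
  refine Finite.of_injective (fun e (p : minimalPrimes R) => decide (e.1 ∈ p.1)) fun e e' h => ?_
  have key : ∀ a b : {e : R // IsIdempotentElem e}, (∀ p ∈ minimalPrimes R, a.1 ∈ p ↔ b.1 ∈ p) → a.1 * b.1 = a.1 := by
    intro a b hab
    have hmem : a.1 * (1 - b.1) ∈ nilradical R := by
      rw [nilradical, ← Ideal.sInf_minimalPrimes, Ideal.mem_sInf]
      intro p hp
      haveI : p.IsPrime := hp.1.1
      by_cases ha : a.1 ∈ p
      · exact Ideal.mul_mem_right _ _ ha
      · have hb := mt (hab p hp).mpr ha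
        refine Ideal.mul_mem_left _ _ ((Ideal.IsPrime.mem_or_mem ‹_› ?_).resolve_left hb)
        rw [mul_sub, _root_.mul_one, b.2.eq, sub_self]
        exact p.zero_mem
    obtain ⟨n, hn⟩ := hmem
    have hidem : IsIdempotentElem (a.1 * (1 - b.1)) := a.2.mul b.2.one_sub
    have h0 : a.1 * (1 - b.1) = 0 := by
      cases n with
      | zero => simpa using eq_zero_of_zero_eq_one (by simpa using hn.symm) _
      | succ n => rwa [hidem.pow_succ_eq] at hn
    linear_combination -h0
  have hiff : ∀ p ∈ minimalPrimes R, e.1 ∈ p ↔ e'.1 ∈ p := fun p hp => by simpa using congrFun h ⟨p, hp⟩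
  refine Subtype.ext ?_
  rw [← key e e' hiff, mul_comm, key e' e fun p hp => (hiff p hp).symm]

variable [IsAffine H.left] [Smooth H.hom]

/-- A subgroup with an observable open subgroup is observable. -/
theorem observable_of_open_comp [IsAffine U.left] [Smooth U.hom] (j : U ⟶ H) [IsMonHom j] [IsOpenImmersion j.left]
    (i : H ⟶ G) [IsMonHom i] (hobs : AGF.IsObservableIn k (j ≫ i)) : AGF.IsObservableIn k i := by
  classical
  let S : Subgroup (P H) :=
    { carrier := {x | ∃ u : P U, u ≫ j = x}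
      mul_mem' := fun {x y} ⟨u, hu⟩ ⟨v, hv⟩ => ⟨u * v, by rw [MonObj.mul_comp, hu, hv]⟩
      one_mem' := ⟨1, MonObj.one_comp _⟩
      inv_mem' := fun {x} ⟨u, hu⟩ => ⟨u⁻¹, by rw [GrpObj.inv_comp, hu]⟩ }
  obtain ⟨e, hei, he⟩ := exists_indicator j
  haveI : Algebra.FiniteType k Γ(H.left, ⊤) := RInv.finiteType_Γ (G := H)
  haveI : IsNoetherianRing Γ(H.left, ⊤) := Algebra.FiniteType.isNoetherianRing k _
  haveI := finite_idempotents Γ(H.left, ⊤)
  haveI : Finite (P H ⧸ S) := by
    refine Finite.of_injective (fun q => (⟨ltr q.out⁻¹ e, hei.map _⟩ : {a : Γ(H.left, ⊤) // IsIdempotentElem a}))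
      fun q q' h => ?_
    have h2 := congrArg (fun a => ev q.out a.1) h
    simp only [ev_ltr, inv_mul_cancel] at h2
    rw [((he 1).1).mpr ⟨1, MonObj.one_comp _⟩] at h2
    rw [← q.out_eq', ← q'.out_eq']
    exact (QuotientGroup.eq.mpr (show q'.out⁻¹ * q.out ∈ S from ((he _).1).mp h2.symm)).symm
  haveI := Fintype.ofFinite (P H ⧸ S)
  refine (isObservableIn_iff i).mpr fun g hg => ?_
  by_contra hne
  have hsep : ∀ q : P H ⧸ S, ∃ f, Inv (j ≫ i) f ∧ ev g f ≠ ev (q.out ≫ i) f := fun q => by
    by_contra h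
    push Not at h
    obtain ⟨u, hu⟩ := (isObservableIn_iff (j ≫ i)).mp hobs ((q.out ≫ i)⁻¹ * g) (inHull_of_ev_one _ fun f hf => by
      have := h _ (hf.ltr _ (q.out ≫ i)⁻¹)
      rwa [ev_ltr, ev_ltr, inv_mul_cancel] at this)
    exact hne ⟨q.out * (u ≫ j), by rw [MonObj.mul_comp, Category.assoc, hu, mul_inv_cancel_left]⟩
  choose f hf hfne using hsep
  let Φ : Γ(G.left, ⊤) := ∏ q, (f q - algebraMap k _ (ev (q.out ≫ i) (f q)))
  have hΦ1 : ev g Φ ≠ 0 := by
    rw [map_prod, Finset.prod_ne_zero_iff]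
    intro q _
    rw [map_sub, ev_const, sub_ne_zero]
    exact hfne q
  have hΦ0 : ∀ q : P H ⧸ S, ev (q.out ≫ i) Φ = 0 := fun q => by
    rw [map_prod]
    exact Finset.prod_eq_zero (Finset.mem_univ q) (by rw [map_sub, ev_const, sub_self])
  have hΦi : Inv (j ≫ i) Φ := fun x u => by
    simp only [Φ, map_prod, map_sub, ev_const]
    exact Finset.prod_congr rfl fun q _ => by rw [hf q x u]
  -- evaluation on a coset
  have hcoset : ∀ (x : P G) (a b : P H), (QuotientGroup.mk a : P H ⧸ S) = QuotientGroup.mk b →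
      ev (x * (a ≫ i)) Φ = ev (x * (b ≫ i)) Φ := fun x a b hab => by
    obtain ⟨u, hu⟩ := QuotientGroup.eq.mp hab
    rw [show b = a * (u ≫ j) by rw [hu, mul_inv_cancel_left], MonObj.mul_comp, Category.assoc, ← _root_.mul_assoc, hΦi]
  let F : Γ(G.left, ⊤) := ∏ q : P H ⧸ S, (1 - algebraMap k _ (ev g Φ)⁻¹ * rtr (q.out ≫ i) Φ)
  have hF : ∀ x, ev x F = ∏ q : P H ⧸ S, (1 - (ev g Φ)⁻¹ * ev (x * (q.out ≫ i)) Φ) := fun x => by
    simp [F, ev_const]
  have hFi : Inv i F := fun x h => by
    rw [hF, hF]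
    refine Fintype.prod_equiv (MulAction.toPerm h) _ _ fun q => ?_
    rw [_root_.mul_assoc, ← MonObj.mul_comp, hcoset x (h * q.out) ((MulAction.toPerm h) q).out]
    rw [QuotientGroup.out_eq', MulAction.toPerm_apply]
    conv_rhs => rw [← q.out_eq']
    rfl
  have h1 := hg F hFi 1
  rw [_root_.one_mul, hF, hF, Finset.prod_eq_zero (Finset.mem_univ (QuotientGroup.mk 1)), eq_comm,
    Finset.prod_eq_one] at h1
  · exact one_ne_zero h1
  · intro q _
    rw [_root_.one_mul, hΦ0, mul_zero, sub_zero]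
  · rw [hcoset g _ 1 (QuotientGroup.out_eq' _), MonObj.one_comp, _root_.mul_one, inv_mul_cancel₀ hΦ1, sub_self]

/-- Observability in a larger group implies observability in a smaller one. -/
theorem observable_of_comp [IsAffine U.left] [Smooth U.hom] (j : U ⟶ G) [IsMonHom j] [Mono j.left] (i₀ : H ⟶ U)
    [IsMonHom i₀] (hobs : AGF.IsObservableIn k (i₀ ≫ j)) : AGF.IsObservableIn k i₀ := by
  refine (isObservableIn_iff i₀).mpr fun g hg => ?_
  obtain ⟨h, hh⟩ := (isObservableIn_iff (i₀ ≫ j)).mp hobs (g ≫ j) (inHull_of_ev_one _ fun f hf => by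
    have h1 := hg (j.left.appTop f) (fun x h => by
      rw [← ev_comp, ← ev_comp, MonObj.mul_comp, Category.assoc, hf]) 1
    rwa [_root_.one_mul, ← ev_comp, ← ev_comp, MonObj.one_comp] at h1)
  exact ⟨h, comp_left_injective j (by rw [Category.assoc, hh])⟩

end Groth.Agent.H1.Obs
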