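import Groth.Agent.H1.RInv
import Groth.Agent.H1.Classical.Apply
import Groth.Prelude.Def_W4bk4grossh111Obs
import Groth.Agent.Lib.GrpSch.SmoothReduced

/-!
# Global functions on an affine group evaluated at rational points
-/

universe u

open CategoryTheory Limits MonoidalCategory CartesianMonoidalCategory MonObj GrpObj AlgebraicGeometry
open scoped TensorProduct

namespace Groth.Agent.H1.Obs

set_option linter.style.haveILetI false
set_option linter.unusedSectionVars false

open Groth.Agent.Lib.RedPts Groth.Agent.Lib.RedPts.Points Classical.Scheme' RInv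

attribute [local instance] baseAlgebra

variable {k : Type u} [Field k]

/-- Rational points. -/
abbrev P (G : Over (Spec (CommRingCat.of k))) := 𝟙_ (Over (Spec (CommRingCat.of k))) ⟶ G

variable (k) in
/-- The two models of the base point. -/
noncomputable def ptIso₀ : VecGrp.pt k k ≅ 𝟙_ (Over (Spec (CommRingCat.of k))) :=
  Over.isoMk (Iso.refl _) (by
    show 𝟙 _ ≫ 𝟙 _ = Spec.map (CommRingCat.ofHom (algebraMap k k))
    rw [Category.id_comp]
    exact (Spec.map_id _).symm)

variable {G H X : Over (Spec (CommRingCat.of k))}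

/-- A point given on the model `pt k k`. -/
noncomputable def ofPt (g : VecGrp.pt k k ⟶ G) : P G := (ptIso₀ k).inv ≫ g

/-- A point on the model `pt k k`. -/
noncomputable def toPt (x : P G) : VecGrp.pt k k ⟶ G := (ptIso₀ k).hom ≫ x

theorem toPt_ofPt (g : VecGrp.pt k k ⟶ G) : toPt (ofPt g) = g := (ptIso₀ k).hom_inv_id_assoc g

theorem ofPt_toPt (x : P G) : ofPt (toPt x) = x := (ptIso₀ k).inv_hom_id_assoc x

variable [GrpObj G] [GrpObj H]

theorem toPt_mul (x y : P G) : toPt (x * y) = toPt x * toPt y := MonObj.comp_mul _ _ _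

theorem toPt_one : toPt (1 : P G) = 1 := MonObj.comp_one _

theorem toPt_inv (x : P G) : toPt x⁻¹ = (toPt x)⁻¹ := GrpObj.comp_inv _ _

theorem ofPt_mul (g h : VecGrp.pt k k ⟶ G) : ofPt (g * h) = ofPt g * ofPt h := MonObj.comp_mul _ _ _

theorem ofPt_one : ofPt (1 : VecGrp.pt k k ⟶ G) = 1 := MonObj.comp_one _

theorem toPt_comp {G' : Over (Spec (CommRingCat.of k))} [GrpObj G'] (x : P G) (f : G ⟶ G') :
    toPt (x ≫ f) = toPt x ≫ f := (Category.assoc _ _ _).symm

theorem ofPt_comp {G' : Over (Spec (CommRingCat.of k))} [GrpObj G'] (x : VecGrp.pt k k ⟶ G) (f : G ⟶ G') :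
    ofPt (x ≫ f) = ofPt x ≫ f := (Category.assoc _ _ _).symm

omit [GrpObj G] in
theorem ev_comp {Y : Over (Spec (CommRingCat.of k))} (x : P G) (φ : G ⟶ Y) (f : Γ(Y.left, ⊤)) :
    ev (x ≫ φ) f = ev x (φ.left.appTop f) := by
  simp only [ev, Over.comp_left, Scheme.Hom.comp_appTop, CommRingCat.hom_comp, RingHom.comp_apply]

omit [GrpObj G] in
theorem ev_const (x : P G) (c : k) : ev x (algebraMap k Γ(G.left, ⊤) c) = c := by
  show (Scheme.ΓSpecIso (CommRingCat.of k)).hom (x.left.appTop (baseHom G c)) = c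
  have h := congrArg (fun f => f.hom ((Scheme.ΓSpecIso (CommRingCat.of k)).inv c))
    (congrArg Scheme.Hom.appTop (Over.w x))
  simp only [Scheme.Hom.comp_appTop, CommRingCat.hom_comp, RingHom.comp_apply] at h
  rw [show x.left.appTop (baseHom G c) = (Scheme.ΓSpecIso (CommRingCat.of k)).inv c from h]
  exact Iso.inv_hom_id_apply (Scheme.ΓSpecIso (CommRingCat.of k)) c

/-- Evaluation as an algebra homomorphism. -/
noncomputable def evA (x : P G) : Γ(G.left, ⊤) →ₐ[k] k := { ev x with commutes' := ev_const x }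

theorem evA_apply (x : P G) (f : Γ(G.left, ⊤)) : evA x f = ev x f := rfl

section Ext

variable [IsAlgClosed k] {Y : Over (Spec (CommRingCat.of k))}

/-- A maximal ideal is the kernel of an evaluation. -/
theorem exists_ev_ker' [IsAffine Y.left] [LocallyOfFiniteType Y.hom]
    (m : Ideal Γ(Y.left, ⊤)) [m.IsMaximal] :
    ∃ x : 𝟙_ (Over (Spec (CommRingCat.of k))) ⟶ Y, RingHom.ker (ev x) = m := by
  letI := (RInv.const Y).toAlgebra
  haveI : Algebra.FiniteType k Γ(Y.left, ⊤) := ((HasRingHomProperty.appTop (P := @LocallyOfFiniteType) Y.hom inferInstance).comp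
    (RingHom.FiniteType.of_surjective _ (Scheme.ΓSpecIso (CommRingCat.of k)).commRingCatIsoToRingEquiv.symm.surjective))
  letI := Ideal.Quotient.field m
  have : Module.Finite k (Γ(Y.left, ⊤) ⧸ m) := finite_of_finite_type_of_isJacobsonRing k _
  have : Algebra.IsIntegral k (Γ(Y.left, ⊤) ⧸ m) := Algebra.IsIntegral.of_finite k _
  let e := AlgEquiv.ofBijective (Algebra.ofId k (Γ(Y.left, ⊤) ⧸ m))
    (IsAlgClosed.algebraMap_bijective_of_isIntegral (k := k) (K := Γ(Y.left, ⊤) ⧸ m))
  let θ : Γ(Y.left, ⊤) →ₐ[k] k := e.symm.toAlgHom.comp (Ideal.Quotient.mkₐ k m)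
  let x₀ : Spec (CommRingCat.of k) ⟶ Y.left :=
    Spec.map (CommRingCat.ofHom θ.toRingHom) ≫ Y.left.isoSpec.inv
  have hx : ∀ f, (Scheme.ΓSpecIso (CommRingCat.of k)).hom (x₀.appTop f) = θ f := by
    intro f
    show (Scheme.ΓSpecIso (CommRingCat.of k)).hom
      ((Spec.map (CommRingCat.ofHom θ.toRingHom) ≫ Y.left.isoSpec.inv).appTop f) = θ f
    rw [Scheme.Hom.comp_appTop, isoSpec_inv_appTop, CommRingCat.comp_apply, ← CommRingCat.comp_apply _
      (Scheme.ΓSpecIso (CommRingCat.of k)).hom, Scheme.ΓSpecIso_naturality, CommRingCat.comp_apply]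
    exact congrArg θ (Iso.inv_hom_id_apply (Scheme.ΓSpecIso Γ(Y.left, ⊤)) f)
  refine ⟨Over.homMk x₀ ?_, ?_⟩
  · apply ext_of_isAffine
    ext t
    apply (Scheme.ΓSpecIso (CommRingCat.of k)).commRingCatIsoToRingEquiv.injective
    obtain ⟨c, rfl⟩ := (Scheme.ΓSpecIso (CommRingCat.of k)).commRingCatIsoToRingEquiv.symm.surjective t
    exact (hx _).trans ((θ.commutes c).trans (Iso.inv_hom_id_apply _ c).symm)
  · ext f
    show (Scheme.ΓSpecIso (CommRingCat.of k)).hom (x₀.appTop f) = 0 ↔ f ∈ m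
    rw [hx]
    simp [θ, Ideal.Quotient.eq_zero_iff_mem]

/-- Functions on a reduced affine scheme of finite type are determined by their values. -/
theorem ext_points [IsAffine Y.left] [LocallyOfFiniteType Y.hom] [IsReduced Y.left] {f f' : Γ(Y.left, ⊤)}
    (h : ∀ x : P Y, ev x f = ev x f') : f = f' := by
  letI := (RInv.const Y).toAlgebra
  haveI : Algebra.FiniteType k Γ(Y.left, ⊤) := ((HasRingHomProperty.appTop (P := @LocallyOfFiniteType) Y.hom inferInstance).comp
    (RingHom.FiniteType.of_surjective _ (Scheme.ΓSpecIso (CommRingCat.of k)).commRingCatIsoToRingEquiv.symm.surjective))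
  haveI : IsJacobsonRing Γ(Y.left, ⊤) := isJacobsonRing_of_finiteType (A := k)
  have hb : f - f' ∈ Ideal.jacobson (⊥ : Ideal Γ(Y.left, ⊤)) := by
    rw [Ideal.jacobson, Ideal.mem_sInf]
    rintro m ⟨-, hm⟩
    obtain ⟨x, rfl⟩ := exists_ev_ker' m
    rw [RingHom.mem_ker, map_sub, h x, sub_self]
  rw [IsJacobsonRing.out' (⊥ : Ideal Γ(Y.left, ⊤)) ((Ideal.isRadical_bot_iff).mpr inferInstance)] at hb
  exact sub_eq_zero.mp ((Submodule.mem_bot _).mp hb)

/-- A homomorphism to the field is evaluation at a point. -/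
theorem exists_point [IsAffine Y.left] [LocallyOfFiniteType Y.hom] (χ : Γ(Y.left, ⊤) →ₐ[k] k) :
    ∃ x : P Y, ∀ f, ev x f = χ f := by
  haveI : (RingHom.ker χ).IsMaximal := RingHom.ker_isMaximal_of_surjective _ fun c => ⟨algebraMap k _ c, χ.commutes c⟩
  obtain ⟨x, hx⟩ := exists_ev_ker' (RingHom.ker χ)
  refine ⟨x, fun f => ?_⟩
  have h : f - algebraMap k _ (χ f) ∈ RingHom.ker (ev x) := by
    rw [hx, RingHom.mem_ker, map_sub, AlgHom.commutes]
    exact sub_self _
  rwa [RingHom.mem_ker, map_sub, ev_const, sub_eq_zero] at h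

theorem point_ext [IsAffine Y.left] {x y : P Y} (h : ∀ f, ev x f = ev y f) : x = y :=
  Over.OverMorphism.ext (ext_of_isAffine (CommRingCat.hom_ext (RingHom.ext fun f =>
    (Scheme.ΓSpecIso (CommRingCat.of k)).commRingCatIsoToRingEquiv.injective (h f))))

end Ext

/-- Left translation of functions. -/
noncomputable def ltr (y : P G) : Γ(G.left, ⊤) →ₐ[k] Γ(G.left, ⊤) :=
  { ((toUnit G ≫ y) * 𝟙 G : G ⟶ G).left.appTop.hom with
    commutes' := fun c => by
      have h := congrArg (fun f => f.hom ((Scheme.ΓSpecIso (CommRingCat.of k)).inv c))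
        (congrArg Scheme.Hom.appTop (Over.w ((toUnit G ≫ y) * 𝟙 G : G ⟶ G)))
      simp only [Scheme.Hom.comp_appTop, CommRingCat.hom_comp, RingHom.comp_apply] at h
      exact h }

/-- Right translation of functions. -/
noncomputable def rtr (y : P G) : Γ(G.left, ⊤) →ₐ[k] Γ(G.left, ⊤) :=
  { ((𝟙 G : G ⟶ G) * (toUnit G ≫ y)).left.appTop.hom with
    commutes' := fun c => by
      have h := congrArg (fun f => f.hom ((Scheme.ΓSpecIso (CommRingCat.of k)).inv c))
        (congrArg Scheme.Hom.appTop (Over.w ((𝟙 G : G ⟶ G) * (toUnit G ≫ y))))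
      simp only [Scheme.Hom.comp_appTop, CommRingCat.hom_comp, RingHom.comp_apply] at h
      exact h }

@[simp] theorem ev_ltr (x y : P G) (f : Γ(G.left, ⊤)) : ev x (ltr y f) = ev (y * x) f := by
  show ev x (((toUnit G ≫ y) * 𝟙 G : G ⟶ G).left.appTop f) = _
  rw [← ev_comp, MonObj.comp_mul, Category.comp_id, ← Category.assoc, toUnit_unique (x ≫ toUnit G) (𝟙 _),
    Category.id_comp]

@[simp] theorem ev_rtr (x y : P G) (f : Γ(G.left, ⊤)) : ev x (rtr y f) = ev (x * y) f := by
  show ev x (((𝟙 G : G ⟶ G) * (toUnit G ≫ y)).left.appTop f) = _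
  rw [← ev_comp, MonObj.comp_mul, Category.comp_id, ← Category.assoc, toUnit_unique (x ≫ toUnit G) (𝟙 _),
    Category.id_comp]

section Inv

variable [IsAlgClosed k] [IsAffine G.left] [Smooth G.hom]

theorem rTransInv_apply {T : Over (Spec (CommRingCat.of k))} (g : T ⟶ G) (f : Γ(G.left, ⊤))
    (hf : AGF.IsRTransInv g f) (x : P G) (t : P T) : ev (x * (t ≫ g)) f = ev x f := by
  have h := congrArg (ev (lift x t)) hf
  rw [← ev_comp, ← ev_comp, lift_whiskerLeft_assoc, lift_fst, ← Hom.mul_def] at h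
  exact h

theorem rTransInv_iff {T : Over (Spec (CommRingCat.of k))} [IsAffine T.left] [Smooth T.hom] (g : T ⟶ G)
    (f : Γ(G.left, ⊤)) : AGF.IsRTransInv g f ↔ ∀ (x : P G) (t : P T), ev (x * (t ≫ g)) f = ev x f := by
  refine ⟨fun hf x t => rTransInv_apply g f hf x t, fun h => ?_⟩
  haveI : IsAffine (G ⊗ T).left := inferInstanceAs (IsAffine (pullback G.hom T.hom))
  haveI : Smooth (G ⊗ T).hom := inferInstanceAs (Smooth (pullback.fst G.hom T.hom ≫ G.hom))
  haveI : IsReduced (G ⊗ T).left := Groth.Agent.Lib.GrpSch.isReduced_of_smooth_field (G ⊗ T).hom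
  haveI : LocallyOfFiniteType (G ⊗ T).hom := inferInstance
  refine ext_points fun p => ?_
  have h' := h (p ≫ fst G T) (p ≫ snd G T)
  rw [← ev_comp, ← ev_comp]
  rwa [show p ≫ (G ◁ g) ≫ μ[G] = (p ≫ fst G T) * ((p ≫ snd G T) ≫ g) by
    rw [Hom.mul_def, Category.assoc, ← comp_lift_assoc]
    congr 2]

theorem rTransInv_pt_iff (g : VecGrp.pt k k ⟶ G) (f : Γ(G.left, ⊤)) :
    AGF.IsRTransInv g f ↔ ∀ x : P G, ev (x * ofPt g) f = ev x f := by
  haveI : Smooth (VecGrp.pt k k).hom := by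
    show Smooth (Spec.map (CommRingCat.ofHom (algebraMap k k)))
    rw [show CommRingCat.ofHom (algebraMap k k) = 𝟙 _ from rfl, Spec.map_id]
    infer_instance
  haveI : IsAffine (VecGrp.pt k k).left := inferInstanceAs (IsAffine (Spec (CommRingCat.of k)))
  refine (rTransInv_iff g f).trans ⟨fun h x => h x (ptIso₀ k).inv, fun h x t => ?_⟩
  have : t = (ptIso₀ k).inv := (cancel_mono (ptIso₀ k).hom).mp ((toUnit_unique _ _).trans (ptIso₀ k).inv_hom_id.symm)
  rw [this]
  exact h x

end Inv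

/-- Multiplication of functions: a function of a product is a sum of products. -/
theorem exists_mul [IsAffine G.left] (f : Γ(G.left, ⊤)) :
    ∃ (n : ℕ) (a b : Fin n → Γ(G.left, ⊤)), ∀ x y : P G, ev (x * y) f = ∑ i, ev x (a i) * ev y (b i) := by
  obtain ⟨A, _, _, e, he⟩ := H1.Hopf.exists_iso G
  haveI : IsIso e.hom.left := ((Over.forget _).mapIso e).isIso_hom
  haveI : IsIso e.hom.left.appTop := inferInstanceAs (IsIso (e.hom.left.app ⊤))
  obtain ⟨a, ha⟩ := (ConcreteCategory.bijective_of_isIso e.hom.left.appTop).2 f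
  obtain ⟨c, hc⟩ := (ConcreteCategory.bijective_of_isIso (Scheme.ΓSpecIso (CommRingCat.of A)).inv).2 a
  obtain ⟨n, p, q, hpq⟩ := TensorProduct.exists_sum_tmul_eq (Coalgebra.comul (R := k) c)
  let F : A → Γ(G.left, ⊤) := fun z => e.hom.left.appTop ((Scheme.ΓSpecIso (CommRingCat.of A)).inv z)
  have hF : ∀ (x : P G) (z : A), ev x (F z) =
      (Scheme.ΓSpecIso (CommRingCat.of k)).hom (algHomOf (x ≫ e.hom) z) := fun x z => by
    exact (ev_comp x e.hom _).symm.trans rfl
  refine ⟨n, fun i => F (p i), fun i => F (q i), fun x y => ?_⟩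
  have hf : f = F c := by rw [← ha, ← hc]
  rw [hf, hF, MonObj.mul_comp, algHomOf_mul, hpq, map_sum, map_sum]
  exact Finset.sum_congr rfl fun i _ => by
    rw [Algebra.TensorProduct.lift_tmul, map_mul, hF, hF]

end Groth.Agent.H1.Obs
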