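import Groth.Agent.H1.Obs.Apply
import Groth.Agent.Lib.Homog.Basic
import Groth.Agent.Lib.DescAlg.Descends
import Groth.Agent.H1.Classical.Apply
import Mathlib.AlgebraicGeometry.ZariskisMainTheorem
import Mathlib.AlgebraicGeometry.QuasiAffine

/-!
# Observable subgroups and quasi-affine homogeneous spaces
-/

universe u

open CategoryTheory Limits MonoidalCategory CartesianMonoidalCategory MonObj GrpObj AlgebraicGeometry
open scoped TensorProduct

namespace Groth.Agent.H1.Obs

set_option linter.style.haveILetI false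
set_option linter.unusedSectionVars false

open Groth.Agent.Lib.RedPts Groth.Agent.Lib.RedPts.Points Classical.Scheme' Groth.Agent.H1.RInv Groth.Agent.Lib.GrpQ

attribute [local instance] baseAlgebra

variable {k : Type u} [Field k] {G H X : Over (Spec (CommRingCat.of k))} [GrpObj G] [GrpObj H]

theorem orbit_graph_closed (i : H ⟶ G) [IsClosedImmersion i.left] :
    IsClosedImmersion (lift (fst G H) ((G ◁ i) ≫ μ[G])).left := by
  haveI := Lib.GrpSch.whiskerLeft_left_of (P := @IsClosedImmersion) G i ‹_›
  let σ : G ⊗ G ≅ G ⊗ G :=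
    { hom := lift (fst G G) (fst G G * snd G G)
      inv := lift (fst G G) ((fst G G)⁻¹ * snd G G)
      hom_inv_id := by
        refine CartesianMonoidalCategory.hom_ext _ _ ?_ ?_
        · simp
        · simp [MonObj.comp_mul, GrpObj.comp_inv]
      inv_hom_id := by
        refine CartesianMonoidalCategory.hom_ext _ _ ?_ ?_
        · simp
        · simp [MonObj.comp_mul] }
  have h : lift (fst G H) ((G ◁ i) ≫ μ[G]) = (G ◁ i) ≫ σ.hom := by
    refine CartesianMonoidalCategory.hom_ext _ _ ?_ ?_
    · simp [σ]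
    · simp only [σ, Category.assoc, lift_snd]
      rw [Hom.mul_def, lift_fst_snd, Category.id_comp]
  haveI : IsIso σ.hom.left := ((Over.forget _).mapIso σ).isIso_hom
  rw [h, Over.comp_left]
  infer_instance

/-- A quotient by a closed subgroup is separated. -/
theorem isSeparated_of_isQuotient [LocallyOfFiniteType G.hom] [QuasiCompact G.hom] {i : H ⟶ G} [IsClosedImmersion i.left]
    {a : AlgGrp.Action G X} {o : 𝟙_ (Over (Spec (CommRingCat.of k))) ⟶ X} (hq : AGF.IsQuotient i X a o) :
    IsSeparated X.hom := by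
  obtain ⟨h1, h2, h3⟩ := Lib.Homog.isCover_of_isQuotient hq
  set q := a.orbitMap o
  have hcov : (@Surjective ⊓ @Flat ⊓ @QuasiCompact : MorphismProperty Scheme.{u}) (q ⊗ₘ q).left :=
    ⟨⟨Lib.GrpSch.tensorHom_left_of (P := @Surjective) q q ‹_› ‹_›, Lib.GrpSch.tensorHom_left_of (P := @Flat) q q ‹_› ‹_›⟩,
      Lib.GrpSch.tensorHom_left_of (P := @QuasiCompact) q q ‹_› ‹_›⟩
  have hpb : IsPullback (lift (fst G H) ((G ◁ i) ≫ μ[G])) (fst G H ≫ q) (q ⊗ₘ q) (lift (𝟙 X) (𝟙 X)) := by
    have hs : IsPullback (fst G H) ((G ◁ i) ≫ μ[G]) q q := hq.2.2.2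
    refine ⟨⟨?_⟩, ⟨PullbackCone.IsLimit.mk _ (fun s => hs.lift (s.fst ≫ fst G G) (s.fst ≫ snd G G) ?_) (fun s => ?_)
      (fun s => ?_) (fun s m h1 h2 => ?_)⟩⟩
    · rw [lift_map, comp_lift, Category.comp_id, ← hs.w]
    · have hf := congrArg (· ≫ fst X X) s.condition
      have hg := congrArg (· ≫ snd X X) s.condition
      simp only [Category.assoc, tensorHom_fst, tensorHom_snd, lift_fst, lift_snd, Category.comp_id] at hf hg
      simp only [Category.assoc]
      exact hf.trans hg.symm
    · refine CartesianMonoidalCategory.hom_ext _ _ ?_ ?_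
      · simp only [Category.assoc, lift_fst, IsPullback.lift_fst]
      · simp only [Category.assoc, lift_snd, IsPullback.lift_snd]
    · have hf := congrArg (· ≫ fst X X) s.condition
      simp only [Category.assoc, tensorHom_fst, lift_fst, Category.comp_id] at hf
      rw [← Category.assoc, hs.lift_fst, Category.assoc, hf]
    · refine hs.hom_ext ?_ ?_
      · rw [hs.lift_fst, ← h1, Category.assoc, lift_fst]
      · rw [hs.lift_snd, ← h1, Category.assoc, lift_snd]
  have hd : IsClosedImmersion (lift (𝟙 X) (𝟙 X) : X ⟶ X ⊗ X).left :=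
    MorphismProperty.of_isPullback_of_descendsAlong (P := @IsClosedImmersion)
      (Q := @Surjective ⊓ @Flat ⊓ @QuasiCompact) (hpb.map (Over.forget _)) hcov (orbit_graph_closed i)
  refine ⟨?_⟩
  have e : (lift (𝟙 X) (𝟙 X) : X ⟶ X ⊗ X).left = pullback.diagonal X.hom := by
    refine pullback.hom_ext ?_ ?_
    · rw [pullback.diagonal_fst]
      exact congr($(lift_fst (𝟙 X) (𝟙 X)).left)
    · rw [pullback.diagonal_snd]
      exact congr($(lift_snd (𝟙 X) (𝟙 X)).left)
  rwa [e] at hd

variable [IsAlgClosed k]

/-- Functions separate the rational points of a quasi-affine scheme. -/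
theorem point_ext_of_quasiAffine [X.left.IsQuasiAffine] {x y : P X} (h : ∀ f : Γ(X.left, ⊤), ev x f = ev y f) : x = y := by
  refine Over.OverMorphism.ext ((cancel_mono X.left.toSpecΓ).mp (ext_of_isAffine (CommRingCat.hom_ext (RingHom.ext fun f => ?_))))
  apply (Scheme.ΓSpecIso (CommRingCat.of k)).commRingCatIsoToRingEquiv.injective
  simp only [Scheme.Hom.comp_appTop, CommRingCat.hom_comp, RingHom.comp_apply]
  exact h _

theorem point_closed [LocallyOfFiniteType X.hom] [IsSeparated X.hom] (x : P X) :
    IsClosed ({x.left (IsLocalRing.closedPoint k)} : Set X.left) := by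
  haveI : IsClosedImmersion (x.left ≫ X.hom) := by
    rw [Over.w]
    exact inferInstanceAs (IsClosedImmersion (𝟙 (Spec (CommRingCat.of k))))
  haveI : IsClosedImmersion x.left := IsClosedImmersion.of_comp x.left X.hom
  have h := x.left.isClosedEmbedding.isClosed_range
  rwa [show Set.range x.left = {x.left (IsLocalRing.closedPoint k)} from Set.eq_singleton_iff_unique_mem.mpr
    ⟨⟨_, rfl⟩, by
      rintro _ ⟨z, rfl⟩
      exact congrArg x.left (Subsingleton.elim (α := Spec (CommRingCat.of k)) z _)⟩] at h

/-- A morphism to an affine scheme which is injective on rational points makes a separated scheme quasi-affine. -/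
theorem quasiAffine_of_injective_points {A : Over (Spec (CommRingCat.of k))} [IsAffine A.left]
    [LocallyOfFiniteType A.hom] [LocallyOfFiniteType X.hom] [IsSeparated X.hom] [CompactSpace X.left] (F : X ⟶ A)
    (hF : ∀ x y : P X, x ≫ F = y ≫ F → x = y) : X.left.IsQuasiAffine := by
  haveI : IsSeparated A.hom := inferInstance
  haveI : LocallyOfFiniteType (F.left ≫ A.hom) := by rw [Over.w]; infer_instance
  haveI : LocallyOfFiniteType F.left := locallyOfFiniteType_of_comp F.left A.hom
  haveI : IsSeparated (F.left ≫ A.hom) := by rw [Over.w]; infer_instance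
  haveI : IsSeparated F.left := IsSeparated.of_comp F.left A.hom
  haveI : QuasiCompact F.left := inferInstance
  haveI : JacobsonSpace X.left := LocallyOfFiniteType.jacobsonSpace X.hom
  let s : (𝟙_ (Over (Spec (CommRingCat.of k)))).left := IsLocalRing.closedPoint k
  haveI : LocallyQuasiFinite F.left := by
    rw [← Scheme.Hom.quasiFiniteLocus_eq_top_iff]
    by_contra hne
    obtain ⟨x, hx⟩ : ((F.left.quasiFiniteLocus : Set X.left)ᶜ).Nonempty := by
      rw [Set.nonempty_compl]
      exact fun h => hne (TopologicalSpace.Opens.ext h)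
    obtain ⟨x, hx, hxc⟩ := nonempty_inter_closedPoints ⟨x, hx⟩
      F.left.quasiFiniteLocus.isOpen.isClosed_compl.isLocallyClosed
    refine hx ?_
    obtain ⟨p, hp⟩ := Classical.Scheme'.exists_point (Y := X) (y := x) hxc
    have hZ : F.left ⁻¹' {F.left x} = {x} := by
      have hcl : IsClosed (F.left ⁻¹' {F.left x}) := by
        refine IsClosed.preimage F.left.continuous ?_
        rw [← hp s, ← Scheme.Hom.comp_apply, ← Over.comp_left]
        exact point_closed (p ≫ F)
      rw [← closure_inter_closedPoints hcl]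
      refine Eq.trans (congrArg closure (Set.Subset.antisymm ?_ ?_)) hxc.closure_eq
      · rintro y ⟨hy, hyc⟩
        obtain ⟨p', hp'⟩ := Classical.Scheme'.exists_point (Y := X) (y := y) hyc
        have : p' = p := hF _ _ (Over.OverMorphism.ext (ext_of_apply_closedPoint_eq A.hom (Over.w (p' ≫ F))
          (Over.w (p ≫ F)) (by
            rw [Over.comp_left, Over.comp_left, Scheme.Hom.comp_apply, Scheme.Hom.comp_apply, hp', hp]
            exact hy)))
        rw [← hp' s, this, hp]
        rfl
      · rintro y rfl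
        exact ⟨rfl, hxc⟩
    show F.left.QuasiFiniteAt x
    rw [Scheme.Hom.quasiFiniteAt_iff_isOpen_singleton_asFiber]
    haveI : Subsingleton (F.left ⁻¹' {F.left x}) := by rw [hZ]; infer_instance
    haveI : Subsingleton ↥(F.left.fiber (F.left x)) := (F.left.fiberHomeo (F.left x)).injective.subsingleton
    exact isOpen_discrete _
  haveI : IsAffine F.left.normalization := isAffine_of_isAffineHom F.left.fromNormalization
  exact Scheme.IsQuasiAffine.of_isImmersion F.left.toNormalization

variable [IsAffine G.left] [Smooth G.hom] [IsAffine H.left] [Smooth H.hom]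

theorem quotient_quasiAffine_iff {i : H ⟶ G} [IsMonHom i] [IsClosedImmersion i.left] {a : AlgGrp.Action G X}
    {o : 𝟙_ (Over (Spec (CommRingCat.of k))) ⟶ X} (hq : AGF.IsQuotient i X a o) :
    AGF.IsObservableIn k i ↔ X.left.IsQuasiAffine := by
  have hc := Lib.Homog.isCover_of_isQuotient hq
  obtain ⟨hXt, hflat, hsurj, hpb⟩ := hq
  have hho := Lib.Homog.comp_orbit_of_quotient hpb
  constructor
  · intro hobs
    haveI := isSeparated_of_isQuotient (i := i) (a := a) (o := o) ⟨hXt, hflat, hsurj, hpb⟩
    haveI : CompactSpace X.left := ⟨by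
      rw [← (Surjective.surj (f := (a.orbitMap o).left)).range_eq]
      exact isCompact_range (a.orbitMap o).left.continuous⟩
    obtain ⟨S, hS, hsep⟩ := exists_sep_of_observable i hobs
    let B := MvPolynomial S k
    let ψ : B →ₐ[k] Γ(G.left, ⊤) := MvPolynomial.aeval fun f : S => (f : Γ(G.left, ⊤))
    haveI : IsAffine (VecGrp.pt k B).left := inferInstanceAs (IsAffine (Spec (CommRingCat.of B)))
    let φ : G ⟶ VecGrp.pt k B := Over.homMk (G.left.toSpecΓ ≫ Spec.map (CommRingCat.ofHom ψ.toRingHom)) (by
      show (G.left.toSpecΓ ≫ Spec.map _) ≫ Spec.map (CommRingCat.ofHom (algebraMap k B)) = G.hom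
      rw [Category.assoc, ← Spec.map_comp,
        show CommRingCat.ofHom (algebraMap k B) ≫ CommRingCat.ofHom ψ.toRingHom =
          (Scheme.ΓSpecIso (CommRingCat.of k)).inv ≫ G.hom.appTop from
          CommRingCat.hom_ext (RingHom.ext fun c => ψ.commutes c),
        Spec.map_comp, ← Scheme.toSpecΓ_naturality_assoc, toSpecΓ_SpecMap_ΓSpecIso_inv, Category.comp_id])
    have hφ : ∀ b : B, φ.left.appTop ((Scheme.ΓSpecIso (CommRingCat.of B)).inv b) = ψ b := fun b => by
      show (G.left.toSpecΓ ≫ Spec.map (CommRingCat.ofHom ψ.toRingHom)).appTop ((Scheme.ΓSpecIso (CommRingCat.of B)).inv b) = _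
      rw [Scheme.Hom.comp_appTop, Scheme.toSpecΓ_appTop, ← CommRingCat.comp_apply, Scheme.ΓSpecIso_naturality,
        Iso.inv_hom_id_assoc]
      rfl
    have hinv : ((G ◁ i) ≫ μ[G]) ≫ φ = fst G H ≫ φ := by
      refine Over.OverMorphism.ext (ext_of_isAffine (CommRingCat.hom_ext (RingHom.ext fun f => ?_)))
      obtain ⟨b, rfl⟩ := (Scheme.ΓSpecIso (CommRingCat.of B)).commRingCatIsoToRingEquiv.symm.surjective f
      change ((G ◁ i) ≫ μ[G]).left.appTop (φ.left.appTop ((Scheme.ΓSpecIso (CommRingCat.of B)).inv b)) =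
        (fst G H).left.appTop (φ.left.appTop ((Scheme.ΓSpecIso (CommRingCat.of B)).inv b))
      rw [hφ]
      induction b using MvPolynomial.induction_on with
      | C c =>
        rw [← MvPolynomial.algebraMap_eq, AlgHom.commutes]
        exact (isRTransInv_iff i _).mpr fun x h => by rw [ev_const, ev_const]
      | add p q hp hq => simp only [map_add, hp, hq]
      | mul_X p f hp =>
        simp only [map_mul, hp, show ψ (MvPolynomial.X f) = (f : Γ(G.left, ⊤)) from MvPolynomial.aeval_X _ f]
        rw [show ((G ◁ i) ≫ μ[G]).left.appTop (f : Γ(G.left, ⊤)) = (fst G H).left.appTop (f : Γ(G.left, ⊤)) from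
          (isRTransInv_iff i _).mpr (hS f f.2)]
    obtain ⟨F, hF⟩ := exists_desc hc φ fun Z x y e => by
      obtain ⟨h, rfl⟩ := Lib.Homog.exists_rel hpb x y e
      conv_rhs => rw [← Lib.Homog.comp_mulPair, Category.assoc, hinv, lift_fst_assoc]
    haveI : LocallyOfFiniteType (VecGrp.pt k B).hom := by
      show LocallyOfFiniteType (Spec.map (CommRingCat.ofHom (algebraMap k B)))
      rw [HasRingHomProperty.Spec_iff (P := @LocallyOfFiniteType)]
      exact RingHom.finiteType_algebraMap.mpr inferInstance
    refine quasiAffine_of_injective_points F fun x y hxy => ?_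
    obtain ⟨g, rfl⟩ := Classical.Scheme'.exists_lift_point (a.orbitMap o) x
    obtain ⟨g', rfl⟩ := Classical.Scheme'.exists_lift_point (a.orbitMap o) y
    obtain ⟨z, rfl⟩ := hsep g g' fun f hf => by
      have h1 := congrArg (fun p => ev p ((Scheme.ΓSpecIso (CommRingCat.of B)).inv (MvPolynomial.X ⟨f, hf⟩))) hxy
      simp only [Category.assoc, hF, ev_comp, hφ, ψ, MvPolynomial.aeval_X] at h1
      erw [MvPolynomial.aeval_X] at h1
      exact h1
    conv_rhs => rw [← Lib.Homog.comp_mulPair, Category.assoc, ← hpb.w, lift_fst_assoc]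
  · intro hqa
    refine (isObservableIn_iff i).mpr fun g hg => ?_
    have hgo : g ≫ a.orbitMap o = (1 : P G) ≫ a.orbitMap o := point_ext_of_quasiAffine fun f => by
      have hinv : Inv i ((a.orbitMap o).left.appTop f) := fun x h => by
        rw [← ev_comp, ← ev_comp, ← Lib.Homog.comp_mulPair, Category.assoc, ← hpb.w, lift_fst_assoc]
      have h1 := hg _ hinv 1
      rw [_root_.one_mul] at h1
      rw [ev_comp, ev_comp, h1]
    obtain ⟨h, hh⟩ := Lib.Homog.exists_rel hpb 1 g hgo.symm
    exact ⟨h, by rw [hh, _root_.one_mul]⟩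

end Groth.Agent.H1.Obs
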