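import Groth.Agent.H1.Obs.Regular
import Groth.Agent.H1.Obs.Line
import Mathlib.LinearAlgebra.TensorProduct.RightExactness

/-!
# Subgroups with reductive identity component are observable, given separation of invariant closed sets
-/

universe u

open CategoryTheory Limits MonoidalCategory CartesianMonoidalCategory MonObj GrpObj AlgebraicGeometry
open scoped TensorProduct

namespace Groth.Agent.H1.Obs

set_option linter.style.haveILetI false
set_option linter.unusedSectionVars false

open Groth.Agent.Lib.RedPts Groth.Agent.Lib.RedPts.Points Classical.Scheme' Groth.Agent.H1.RInv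

attribute [local instance] baseAlgebra

variable {k : Type u} [Field k] [IsAlgClosed k] {G H : Over (Spec (CommRingCat.of k))} [GrpObj G] [GrpObj H]
  [IsAffine G.left] [Smooth G.hom] [IsAffine H.left] [Smooth H.hom] (i : H ⟶ G) [IsMonHom i]

theorem act_pullMod {M : Type u} [AddCommGroup M] [Module k M] (ρ : VecGrp.GMod G M) (h : P H) (v : M) :
    act (pullMod ρ i) h v = act ρ (h ≫ i) v := by
  apply (TensorProduct.lid k M).symm.injective
  rw [TensorProduct.lid_symm_apply, TensorProduct.lid_symm_apply, ← act_apply, ← act_apply, toPt_comp]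
  rfl

theorem pullMod_isMult {A : Type u} [CommRing A] [Algebra k A] {ρ : VecGrp.GMod G A} (hρ : ρ.IsMult) :
    (pullMod ρ i).IsMult := fun B _ _ h => hρ B (h ≫ i)

theorem mem_fixed_regular (f : Γ(G.left, ⊤)) :
    f ∈ (pullMod (regular G) i).fixedUnder (𝟙 H) ↔ Inv i f := by
  rw [mem_fixedUnder_iff]
  constructor
  · intro hf x h
    have := congrArg (ev x) (hf h)
    rwa [Category.comp_id, act_pullMod, act_regular, ev_rtr] at this
  · intro hf h
    rw [Category.comp_id, act_pullMod, act_regular]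
    exact ext_fun' fun x => by rw [ev_rtr, hf]
where
  ext_fun' {f f' : Γ(G.left, ⊤)} (h : ∀ x : P G, ev x f = ev x f') : f = f' := by
    haveI : IsReduced G.left := Groth.Agent.Lib.GrpSch.isReduced_of_smooth_field G.hom
    exact ext_points h

/-- The restriction of functions. -/
noncomputable def restr : Γ(G.left, ⊤) →ₐ[k] Γ(H.left, ⊤) :=
  { i.left.appTop.hom with
    commutes' := fun c => by
      have h := congrArg (fun f => f.hom ((Scheme.ΓSpecIso (CommRingCat.of k)).inv c))
        (congrArg Scheme.Hom.appTop (Over.w i))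
      simp only [Scheme.Hom.comp_appTop, CommRingCat.hom_comp, RingHom.comp_apply] at h
      exact h }

theorem ev_restr (x : P H) (f : Γ(G.left, ⊤)) : ev x (restr i f) = ev (x ≫ i) f := (ev_comp x i f).symm

/-- Kernels of restrictions to orbits are stable. -/
theorem isStable_ker (π : Γ(G.left, ⊤) →ₐ[k] Γ(H.left, ⊤)) (hπ : Function.Surjective π)
    (hst : ∀ (h : P H) f, π f = 0 → π (rtr (h ≫ i) f) = 0) :
    (pullMod (regular G) i).IsStable (𝟙 H) ((RingHom.ker π).restrictScalars k) := by
  haveI : IsReduced H.left := Groth.Agent.Lib.GrpSch.isReduced_of_smooth_field H.hom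
  intro B _ _ h f hf
  rw [Category.comp_id]
  have key : π.toLinearMap.baseChange Γ(H.left, ⊤)
      ((pullMod (regular G) i).ρ Γ(H.left, ⊤) (univPt H) ((1 : Γ(H.left, ⊤)) ⊗ₜ f)) = 0 := by
    refine eq_of_points fun x => ?_
    rw [VecGrp.baseChange_natural, map_zero, Wmap_univ, act_pullMod, act_regular, LinearMap.baseChange_tmul]
    show (1 : k) ⊗ₜ[k] π (rtr (x ≫ i) f) = 0
    rw [hst x f (RingHom.mem_ker.mp hf), TensorProduct.tmul_zero]
  have h2 := congrArg (VecGrp.Wmap (evB h)) key
  rw [VecGrp.baseChange_natural, map_zero, (pullMod (regular G) i).naturality, VecGrp.Wmap_tmul, map_one,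
    eq_ptMap_univ] at h2
  have hex : Function.Exact (((RingHom.ker π).restrictScalars k).subtype) π.toLinearMap := fun x => by
    constructor
    · intro hx; exact ⟨⟨x, RingHom.mem_ker.mpr hx⟩, rfl⟩
    · rintro ⟨y, rfl⟩
      show π y.1 = 0
      exact RingHom.mem_ker.mp y.2
  obtain ⟨y, hy⟩ := ((lTensor_exact B hex hπ) _).mp h2
  rw [← hy]
  clear hy
  induction y using TensorProduct.induction_on with
  | zero => simp
  | tmul b z => exact Submodule.tmul_mem_baseChange_of_mem b z.2
  | add p q hp hq => rw [map_add]; exact Submodule.add_mem _ hp hq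

/-- Reductive subgroups are observable. -/
theorem observable_of_reductive [IsClosedImmersion i.left] (hH : VecGrp.IsReductiveGrp k H)
    (hsep : AGF.ReductiveQuotSeparates k) : AGF.IsObservableIn k i := by
  haveI : IsReduced G.left := Groth.Agent.Lib.GrpSch.isReduced_of_smooth_field G.hom
  haveI : IsReduced H.left := Groth.Agent.Lib.GrpSch.isReduced_of_smooth_field H.hom
  refine (isObservableIn_iff i).mpr fun g hg => ?_
  by_contra hne
  haveI : Algebra.FiniteType k Γ(G.left, ⊤) := RInv.finiteType_Γ (G := G)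
  let π := restr i
  have hπ : Function.Surjective π := (IsClosedImmersion.isAffine_surjective_of_isAffine i.left).2
  let π₂ := π.comp (ltr g)
  have hπ₂ : Function.Surjective π₂ := hπ.comp fun f => ⟨ltr g⁻¹ f, ext_points fun x => by
    show ev x (ltr g (ltr g⁻¹ f)) = _
    rw [ev_ltr, ev_ltr, ← _root_.mul_assoc, inv_mul_cancel, _root_.one_mul]⟩
  have hrad : ∀ q : Γ(G.left, ⊤) →ₐ[k] Γ(H.left, ⊤), (RingHom.ker q).IsRadical := fun q a ⟨n, hn⟩ =>
    RingHom.mem_ker.mpr (IsReduced.eq_zero _ ⟨n, by rw [← map_pow]; exact RingHom.mem_ker.mp hn⟩)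
  have h1 : ∀ (h : P H) f, π f = 0 → π (rtr (h ≫ i) f) = 0 := fun h f hf => ext_points fun x => by
    rw [ev_restr, ev_rtr, ← MonObj.mul_comp, ← ev_restr, map_zero]
    exact (congrArg _ hf).trans (map_zero _)
  have h2 : ∀ (h : P H) f, π₂ f = 0 → π₂ (rtr (h ≫ i) f) = 0 := fun h f hf => ext_points fun x => by
    show ev x (π (ltr g (rtr (h ≫ i) f))) = _
    rw [ev_restr, ev_ltr, ev_rtr, _root_.mul_assoc, ← MonObj.mul_comp, ← ev_ltr, ← ev_restr]
    exact (congrArg (ev (x * h)) hf).trans (by rw [map_zero, map_zero])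
  have htop : RingHom.ker π ⊔ RingHom.ker π₂ = ⊤ := by
    by_contra hsup
    obtain ⟨m, hm, hle⟩ := Ideal.exists_le_maximal _ hsup
    haveI := hm
    obtain ⟨x, hx⟩ := exists_ev_ker' m
    have hx' : ∀ f, f ∈ RingHom.ker π ⊔ RingHom.ker π₂ → ev x f = 0 := fun f hf =>
      RingHom.mem_ker.mp (hx ▸ hle hf)
    obtain ⟨a, ha⟩ := mem_of_vanish i (g := x) fun f hf => hx' f (Ideal.mem_sup_left
      (RingHom.mem_ker.mpr (ext_points fun y => by rw [ev_restr, map_zero, hf])))
    obtain ⟨b, hb⟩ := mem_of_vanish i (g := g⁻¹ * x) fun f hf => by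
      rw [← ev_ltr]
      exact hx' _ (Ideal.mem_sup_right (RingHom.mem_ker.mpr (ext_points fun y => by
        show ev y (π (ltr g (ltr g⁻¹ f))) = _
        rw [ev_restr, ev_ltr, ev_ltr, ← _root_.mul_assoc, inv_mul_cancel, _root_.one_mul, map_zero, hf])))
    exact hne ⟨a * b⁻¹, by rw [MonObj.mul_comp, GrpObj.inv_comp, ha, hb]; group⟩
  have hsep' := hsep H hH Γ(G.left, ⊤) (pullMod (regular G) i) (pullMod_isMult i regular_isMult) inferInstance
    _ _ (hrad π) (hrad π₂) (isStable_ker i π hπ h1) (isStable_ker i π₂ hπ₂ h2) htop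
  rw [Ideal.eq_top_iff_one] at hsep'
  obtain ⟨p, hp, q, hq, hpq⟩ := Submodule.mem_sup.mp hsep'
  have hev := hg p.1 ((mem_fixed_regular i p.1).mp p.2) 1
  rw [_root_.one_mul] at hev
  have hp1 : ev (1 : P G) p.1 = 0 := by
    have h0 : ev (1 : P H) (restr i p.1) = 0 :=
      (congrArg (ev (1 : P H)) (RingHom.mem_ker.mp (Ideal.mem_comap.mp hp))).trans (map_zero _)
    rwa [ev_restr, MonObj.one_comp] at h0
  have hq1 : ev g q.1 = 0 := by
    have h0 : ev (1 : P H) (restr i (ltr g q.1)) = 0 :=
      (congrArg (ev (1 : P H)) (RingHom.mem_ker.mp (Ideal.mem_comap.mp hq))).trans (map_zero _)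
    rwa [ev_restr, ev_ltr, MonObj.one_comp, _root_.mul_one] at h0
  have := congrArg (fun r => ev g r.1) hpq
  simp only [AddMemClass.coe_add, map_add, hev, hp1, hq1, add_zero, OneMemClass.coe_one, map_one] at this
  exact zero_ne_one this

/-- Finite generation of the invariants of a reductive subgroup. -/
theorem fg_of_reductive (hH : VecGrp.IsReductiveGrp k H) (thmA : VecGrp.ReductiveInvariantsFG k) :
    AGF.SubringFGOver k G (AGF.rTransInv i) := by
  classical
  obtain ⟨s, hs, hadj⟩ := thmA H hH Γ(G.left, ⊤) (pullMod (regular G) i) (pullMod_isMult i regular_isMult)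
    (RInv.finiteType_Γ (G := G))
  refine ⟨s, fun f hf => (isRTransInv_iff i f).mpr ((mem_fixed_regular i f).mp (hs hf)), fun f hf => ?_⟩
  have h := hadj ((mem_fixed_regular i f).mpr ((isRTransInv_iff i f).mp hf))
  rw [SetLike.mem_coe, Algebra.mem_adjoin_iff] at h
  exact h

end Groth.Agent.H1.Obs
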