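import Groth.Agent.H1.Obs.QuasiAffine
import Groth.Agent.H1.Obs.ReductiveObs

/-!
# Quotients by subgroups with reductive identity component are affine
-/

universe u

open CategoryTheory Limits MonoidalCategory CartesianMonoidalCategory MonObj GrpObj AlgebraicGeometry
open scoped TensorProduct

namespace Groth.Agent.H1.Obs

set_option linter.style.haveILetI false
set_option linter.unusedSectionVars false

open Groth.Agent.Lib.RedPts Groth.Agent.Lib.RedPts.Points Classical.Scheme' Groth.Agent.H1.RInv Groth.Agent.Lib.GrpQ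

attribute [local instance] baseAlgebra

variable {k : Type u} [Field k] {G H X : Over (Spec (CommRingCat.of k))} [GrpObj G] [GrpObj H]

/-- Functions pull back injectively along flat surjections. -/
theorem appTop_injective {Y Z : Scheme.{u}} (q : Y ⟶ Z) [Flat q] [Surjective q] :
    Function.Injective q.appTop.hom := by
  intro f f' hff
  haveI := Flat.epi_of_flat_of_surjective q
  let e : Γ(Z, ⊤) → (CommRingCat.of (MvPolynomial PUnit.{u + 1} (ULift.{u} ℤ)) ⟶ Γ(Z, ⊤)) := fun a =>
    CommRingCat.ofHom (MvPolynomial.eval₂Hom ((Int.castRingHom _).comp ULift.ringEquiv.toRingHom) fun _ => a)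
  have h : Z.toSpecΓ ≫ Spec.map (e f) = Z.toSpecΓ ≫ Spec.map (e f') := by
    rw [← cancel_epi q, Scheme.toSpecΓ_naturality_assoc, Scheme.toSpecΓ_naturality_assoc, ← Spec.map_comp,
      ← Spec.map_comp]
    congr 2
    exact CommRingCat.hom_ext (MvPolynomial.ringHom_ext (fun c => by simp [e]) (fun j => by simp [e, hff]))
  have h2 := congrArg (fun φ => φ.appTop ((Scheme.ΓSpecIso _).inv (MvPolynomial.X PUnit.unit))) h
  simp only [Scheme.Hom.comp_appTop, Scheme.toSpecΓ_appTop, CommRingCat.comp_apply] at h2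
  simpa [← CommRingCat.comp_apply, e] using h2

variable [IsAlgClosed k] [IsAffine G.left] [Smooth G.hom] [IsAffine H.left] [Smooth H.hom]

theorem isAffine_quotient {i : H ⟶ G} [IsMonHom i] [IsClosedImmersion i.left] {a : AlgGrp.Action G X}
    {o : 𝟙_ (Over (Spec (CommRingCat.of k))) ⟶ X} (hq : AGF.IsQuotient i X a o) (hH : VecGrp.IsReductiveGrp k H)
    (hsurj : AGF.ReductiveQuotSurj k) (hsep : AGF.ReductiveQuotSeparates k) : IsAffine X.left := by
  haveI hqa : X.left.IsQuasiAffine := (quotient_quasiAffine_iff hq).mp (observable_of_reductive i hH hsep)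
  have hc := Lib.Homog.isCover_of_isQuotient hq
  obtain ⟨-, hflat, hsur, hpb⟩ := hq
  haveI := hflat
  haveI := hsur
  set q := a.orbitMap o
  have hinj : Function.Injective q.left.appTop.hom := appTop_injective q.left
  have hinv : ∀ f : Γ(X.left, ⊤), Inv i (q.left.appTop f) := fun f x h => by
    rw [← ev_comp, ← ev_comp, ← Lib.Homog.comp_mulPair, Category.assoc, ← hpb.w, lift_fst_assoc]
  have hdesc : ∀ f : Γ(G.left, ⊤), Inv i f → ∃ b, q.left.appTop b = f := by
    intro f hf
    let B := MvPolynomial PUnit.{u + 1} k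
    let ψ : B →ₐ[k] Γ(G.left, ⊤) := MvPolynomial.aeval fun _ => f
    haveI : IsAffine (VecGrp.pt k B).left := inferInstanceAs (IsAffine (Spec (CommRingCat.of B)))
    let φ : G ⟶ VecGrp.pt k B := Over.homMk (G.left.toSpecΓ ≫ Spec.map (CommRingCat.ofHom ψ.toRingHom)) (by
      show (G.left.toSpecΓ ≫ Spec.map _) ≫ Spec.map (CommRingCat.ofHom (algebraMap k B)) = G.hom
      rw [Category.assoc, ← Spec.map_comp,
        show CommRingCat.ofHom (algebraMap k B) ≫ CommRingCat.ofHom ψ.toRingHom =
          (Scheme.ΓSpecIso (CommRingCat.of k)).inv ≫ G.hom.appTop from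
          CommRingCat.hom_ext (RingHom.ext fun c => ψ.commutes c),
        Spec.map_comp, ← Scheme.toSpecΓ_naturality_assoc, toSpecΓ_SpecMap_ΓSpecIso_inv, Category.comp_id])
    have hφ : ∀ b : B, φ.left.appTop ((Scheme.ΓSpecIso (CommRingCat.of B)).inv b) = ψ b := fun b => by
      show (G.left.toSpecΓ ≫ Spec.map (CommRingCat.ofHom ψ.toRingHom)).appTop ((Scheme.ΓSpecIso (CommRingCat.of B)).inv b) = _
      rw [Scheme.Hom.comp_appTop, Scheme.toSpecΓ_appTop, ← CommRingCat.comp_apply, Scheme.ΓSpecIso_naturality,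
        Iso.inv_hom_id_assoc]
      rfl
    have hinv' : ((G ◁ i) ≫ μ[G]) ≫ φ = fst G H ≫ φ := by
      refine Over.OverMorphism.ext (ext_of_isAffine (CommRingCat.hom_ext (RingHom.ext fun z => ?_)))
      obtain ⟨b, rfl⟩ := (Scheme.ΓSpecIso (CommRingCat.of B)).commRingCatIsoToRingEquiv.symm.surjective z
      change ((G ◁ i) ≫ μ[G]).left.appTop (φ.left.appTop ((Scheme.ΓSpecIso (CommRingCat.of B)).inv b)) =
        (fst G H).left.appTop (φ.left.appTop ((Scheme.ΓSpecIso (CommRingCat.of B)).inv b))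
      rw [hφ]
      refine (isRTransInv_iff i _).mpr fun x h => ?_
      induction b using MvPolynomial.induction_on with
      | C c => rw [← MvPolynomial.algebraMap_eq, AlgHom.commutes, ev_const, ev_const]
      | add p q hp hq => simp only [map_add, hp, hq]
      | mul_X p j hp => simp only [map_mul, hp, show ψ (MvPolynomial.X j) = f from MvPolynomial.aeval_X _ j, hf x h]
    obtain ⟨F, hF⟩ := exists_desc hc φ fun Z x y e => by
      obtain ⟨h, rfl⟩ := Lib.Homog.exists_rel hpb x y e
      conv_rhs => rw [← Lib.Homog.comp_mulPair, Category.assoc, hinv', lift_fst_assoc]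
    refine ⟨F.left.appTop ((Scheme.ΓSpecIso (CommRingCat.of B)).inv (MvPolynomial.X PUnit.unit)), ?_⟩
    rw [← CommRingCat.comp_apply, ← Scheme.Hom.comp_appTop, ← Over.comp_left, hF, hφ]
    exact MvPolynomial.aeval_X _ _
  haveI : IsReduced G.left := Groth.Agent.Lib.GrpSch.isReduced_of_smooth_field G.hom
  let ρ := pullMod (regular G) i
  let hρ := pullMod_isMult i (regular_isMult (G := G))
  let θ : Γ(X.left, ⊤) →+* ↥(ρ.fixedSubalgebra hρ (𝟙 H)) :=
    q.left.appTop.hom.codRestrict _ fun f => (mem_fixed_regular i _).mpr (hinv f)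
  have hθ : Function.Bijective θ := ⟨fun _ _ h => hinj (congrArg Subtype.val h), fun z => by
    obtain ⟨b, hb⟩ := hdesc z.1 ((mem_fixed_regular i z.1).mp z.2)
    exact ⟨b, Subtype.ext hb⟩⟩
  let e := RingEquiv.ofBijective θ hθ
  haveI : Surjective X.left.toSpecΓ := by
    refine ⟨fun y => ?_⟩
    obtain ⟨p, hp, hpq⟩ := hsurj H hH Γ(G.left, ⊤) ρ hρ (RInv.finiteType_Γ (G := G))
      (y.asIdeal.comap e.symm.toRingHom) (y.isPrime.comap _)
    obtain ⟨z, hz⟩ := G.left.toSpecΓ.surjective ⟨p, hp⟩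
    refine ⟨q.left z, ?_⟩
    rw [← Scheme.Hom.comp_apply, Scheme.toSpecΓ_naturality, Scheme.Hom.comp_apply, hz]
    refine PrimeSpectrum.ext (Ideal.ext fun f => ?_)
    show q.left.appTop f ∈ p ↔ f ∈ y.asIdeal
    have h := SetLike.ext_iff.mp hpq (e f)
    exact h.trans (iff_of_eq (congrArg (· ∈ y.asIdeal) (e.symm_apply_apply f)))
  haveI : IsIso X.left.toSpecΓ := IsOpenImmersion.isIso X.left.toSpecΓ
  exact IsAffine.of_isIso X.left.toSpecΓ

end Groth.Agent.H1.Obs
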