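import Groth.Agent.H1.Obs.Apply
import Groth.Agent.H1.Obs.Solvable
import Groth.Agent.H1.Classical.CharRadScheme

/-!
# Observability and radicals
-/

universe u

open CategoryTheory Limits MonoidalCategory CartesianMonoidalCategory MonObj GrpObj AlgebraicGeometry
open scoped TensorProduct

namespace Groth.Agent.H1.Obs

set_option linter.style.haveILetI false
set_option linter.unusedSectionVars false

open Groth.Agent.Lib.RedPts Groth.Agent.Lib.RedPts.Points Classical.Scheme' Groth.Agent.H1.RInv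
  Groth.Agent.H1.Classical.RadU

attribute [local instance] baseAlgebra

variable {k : Type u} [Field k] [IsAlgClosed k] {G H N : Over (Spec (CommRingCat.of k))} [GrpObj G] [GrpObj H]
  [GrpObj N] [IsAffine G.left] [Smooth G.hom] [IsAffine H.left] [Smooth H.hom] [IsAffine N.left] [Smooth N.hom]

/-- Normal subgroups are observable. -/
theorem observable_of_normal (i : N ⟶ G) [IsMonHom i] [IsClosedImmersion i.left] (hn : IsNormalPts i) :
    AGF.IsObservableIn k i := by
  classical
  refine observable_of_charCrit i fun χ hχ hwt => ?_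
  obtain ⟨V, _, _, _, ρ, v, hv0, hv⟩ := exists_vector_of_isWt i χ hwt
  have hv' := (semi_iff ρ i χ v).mp hv
  let U : Submodule k V := Submodule.span k (Set.range fun y : P G => act ρ y v)
  have hvU : v ∈ U := Submodule.subset_span ⟨1, act_one ρ v⟩
  obtain ⟨t, htsub, hvt, htop, hli⟩ := exists_linearIndepOn_id_extension
    (K := k) (s := ({v} : Set V)) (t := insert v (Set.range fun y : P G => act ρ y v))
    (LinearIndepOn.singleton (R := k) (v := id) hv0) (Set.singleton_subset_iff.mpr (Set.mem_insert _ _))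
  obtain ⟨l, hl⟩ : ∃ l : Module.Dual k V, ∀ x ∈ t, l x = if x = v then 1 else 0 := by
    let b := Module.Basis.extend hli
    refine ⟨b.constr k fun x => if (x : V) = v then 1 else 0, fun x hx => ?_⟩
    have hxb : b ⟨x, hli.subset_extend (Set.subset_univ _) hx⟩ = x := Module.Basis.extend_apply_self _ _
    conv_lhs => rw [← hxb]
    rw [Module.Basis.constr_basis]
  have hkey : ∀ (h : P N), ∀ x ∈ Submodule.span k t, l (act ρ (h ≫ i) x) = ev h (Red.gmFn χ) * l x := by
    intro h x hx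
    induction hx using Submodule.span_induction with
    | mem x hx =>
      by_cases hxv : x = v
      · rw [hxv, hv' h, map_smul, smul_eq_mul]
      · rcases htsub hx with rfl | ⟨y, rfl⟩
        · exact absurd rfl hxv
        · obtain ⟨h', hh'⟩ := hn y⁻¹ h
          have hy : act ρ (h ≫ i) (act ρ y v) = ev h' (Red.gmFn χ) • act ρ y v := by
            rw [← act_mul, show (h ≫ i) * y = y * (h' ≫ i) by rw [← hh']; group, act_mul, hv' h', map_smul]
          rw [hy, map_smul, hl _ hx, if_neg hxv, smul_zero, mul_zero]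
    | zero => simp
    | add x y _ _ hx hy => rw [map_add, map_add, hx, hy, map_add, mul_add]
    | smul c x _ hx => rw [map_smul, map_smul, hx, map_smul]; simp only [smul_eq_mul]; ring
  have hUt : U ≤ Submodule.span k t := Submodule.span_le.mpr fun x hx => htop (Set.mem_insert_of_mem _ hx)
  refine ⟨ι[G].left.appTop (coef ρ l v), fun h0 => one_ne_zero (α := k) ?_, fun x h => ?_⟩
  · have := congrArg (ev (1 : P G)) h0
    rwa [map_zero, ← ev_comp, ← Hom.inv_def, inv_one, ev_coef, act_one, hl v (hvt rfl), if_pos rfl] at this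
  · show ev (x * (h ≫ i)) _ = ev h (Red.gmFn χ⁻¹) * ev x _
    rw [← ev_comp, ← ev_comp, ← Hom.inv_def, ← Hom.inv_def, _root_.mul_inv_rev, ev_coef, ev_coef, act_mul,
      ← GrpObj.inv_comp, hkey _ _ (hUt (Submodule.subset_span ⟨_, rfl⟩)), ev_gmFn_inv]
    refine congrArg₂ (· * ·) (eq_inv_of_mul_eq_one_left ?_) rfl
    rw [← ev_gmFn_mul, inv_mul_cancel, ev_gmFn_one]

/-- A connected group whose radical is observable is observable. -/
theorem charCrit_of_radical [ConnectedSpace H.left] (i : H ⟶ G) [IsMonHom i] [IsClosedImmersion i.left]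
    {R : Over (Spec (CommRingCat.of k))} [GrpObj R] [IsAffine R.left] [Smooth R.hom] (r : R ⟶ H) [IsMonHom r]
    [IsClosedImmersion r.left] (hn : IsNormalPts r)
    (hmax : ∀ (W : Over (Spec (CommRingCat.of k))) [GrpObj W] [IsAffine W.left] [Smooth W.hom] [ConnectedSpace W.left]
      (f : W ⟶ H) [IsMonHom f] [IsClosedImmersion f.left], IsNormalPts f → Red.IsSolvableGrp W → ∃ f', f' ≫ r = f)
    (hR : CharCrit (r ≫ i)) : CharCrit i := by
  classical
  intro χ hχ hwt
  haveI := hχ
  obtain ⟨f₀, hf₀, hw₀⟩ := hwt.exists_ne_one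
  have hwR : IsWt (r ≫ i) fun w => ev w (Red.gmFn (r ≫ χ)) := ⟨f₀, fun h => hf₀ (by rw [h, map_zero]), fun x w => by
    show ev (x * (w ≫ r ≫ i)) f₀ = ev w (Red.gmFn (r ≫ χ)) * ev x f₀
    rw [← Category.assoc, hw₀, Lib.RedPts.Gm.gmFn_comp, ← ev_comp]⟩
  obtain ⟨f₁, hf₁, hw₁⟩ := (hR (r ≫ χ) inferInstance hwR).exists_ne_one
  have hw₁' : ∀ (x : P G) (w : P R), ev (x * (w ≫ r ≫ i)) f₁ = (ev (w ≫ r) (Red.gmFn χ))⁻¹ * ev x f₁ := fun x w => by
    rw [hw₁ x w]
    show ev w (Red.gmFn (r ≫ χ)⁻¹) * _ = _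
    rw [ev_gmFn_inv, Lib.RedPts.Gm.gmFn_comp, ← ev_comp]
  obtain ⟨W, _, hs, hW⟩ := exists_stable {f₁}
  let V : Submodule k Γ(G.left, ⊤) := Submodule.span k (Set.range fun h : P H => rtr (h ≫ i) f₁)
  have hVW : V ≤ W := Submodule.span_le.mpr (by rintro _ ⟨h, rfl⟩; exact hW _ _ (hs (Finset.mem_singleton_self f₁)))
  haveI : FiniteDimensional k V := Submodule.finiteDimensional_of_le hVW
  have hVst : ∀ (h : P H), ∀ f ∈ V, rtr (h ≫ i) f ∈ V := fun h =>
    Submodule.span_le (p := V.comap (rtr (h ≫ i)).toLinearMap).mpr (by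
      rintro _ ⟨h', rfl⟩
      exact Submodule.subset_span ⟨h * h', ext_fun fun x => by
        show ev x (rtr ((h * h') ≫ i) f₁) = ev x (rtr (h ≫ i) (rtr (h' ≫ i) f₁))
        rw [ev_rtr, ev_rtr, ev_rtr, MonObj.mul_comp, _root_.mul_assoc]⟩)
  have hVR : ∀ (w : P R), ∀ f ∈ V, ∀ x, ev (x * (w ≫ r ≫ i)) f = (ev (w ≫ r) (Red.gmFn χ))⁻¹ * ev x f := by
    intro w f hf x
    induction hf using Submodule.span_induction with
    | mem f hf =>
      obtain ⟨h, rfl⟩ := hf
      obtain ⟨w', hw'⟩ := hn h⁻¹ w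
      rw [ev_rtr, ev_rtr, _root_.mul_assoc, show (w ≫ r ≫ i) * (h ≫ i) = (h ≫ i) * (w' ≫ r ≫ i) by
        rw [← Category.assoc, ← Category.assoc w', ← MonObj.mul_comp, ← MonObj.mul_comp, ← hw']
        congr 1
        group, ← _root_.mul_assoc, hw₁']
      refine congrArg (· * _) (congrArg (·⁻¹) ?_)
      rw [← hw', _root_.inv_inv, ev_gmFn_mul, ev_gmFn_mul, mul_comm (ev h⁻¹ _), _root_.mul_assoc, ← ev_gmFn_mul,
        inv_mul_cancel, ev_gmFn_one, _root_.mul_one]
    | zero => simp
    | add a b _ _ ha hb => rw [map_add, map_add, ha, hb, mul_add]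
    | smul c a _ ha => rw [Algebra.smul_def, map_mul, map_mul, ev_const, ev_const, ha]; ring
  let b := Module.finBasis k V
  let d := Module.finrank k V
  let v : Fin d → Γ(G.left, ⊤) := fun j => (b j : Γ(G.left, ⊤))
  obtain ⟨L, hL⟩ := exists_minor_ne v (b.linearIndependent.map' V.subtype V.ker_subtype)
  have hd : d ≠ 0 := fun h0 => by
    haveI := Module.finrank_zero_iff (R := k) (M := V) |>.mp h0
    refine hf₁ ?_
    have hmem : f₁ ∈ V := Submodule.subset_span ⟨1, ext_fun fun x => by rw [ev_rtr, MonObj.one_comp, _root_.mul_one]⟩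
    rw [show f₁ = 0 from congrArg Subtype.val (Subsingleton.elim (⟨f₁, hmem⟩ : V) 0), map_zero]
  let M : P H → Matrix (Fin d) (Fin d) k := fun h => Matrix.of fun j m => b.repr ⟨_, hVst h _ (b j).2⟩ m
  have hmin : ∀ (h : P H) (x : P G), ev (x * (h ≫ i)) (minor v L) = (M h).det * ev x (minor v L) := fun h x => by
    rw [ev_minor_mul, ← minor_comb]
    refine congrArg (fun w => ev x (minor w L)) (funext fun j => ?_)
    have := congrArg Subtype.val (b.sum_repr ⟨_, hVst h _ (b j).2⟩)
    rw [Submodule.coe_sum] at this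
    exact this.symm
  have hdet : ∀ h, (M h).det = ev (h ≫ i) (minor v L) / ev (1 : P G) (minor v L) := fun h => by
    have := hmin h 1
    rw [_root_.one_mul] at this
    rw [this, mul_div_assoc, div_self hL, _root_.mul_one]
  obtain ⟨δ, hδm, hδ⟩ := exists_char (algebraMap k Γ(H.left, ⊤) (ev (1 : P G) (minor v L))⁻¹ *
      i.left.appTop (minor v L))
    (by rw [map_mul, ev_const, ← ev_comp, MonObj.one_comp, inv_mul_cancel₀ hL])
    (fun x y => by
      simp only [map_mul, ev_const, ← ev_comp, MonObj.mul_comp]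
      rw [hmin y, hdet y]
      ring)
  haveI := hδm
  have hδv : ∀ h, ev h (Red.gmFn δ) = (M h).det := fun h => by
    rw [hδ, map_mul, ev_const, ← ev_comp, hdet, div_eq_inv_mul]
  have hR' : ∀ w : P R, (M (w ≫ r)).det = (ev (w ≫ r) (Red.gmFn χ))⁻¹ ^ d := fun w => by
    have hMw : M (w ≫ r) = (ev (w ≫ r) (Red.gmFn χ))⁻¹ • (1 : Matrix (Fin d) (Fin d) k) := by
      ext j m
      have hx : (⟨_, hVst (w ≫ r) _ (b j).2⟩ : V) = (ev (w ≫ r) (Red.gmFn χ))⁻¹ • b j := Subtype.ext (ext_fun fun x => by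
        show ev x (rtr ((w ≫ r) ≫ i) (b j : Γ(G.left, ⊤))) = _
        rw [ev_rtr, Category.assoc, hVR w _ (b j).2, Submodule.coe_smul, Algebra.smul_def, map_mul, ev_const])
      show b.repr _ m = _
      rw [hx, map_smul, Module.Basis.repr_self, Finsupp.smul_apply, Matrix.smul_apply, Matrix.one_apply]
      simp [Finsupp.single_apply]
    rw [hMw, Matrix.det_smul, Matrix.det_one, _root_.mul_one, Fintype.card_fin]
  -- the product character
  have hpow : ∀ (n : ℕ) (h : P H), ev h (Red.gmFn (χ ^ n)) = ev h (Red.gmFn χ) ^ n := fun n h => by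
    rw [Lib.RedPts.Gm.gmFn_pow, map_pow]
  have hmulv : ∀ h : P H, ev h (Red.gmFn (δ * χ ^ d)) = (M h).det * ev h (Red.gmFn χ) ^ d := fun h => by
    rw [Lib.RedPts.Gm.gmFn_mul, map_mul, hδv, hpow]
  obtain ⟨ψ, hψm, hψ⟩ := exists_char (Red.gmFn (δ * χ ^ d))
    (by rw [hmulv, ← hδv, ev_gmFn_one, ev_gmFn_one, one_pow, _root_.mul_one])
    (fun x y => by
      rw [hmulv, hmulv, hmulv, ← hδv, ← hδv, ← hδv, ev_gmFn_mul δ, ev_gmFn_mul χ]
      ring)
  haveI := hψm
  have hψ1 : ψ = 1 := Classical.CharRad.scheme_char_eq_one ψ fun W _ _ _ _ f _ _ hfn hfs => by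
    obtain ⟨f', rfl⟩ := hmax W f hfn hfs
    refine Classical.CharRad.char_ext fun x => ?_
    rw [Lib.RedPts.Gm.gmFn_comp, ← ev_comp, hψ, hmulv, ← Category.assoc, hR', ← mul_pow,
      inv_mul_cancel₀ (ev_gmFn_ne χ _), one_pow]
  have hone : ∀ h : P H, (M h).det * ev h (Red.gmFn χ) ^ d = 1 := fun h => by
    rw [← hmulv, ← hψ, hψ1, Lib.RedPts.Gm.gmFn_one, map_one]
  refine ⟨f₀ ^ (d - 1) * minor v L, fun h0 => ?_, fun x h => ?_⟩
  · have := congrArg (ev (1 : P G)) h0
    rw [map_mul, map_pow, map_zero] at this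
    exact (mul_ne_zero (pow_ne_zero _ hf₀) hL) this
  · show ev (x * (h ≫ i)) _ = ev h (Red.gmFn χ⁻¹) * ev x _
    rw [map_mul, map_pow, map_mul, map_pow, hw₀, hmin, ev_gmFn_inv, mul_pow]
    have hc := ev_gmFn_ne χ h
    have h1 := hone h
    have hp : ev h (Red.gmFn χ) ^ (d - 1) * ev h (Red.gmFn χ) = ev h (Red.gmFn χ) ^ d := by
      rw [← pow_succ, Nat.sub_add_cancel (Nat.pos_of_ne_zero hd)]
    rw [← hp] at h1
    field_simp
    linear_combination (ev x f₀ ^ (d - 1) * ev x (minor v L)) * h1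

open Groth.Agent.H63.GrpIdentity in
/-- Observability is decided on the radical. -/
theorem observable_iff_radical (i : H ⟶ G) [IsMonHom i] [IsClosedImmersion i.left]
    {R : Over (Spec (CommRingCat.of k))} [GrpObj R] [Smooth R.hom] [ConnectedSpace R.left] (r : R ⟶ H) [IsMonHom r]
    [IsClosedImmersion r.left] (hn : IsNormalPts r) (hsol : Red.IsSolvableGrp R)
    (hmax : ∀ (R' : Over (Spec (CommRingCat.of k))) [GrpObj R'] (r' : R' ⟶ H) [IsMonHom r'], IsClosedImmersion r'.left →
      Smooth R'.hom → ConnectedSpace R'.left → AlgGrp.IsNormalHom r' → Red.IsSolvableGrp R' → ∃ f : R' ⟶ R, f ≫ r = r') :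
    AGF.IsObservableIn k i ↔ AGF.IsObservableIn k (r ≫ i) := by
  haveI : IsAffine R.left := isAffine_of_isAffineHom r.left
  haveI : IsClosedImmersion (r ≫ i).left := by rw [Over.comp_left]; infer_instance
  refine ⟨fun h => observable_comp i r (observable_of_normal r hn) h, fun h => ?_⟩
  obtain ⟨hεo, hεc, hεs, hεconn⟩ := identity_props H
  letI := idGrp H
  haveI := isMonHom_idHom H
  haveI : IsAffine (idObj H).left := isAffine_of_isAffineHom (idHom H).left
  haveI : Mono (idHom H) := Over.mono_of_mono_left _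
  obtain ⟨r₀, hr₀⟩ := exists_lift_open (idHom H) r
  haveI : IsMonHom (r₀ ≫ idHom H) := hr₀.symm ▸ inferInstance
  haveI : IsMonHom r₀ := Classical.CentralizerBorel.isMonHom_of_mono_comp r₀ (idHom H)
  haveI : IsClosedImmersion (r₀.left ≫ (idHom H).left) := by rw [← Over.comp_left, hr₀]; infer_instance
  haveI : IsClosedImmersion r₀.left := IsClosedImmersion.of_comp r₀.left (idHom H).left
  haveI : IsClosedImmersion (idHom H ≫ i).left := by rw [Over.comp_left]; infer_instance
  obtain ⟨R₁, _, r₁, h1, h2, h3, h4, h5, h6, hmax₁⟩ := exists_radical (idObj H)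
  haveI := h1
  haveI := h2
  haveI := h3
  haveI := h4
  haveI : IsAffine R₁.left := isAffine_of_isAffineHom r₁.left
  haveI : IsClosedImmersion (r₁ ≫ idHom H).left := by rw [Over.comp_left]; infer_instance
  haveI : IsClosedImmersion (𝟙 H : H ⟶ H).left := by rw [Over.id_left]; infer_instance
  have hnid : AlgGrp.IsNormalHom (𝟙 H) := fun T g n => ⟨g * (n ≫ 𝟙 H) * g⁻¹, (Category.comp_id _).symm⟩
  have hn₁ := normalPts_char (𝟙 H) hnid (idHom H) r₁ (isNormalPts_of_isNormalHom h6) fun f _ _ hf => hmax₁ R₁ f hf h5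
  rw [Category.comp_id] at hn₁
  obtain ⟨φ, hφ⟩ := hmax R₁ (r₁ ≫ idHom H) inferInstance h3 h4 (isNormalHom_of_pts _ hn₁) h5
  refine observable_of_open_comp (idHom H) i (observable_of_charCrit _ (charCrit_of_radical (idHom H ≫ i) r₀
    (isNormalPts_of_mono (idHom H) (hr₀.symm ▸ hn)) (fun W _ _ _ _ f _ _ hf hW => ?_) ?_))
  · obtain ⟨f', hf'⟩ := hmax₁ W f hf hW
    refine ⟨f' ≫ φ, ?_⟩
    rw [← cancel_mono (idHom H), Category.assoc, Category.assoc, hr₀, hφ, reassoc_of% hf']
  · exact charCrit_of_observable _ (by rwa [← Category.assoc, hr₀])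

open Groth.Agent.H63.GrpIdentity in
/-- A group with unipotent radical is observable. -/
theorem observable_of_unipotent_radical (i : H ⟶ G) [IsMonHom i] [IsClosedImmersion i.left]
    (hrad : ∀ (R : Over (Spec (CommRingCat.of k))) [GrpObj R] (r : R ⟶ H) [IsMonHom r], IsClosedImmersion r.left →
      Smooth R.hom → ConnectedSpace R.left → AlgGrp.IsNormalHom r → Red.IsSolvableGrp R → Red.HasNoSubtorus k R) :
    AGF.IsObservableIn k i := by
  obtain ⟨hεo, hεc, hεs, hεconn⟩ := identity_props H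
  letI := idGrp H
  haveI := isMonHom_idHom H
  haveI : IsAffine (idObj H).left := isAffine_of_isAffineHom (idHom H).left
  obtain ⟨R, _, r, h1, h2, h3, h4, h5, h6, hmax₁⟩ := exists_radical (idObj H)
  haveI := h1
  haveI := h2
  haveI := h3
  haveI := h4
  haveI : IsAffine R.left := isAffine_of_isAffineHom r.left
  haveI : IsClosedImmersion (r ≫ idHom H).left := by rw [Over.comp_left]; infer_instance
  haveI : IsClosedImmersion (idHom H ≫ i).left := by rw [Over.comp_left]; infer_instance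
  haveI : IsClosedImmersion (𝟙 H : H ⟶ H).left := by rw [Over.id_left]; infer_instance
  have hnid : AlgGrp.IsNormalHom (𝟙 H) := fun T g n => ⟨g * (n ≫ 𝟙 H) * g⁻¹, (Category.comp_id _).symm⟩
  have hn₁ := normalPts_char (𝟙 H) hnid (idHom H) r (isNormalPts_of_isNormalHom h6) fun f _ _ hf => hmax₁ R f hf h5
  rw [Category.comp_id] at hn₁
  have hno := Classical.Unipotent.noTorsion_of_hasNoSubtorus
    (hrad R (r ≫ idHom H) inferInstance h3 h4 (isNormalHom_of_pts _ hn₁) h5)
  refine observable_of_open_comp (idHom H) i (observable_of_charCrit _ fun χ hm hwt => ?_)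
  haveI := hm
  have h : χ = 1 := Classical.CharRad.scheme_char_eq_one χ fun W _ _ _ _ f _ _ hf hW => by
    obtain ⟨f', rfl⟩ := hmax₁ W f hf hW
    rw [Category.assoc, Classical.CharRad.char_eq_one_of_noTorsion hno (r ≫ χ), MonObj.comp_one]
  rwa [h, inv_one, ← h]

end Groth.Agent.H1.Obs
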