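import Groth.Agent.H1.Obs.ReductiveObs
import Mathlib.RingTheory.Flat.Basic

/-!
# The transfer principle: invariants of a subgroup as invariants of a tensor product
-/

universe u

open CategoryTheory Limits MonoidalCategory CartesianMonoidalCategory MonObj GrpObj AlgebraicGeometry
open scoped TensorProduct

namespace Groth.Agent.H1.Obs

set_option linter.style.haveILetI false
set_option linter.unusedSectionVars false

open Groth.Agent.Lib.RedPts Groth.Agent.Lib.RedPts.Points Classical.Scheme' Groth.Agent.H1.RInv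

attribute [local instance] baseAlgebra

variable {k : Type u} [Field k] {G : Over (Spec (CommRingCat.of k))} [GrpObj G]

section Aux

variable {A : Type u} [CommRing A] [Algebra k A] (ρ : VecGrp.GMod G A) (hρ : ρ.IsMult)

/-- A multiplicative module structure as algebra homomorphisms. -/
noncomputable def algAct {B : Type u} [CommRing B] [Algebra k B] (g : VecGrp.pt k B ⟶ G) : B ⊗[k] A →ₐ[B] B ⊗[k] A :=
  AlgHom.ofLinearMap (ρ.ρ B g).toLinearMap (hρ B g).2 (hρ B g).1

theorem algAct_apply {B : Type u} [CommRing B] [Algebra k B] (g : VecGrp.pt k B ⟶ G) (x : B ⊗[k] A) :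
    algAct ρ hρ g x = ρ.ρ B g x := rfl

theorem algAct_one {B : Type u} [CommRing B] [Algebra k B] : algAct ρ hρ (1 : VecGrp.pt k B ⟶ G) = AlgHom.id B _ :=
  AlgHom.ext fun x => by rw [algAct_apply, map_one]; rfl

theorem algAct_mul {B : Type u} [CommRing B] [Algebra k B] (g h : VecGrp.pt k B ⟶ G) :
    algAct ρ hρ (g * h) = (algAct ρ hρ g).comp (algAct ρ hρ h) :=
  AlgHom.ext fun x => by rw [algAct_apply, map_mul]; rfl

variable (B B' : Type u) [CommRing B] [Algebra k B] [CommRing B'] [Algebra k B']

/-- The map on tensors induced by a map of test algebras, as an algebra map. -/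
theorem Wmap_eq_map (φ : B →ₐ[k] B') (z : B ⊗[k] A) :
    VecGrp.Wmap φ z = Algebra.TensorProduct.map φ (AlgHom.id k A) z := by
  induction z using TensorProduct.induction_on with
  | zero => simp
  | tmul c d => rfl
  | add p q hp hq => simp only [map_add, hp, hq]

end Aux

section Tensor

variable {A C : Type u} [CommRing A] [Algebra k A] [CommRing C] [Algebra k C] (ρ : VecGrp.GMod G A) (hρ : ρ.IsMult)
  (σ : VecGrp.GMod G C) (hσ : σ.IsMult)

/-- Inclusion of the first factor after scalar extension. -/
noncomputable def inA (B : Type u) [CommRing B] [Algebra k B] : B ⊗[k] A →ₐ[B] B ⊗[k] (A ⊗[k] C) :=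
  Algebra.TensorProduct.map (AlgHom.id B B) Algebra.TensorProduct.includeLeft

/-- Inclusion of the second factor after scalar extension. -/
noncomputable def inC (B : Type u) [CommRing B] [Algebra k B] : B ⊗[k] C →ₐ[B] B ⊗[k] (A ⊗[k] C) :=
  Algebra.TensorProduct.map (AlgHom.id B B) Algebra.TensorProduct.includeRight

/-- The diagonal action. -/
noncomputable def tensorHom {B : Type u} [CommRing B] [Algebra k B] (g : VecGrp.pt k B ⟶ G) :
    B ⊗[k] (A ⊗[k] C) →ₐ[B] B ⊗[k] (A ⊗[k] C) :=
  Algebra.TensorProduct.lift (Algebra.ofId B _)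
    (Algebra.TensorProduct.lift ((((inA B).comp (algAct ρ hρ g)).restrictScalars k).comp Algebra.TensorProduct.includeRight)
      ((((inC B).comp (algAct σ hσ g)).restrictScalars k).comp Algebra.TensorProduct.includeRight)
      fun _ _ => Commute.all _ _)
    fun _ _ => Commute.all _ _

theorem tensorHom_inA {B : Type u} [CommRing B] [Algebra k B] (g : VecGrp.pt k B ⟶ G) :
    (tensorHom ρ hρ σ hσ g).comp (inA B) = (inA B).comp (algAct ρ hρ g) :=
  Algebra.TensorProduct.ext (AlgHom.ext fun b => (AlgHom.commutes _ b).trans (AlgHom.commutes _ b).symm)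
    (AlgHom.ext fun a => by simp [tensorHom, inA, Algebra.TensorProduct.lift_tmul, ← Algebra.TensorProduct.one_def])

theorem tensorHom_inC {B : Type u} [CommRing B] [Algebra k B] (g : VecGrp.pt k B ⟶ G) :
    (tensorHom ρ hρ σ hσ g).comp (inC B) = (inC B).comp (algAct σ hσ g) :=
  Algebra.TensorProduct.ext (AlgHom.ext fun b => (AlgHom.commutes _ b).trans (AlgHom.commutes _ b).symm)
    (AlgHom.ext fun a => by simp [tensorHom, inC, Algebra.TensorProduct.lift_tmul, ← Algebra.TensorProduct.one_def])

theorem tensorHom_tmul {B : Type u} [CommRing B] [Algebra k B] (g : VecGrp.pt k B ⟶ G) (a : A) (c : C) :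
    tensorHom ρ hρ σ hσ g ((1 : B) ⊗ₜ (a ⊗ₜ c)) =
      inA B (ρ.ρ B g ((1 : B) ⊗ₜ a)) * inC B (σ.ρ B g ((1 : B) ⊗ₜ c)) := by
  simp [tensorHom, Algebra.TensorProduct.lift_tmul, algAct_apply, ← Algebra.TensorProduct.one_def]

theorem hom_ext {B : Type u} [CommRing B] [Algebra k B] {D : Type u} [CommRing D] [Algebra B D]
    {φ ψ : B ⊗[k] (A ⊗[k] C) →ₐ[B] D} (h1 : φ.comp (inA B) = ψ.comp (inA B)) (h2 : φ.comp (inC B) = ψ.comp (inC B)) :
    φ = ψ := by
  refine AlgHom.ext fun x => ?_
  induction x using TensorProduct.induction_on with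
  | zero => simp
  | add p q hp hq => simp only [map_add, hp, hq]
  | tmul b z =>
    induction z using TensorProduct.induction_on with
    | zero => simp
    | add p q hp hq => simp only [TensorProduct.tmul_add, map_add, hp, hq]
    | tmul a c =>
      have e : b ⊗ₜ[k] (a ⊗ₜ[k] c) = inA (A := A) (C := C) B (b ⊗ₜ a) * inC B ((1 : B) ⊗ₜ c) := by
        simp [inA, inC]
      rw [e, map_mul, map_mul]
      exact congrArg₂ (· * ·) (DFunLike.congr_fun h1 (b ⊗ₜ a)) (DFunLike.congr_fun h2 ((1 : B) ⊗ₜ c))

theorem tensorHom_one {B : Type u} [CommRing B] [Algebra k B] :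
    tensorHom ρ hρ σ hσ (1 : VecGrp.pt k B ⟶ G) = AlgHom.id B _ :=
  hom_ext (by rw [tensorHom_inA, algAct_one]; rfl) (by rw [tensorHom_inC, algAct_one]; rfl)

theorem tensorHom_mul {B : Type u} [CommRing B] [Algebra k B] (g h : VecGrp.pt k B ⟶ G) :
    tensorHom ρ hρ σ hσ (g * h) = (tensorHom ρ hρ σ hσ g).comp (tensorHom ρ hρ σ hσ h) :=
  hom_ext
    (by rw [tensorHom_inA, algAct_mul, AlgHom.comp_assoc, tensorHom_inA, ← AlgHom.comp_assoc,
      ← tensorHom_inA ρ hρ σ hσ g, AlgHom.comp_assoc])
    (by rw [tensorHom_inC, algAct_mul, AlgHom.comp_assoc, tensorHom_inC, ← AlgHom.comp_assoc,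
      ← tensorHom_inC ρ hρ σ hσ g, AlgHom.comp_assoc])

/-- The tensor product of two algebras with action. -/
noncomputable def tensorMod : VecGrp.GMod G (A ⊗[k] C) where
  ρ B _ _ := (LinearMap.GeneralLinearGroup.generalLinearEquiv B _).toMonoidHom.comp
    (MonoidHom.toHomUnits
      { toFun := fun g => (tensorHom ρ hρ σ hσ g).toLinearMap
        map_one' := by rw [tensorHom_one]; rfl
        map_mul' := fun g h => by rw [tensorHom_mul]; rfl })
  naturality {B B'} _ _ _ _ φ g x := by
    show VecGrp.Wmap φ (tensorHom ρ hρ σ hσ g x) = tensorHom ρ hρ σ hσ (VecGrp.ptMap φ ≫ g) (VecGrp.Wmap φ x)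
    induction x using TensorProduct.induction_on with
    | zero => simp
    | add p q hp hq => simp only [map_add, hp, hq]
    | tmul b z =>
      induction z using TensorProduct.induction_on with
      | zero => simp
      | add p q hp hq => simp only [TensorProduct.tmul_add, map_add, hp, hq]
      | tmul a c =>
        have e : ∀ (B : Type u) [CommRing B] [Algebra k B] (b : B),
            b ⊗ₜ[k] (a ⊗ₜ[k] c) = b • ((1 : B) ⊗ₜ[k] (a ⊗ₜ[k] c)) := fun B _ _ b => by
          rw [TensorProduct.smul_tmul', smul_eq_mul, _root_.mul_one]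
        have hA : ∀ z : B ⊗[k] A, Algebra.TensorProduct.map φ (AlgHom.id k _) (inA (C := C) B z) =
            inA B' (VecGrp.Wmap φ z) := fun z => by
          induction z using TensorProduct.induction_on with
          | zero => simp
          | add p q hp hq => simp only [map_add, hp, hq]
          | tmul s t => simp [inA]
        have hC : ∀ z : B ⊗[k] C, Algebra.TensorProduct.map φ (AlgHom.id k _) (inC (A := A) B z) =
            inC B' (VecGrp.Wmap φ z) := fun z => by
          induction z using TensorProduct.induction_on with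
          | zero => simp
          | add p q hp hq => simp only [map_add, hp, hq]
          | tmul s t => simp [inC]
        rw [VecGrp.Wmap_tmul, e B b, e B' (φ b), map_smul (tensorHom ρ hρ σ hσ g), map_smul (tensorHom ρ hρ σ hσ _), VecGrp.Wmap_smul, tensorHom_tmul, tensorHom_tmul,
          Wmap_eq_map B B', map_mul, hA, hC, ρ.naturality, σ.naturality]
        simp

theorem tensorMod_isMult : (tensorMod ρ hρ σ hσ).IsMult := fun B _ _ g =>
  ⟨fun x y => map_mul (tensorHom ρ hρ σ hσ g) x y, map_one (tensorHom ρ hρ σ hσ g)⟩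

theorem act_tensorMod [IsAlgClosed k] (x : P G) (a : A) (c : C) :
    act (tensorMod ρ hρ σ hσ) x (a ⊗ₜ c) = act ρ x a ⊗ₜ act σ x c := by
  apply (TensorProduct.lid k (A ⊗[k] C)).symm.injective
  rw [TensorProduct.lid_symm_apply, TensorProduct.lid_symm_apply, ← act_apply]
  show tensorHom ρ hρ σ hσ (toPt x) _ = _
  rw [tensorHom_tmul, act_apply, act_apply]
  simp [inA, inC]

end Tensor

section Left

variable [IsAffine G.left] {B : Type u} [CommRing B] [Algebra k B]

/-- The point universal on the right translated by the inverse of a point. -/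
noncomputable def transPtL (g : VecGrp.pt k B ⟶ G) : VecGrp.pt k (B ⊗[k] Γ(G.left, ⊤)) ⟶ G :=
  (VecGrp.ptMap (Algebra.TensorProduct.includeLeft (R := k) (S := k) (A := B) (B := Γ(G.left, ⊤))) ≫ g)⁻¹ *
    (VecGrp.ptMap (Algebra.TensorProduct.includeRight (R := k) (A := B) (B := Γ(G.left, ⊤))) ≫ univPt G)

/-- Left translation of functions by a point. -/
noncomputable def transHomL (g : VecGrp.pt k B ⟶ G) : B ⊗[k] Γ(G.left, ⊤) →ₐ[B] B ⊗[k] Γ(G.left, ⊤) :=
  Algebra.TensorProduct.lift (Algebra.ofId B _) (evB (transPtL g)) fun _ _ => Commute.all _ _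

theorem transHomL_tmul (g : VecGrp.pt k B ⟶ G) (f : Γ(G.left, ⊤)) :
    transHomL g ((1 : B) ⊗ₜ f) = evB (transPtL g) f := by
  rw [transHomL, Algebra.TensorProduct.lift_tmul, map_one, _root_.one_mul]

theorem transHomL_tmul_one (g : VecGrp.pt k B ⟶ G) (b : B) :
    transHomL g (b ⊗ₜ (1 : Γ(G.left, ⊤))) = b ⊗ₜ 1 :=
  (transHomL g).commutes b

theorem transHomL_one : transHomL (1 : VecGrp.pt k B ⟶ G) = AlgHom.id B _ := by
  rw [← transHom_one]
  refine Algebra.TensorProduct.ext (AlgHom.ext fun b => by simp [transHomL_tmul_one, transHom_tmul_one])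
    (AlgHom.ext fun f => ?_)
  show transHomL 1 ((1 : B) ⊗ₜ f) = transHom 1 ((1 : B) ⊗ₜ f)
  rw [transHomL_tmul, transHom_tmul, transPtL, transPt, MonObj.comp_one, inv_one, _root_.one_mul, _root_.mul_one]

theorem transHomL_mul (g h : VecGrp.pt k B ⟶ G) : transHomL (g * h) = (transHomL g).comp (transHomL h) := by
  refine Algebra.TensorProduct.ext (AlgHom.ext fun b => by simp [transHomL_tmul_one]) (AlgHom.ext fun f => ?_)
  show transHomL (g * h) ((1 : B) ⊗ₜ f) = transHomL g (transHomL h ((1 : B) ⊗ₜ f))
  rw [transHomL_tmul, transHomL_tmul]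
  show _ = ((transHomL g).restrictScalars k) (evB (transPtL h) f)
  rw [← evB_ptMap]
  congr 2
  have h1 : ((transHomL g).restrictScalars k).comp Algebra.TensorProduct.includeRight = evB (transPtL g) :=
    AlgHom.ext (transHomL_tmul g)
  have h2 : ((transHomL g).restrictScalars k).comp
      (Algebra.TensorProduct.includeLeft (R := k) (S := k) (A := B) (B := Γ(G.left, ⊤))) =
      Algebra.TensorProduct.includeLeft := AlgHom.ext fun b => transHomL_tmul_one g b
  conv_rhs => rw [transPtL, MonObj.comp_mul, GrpObj.comp_inv, ← Category.assoc, ← ptMap_comp', h2,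
    ← Category.assoc, ← ptMap_comp', h1, eq_ptMap_univ, transPtL, ← _root_.mul_assoc, ← _root_.mul_inv_rev,
    ← MonObj.comp_mul]
  rfl

variable (G) in
/-- The left regular representation. -/
noncomputable def regularL : VecGrp.GMod G Γ(G.left, ⊤) where
  ρ B _ _ := (LinearMap.GeneralLinearGroup.generalLinearEquiv B _).toMonoidHom.comp
    (MonoidHom.toHomUnits
      { toFun := fun g => (transHomL g).toLinearMap
        map_one' := by rw [transHomL_one]; rfl
        map_mul' := fun g h => by rw [transHomL_mul]; rfl })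
  naturality {B B'} _ _ _ _ φ g x := by
    show VecGrp.Wmap φ (transHomL g x) = transHomL (VecGrp.ptMap φ ≫ g) (VecGrp.Wmap φ x)
    induction x using TensorProduct.induction_on with
    | zero => simp
    | add p q hp hq => simp only [map_add, hp, hq]
    | tmul b f =>
      rw [VecGrp.Wmap_tmul, transHomL, transHomL, Algebra.TensorProduct.lift_tmul, Algebra.TensorProduct.lift_tmul,
        Wmap_eq_map, map_mul, ← evB_ptMap]
      have e : VecGrp.ptMap (Algebra.TensorProduct.map φ (AlgHom.id k _)) ≫ transPtL g =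
          transPtL (VecGrp.ptMap φ ≫ g) := by
        rw [transPtL, transPtL, MonObj.comp_mul, GrpObj.comp_inv, ← Category.assoc, ← ptMap_comp', ← Category.assoc,
          ← ptMap_comp', ← Category.assoc (VecGrp.ptMap _) (VecGrp.ptMap φ), ← ptMap_comp']
        congr 2
        all_goals exact congrArg VecGrp.ptMap (AlgHom.ext fun z => by simp)
      rw [e]
      simp

theorem regularL_isMult : (regularL G).IsMult := fun B _ _ g =>
  ⟨fun x y => map_mul (transHomL g) x y, map_one (transHomL g)⟩

theorem act_regularL [IsAlgClosed k] [Smooth G.hom] (x : P G) (f : Γ(G.left, ⊤)) :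
    act (regularL G) x f = ltr x⁻¹ f := by
  haveI : IsReduced G.left := Groth.Agent.Lib.GrpSch.isReduced_of_smooth_field G.hom
  refine ext_points fun y => ?_
  rw [ev_ltr]
  have h : ∀ z : k ⊗[k] Γ(G.left, ⊤), ev y (TensorProduct.lid k _ z) =
      (Algebra.TensorProduct.lift (AlgHom.id k k) (evA y) (fun _ _ => Commute.all _ _)) z := fun z => by
    induction z using TensorProduct.induction_on with
    | zero => simp
    | tmul c d => simp [Algebra.smul_def, ev_const, evA_apply]
    | add p q hp hq => simp only [map_add, hp, hq]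
  show ev y (TensorProduct.lid k _ (transHomL (toPt x) ((1 : k) ⊗ₜ f))) = _
  rw [h, transHomL_tmul, ← evB_ptMap, transPtL, MonObj.comp_mul, GrpObj.comp_inv, ← Category.assoc, ← ptMap_comp',
    ← Category.assoc, ← ptMap_comp']
  rw [← evB_toPt (x⁻¹ * y) f, toPt_mul, toPt_inv]
  have e2 : (Algebra.TensorProduct.lift (AlgHom.id k k) (evA y) fun _ _ => Commute.all _ _).comp
      Algebra.TensorProduct.includeLeft = AlgHom.id k k := AlgHom.ext fun z => by simp
  have e1 : (Algebra.TensorProduct.lift (AlgHom.id k k) (evA y) fun _ _ => Commute.all _ _).comp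
      Algebra.TensorProduct.includeRight = evB (toPt y) := AlgHom.ext fun z => by simp [evA_apply, evB_toPt]
  have hid : VecGrp.ptMap (AlgHom.id k k) = 𝟙 (VecGrp.pt k k) := Over.OverMorphism.ext (Spec.map_id _)
  rw [e1, e2, eq_ptMap_univ, hid, Category.id_comp]

end Left

end Groth.Agent.H1.Obs
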