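import Groth.Agent.H1.Obs.Rep
import Groth.Agent.H1.Obs.Transfer
import Mathlib.LinearAlgebra.TensorProduct.RightExactness
import Mathlib.RingTheory.MvPolynomial.Basic

/-!
# The action on polynomial functions and invariants not vanishing at a fixed vector
-/

universe u

open CategoryTheory Limits MonoidalCategory CartesianMonoidalCategory MonObj GrpObj AlgebraicGeometry
open scoped TensorProduct

namespace Groth.Agent.H1.Obs

set_option linter.style.haveILetI false
set_option linter.unusedSectionVars false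

open Groth.Agent.Lib.RedPts Groth.Agent.Lib.RedPts.Points Classical.Scheme' Groth.Agent.H1.RInv Groth.Agent.Lib.GrpQ

attribute [local instance] baseAlgebra

variable {k : Type u} [Field k] {G : Over (Spec (CommRingCat.of k))} [GrpObj G]

/-- Stability may be checked on rational points. -/
theorem isStable_of_points [IsAlgClosed k] [IsAffine G.left] [Smooth G.hom] {M : Type u} [AddCommGroup M] [Module k M]
    (ρ : VecGrp.GMod G M) (W : Submodule k M) (hW : ∀ (x : P G), ∀ w ∈ W, act ρ x w ∈ W) :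
    ρ.IsStable (𝟙 G) W := by
  haveI : IsReduced G.left := Groth.Agent.Lib.GrpSch.isReduced_of_smooth_field G.hom
  intro B _ _ g v hv
  rw [Category.comp_id]
  have key : LinearMap.lTensor Γ(G.left, ⊤) W.mkQ (ρ.ρ _ (univPt G) ((1 : Γ(G.left, ⊤)) ⊗ₜ v)) = 0 := by
    refine eq_of_points fun x => ?_
    have hnat : ∀ w, VecGrp.Wmap (evA x) (LinearMap.lTensor Γ(G.left, ⊤) W.mkQ w) =
        LinearMap.lTensor k W.mkQ (VecGrp.Wmap (evA x) w) := fun w => by
      induction w using TensorProduct.induction_on with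
      | zero => simp
      | tmul c d => simp
      | add p q hp hq => simp only [map_add, hp, hq]
    rw [hnat, map_zero, Wmap_univ, LinearMap.lTensor_tmul, show W.mkQ (act ρ x v) = 0 from
      (Submodule.Quotient.mk_eq_zero _).mpr (hW x v hv), TensorProduct.tmul_zero]
  obtain ⟨w, hw⟩ := ((lTensor_exact Γ(G.left, ⊤) (LinearMap.exact_subtype_mkQ W)
    (Submodule.mkQ_surjective _)) _).mp key
  have h2 := congrArg (VecGrp.Wmap (evB g)) hw
  rw [ρ.naturality, VecGrp.Wmap_tmul, map_one, eq_ptMap_univ] at h2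
  rw [← h2]
  clear hw h2
  induction w using TensorProduct.induction_on with
  | zero => simp
  | tmul c d => exact Submodule.tmul_mem_baseChange_of_mem _ d.2
  | add p q hp hq => rw [map_add, map_add]; exact Submodule.add_mem _ hp hq

variable {n : ℕ} (r : RepMat.Rep G n) {B : Type u} [CommRing B] [Algebra k B]

/-- The translate of polynomial functions. -/
noncomputable def symHom (g : VecGrp.pt k B ⟶ G) :
    B ⊗[k] MvPolynomial (Fin n) k →ₐ[B] B ⊗[k] MvPolynomial (Fin n) k :=
  Algebra.TensorProduct.lift (Algebra.ofId B _)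
    (MvPolynomial.aeval fun i => ∑ j, r.val B g⁻¹ i j ⊗ₜ[k] MvPolynomial.X j)
    fun _ _ => Commute.all _ _

theorem symHom_X (g : VecGrp.pt k B ⟶ G) (i : Fin n) :
    symHom r g ((1 : B) ⊗ₜ MvPolynomial.X i) = ∑ j, r.val B g⁻¹ i j ⊗ₜ[k] MvPolynomial.X j := by
  rw [symHom, Algebra.TensorProduct.lift_tmul, map_one, _root_.one_mul, MvPolynomial.aeval_X]

theorem symHom_ext {φ ψ : B ⊗[k] MvPolynomial (Fin n) k →ₐ[B] B ⊗[k] MvPolynomial (Fin n) k}
    (h : ∀ i, φ ((1 : B) ⊗ₜ MvPolynomial.X i) = ψ ((1 : B) ⊗ₜ MvPolynomial.X i)) : φ = ψ :=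
  Algebra.TensorProduct.ext (AlgHom.ext fun b => (AlgHom.commutes _ b).trans (AlgHom.commutes _ b).symm)
    (MvPolynomial.algHom_ext h)

theorem symHom_tmul_X (g : VecGrp.pt k B ⟶ G) (b : B) (i : Fin n) :
    symHom r g (b ⊗ₜ MvPolynomial.X i) = b • ∑ j, r.val B g⁻¹ i j ⊗ₜ[k] MvPolynomial.X j := by
  rw [← symHom_X, ← map_smul, TensorProduct.smul_tmul', smul_eq_mul, _root_.mul_one]

theorem symHom_one : symHom r (1 : VecGrp.pt k B ⟶ G) = AlgHom.id B _ := by
  refine symHom_ext fun i => ?_
  rw [symHom_X, inv_one, map_one, AlgHom.id_apply, Finset.sum_eq_single i]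
  · rw [Matrix.one_apply_eq]
  · intro j _ hj
    rw [Matrix.one_apply_ne hj.symm, TensorProduct.zero_tmul]
  · simp

theorem symHom_mul (g h : VecGrp.pt k B ⟶ G) : symHom r (g * h) = (symHom r g).comp (symHom r h) := by
  refine symHom_ext fun i => ?_
  rw [symHom_X, AlgHom.comp_apply, symHom_X, map_sum, _root_.mul_inv_rev, map_mul]
  simp only [symHom_tmul_X, Matrix.mul_apply, TensorProduct.sum_tmul, Finset.smul_sum, TensorProduct.smul_tmul',
    smul_eq_mul]
  exact Finset.sum_comm

/-- The module of polynomial functions. -/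
noncomputable def symMod : VecGrp.GMod G (MvPolynomial (Fin n) k) where
  ρ B _ _ := (LinearMap.GeneralLinearGroup.generalLinearEquiv B _).toMonoidHom.comp
    (MonoidHom.toHomUnits
      { toFun := fun g => (symHom r g).toLinearMap
        map_one' := by rw [symHom_one]; rfl
        map_mul' := fun g h => by rw [symHom_mul]; rfl })
  naturality {B B'} _ _ _ _ φ g x := by
    show VecGrp.Wmap φ (symHom r g x) = symHom r (VecGrp.ptMap φ ≫ g) (VecGrp.Wmap φ x)
    have h : (Algebra.TensorProduct.map φ (AlgHom.id k _)).comp ((symHom r g).restrictScalars k) =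
        ((symHom r (VecGrp.ptMap φ ≫ g)).restrictScalars k).comp (Algebra.TensorProduct.map φ (AlgHom.id k _)) := by
      refine Algebra.TensorProduct.ext (AlgHom.ext fun b => ?_) (MvPolynomial.algHom_ext fun i => ?_)
      · show Algebra.TensorProduct.map φ (AlgHom.id k _) (symHom r g (b ⊗ₜ 1)) =
          symHom r (VecGrp.ptMap φ ≫ g) (φ b ⊗ₜ 1)
        rw [show symHom r g (b ⊗ₜ 1) = b ⊗ₜ 1 from (symHom r g).commutes b,
          show symHom r (VecGrp.ptMap φ ≫ g) (φ b ⊗ₜ 1) = φ b ⊗ₜ 1 from (symHom r _).commutes (φ b)]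
        simp
      · show Algebra.TensorProduct.map φ (AlgHom.id k _) (symHom r g ((1 : B) ⊗ₜ MvPolynomial.X i)) =
          symHom r (VecGrp.ptMap φ ≫ g) (φ 1 ⊗ₜ MvPolynomial.X i)
        rw [map_one, symHom_X, symHom_X, map_sum, ← GrpObj.comp_inv, r.val_naturality]
        simp
    rw [Wmap_eq_map, Wmap_eq_map]
    exact DFunLike.congr_fun h x

theorem symMod_isMult : (symMod r).IsMult := fun B _ _ g =>
  ⟨fun x y => map_mul (symHom r g) x y, map_one (symHom r g)⟩

variable [IsAlgClosed k] [IsAffine G.left] [Smooth G.hom]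

theorem eval_act_symMod (x : P G) (v : Fin n → k) (p : MvPolynomial (Fin n) k) :
    MvPolynomial.eval v (act (symMod r) x p) = MvPolynomial.eval (act r.gmod x⁻¹ v) p := by
  induction p using MvPolynomial.induction_on with
  | C c =>
    rw [MvPolynomial.C_eq_smul_one, map_smul, act_map_one' (symMod r) (symMod_isMult r)]
    simp
  | add p q hp hq => simp only [map_add, hp, hq]
  | mul_X p i hp =>
    rw [act_map_mul' (symMod r) (symMod_isMult r), map_mul, map_mul, hp]
    congr 1
    rw [MvPolynomial.eval_X, act_rep]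
    have h : act (symMod r) x (MvPolynomial.X i) = TensorProduct.lid k _ (symHom r (toPt x) ((1 : k) ⊗ₜ MvPolynomial.X i)) := rfl
    rw [h, symHom_X, map_sum, map_sum, ← toPt_inv]
    simp [Matrix.mulVec, dotProduct, RepMat.Rep.val, RepMat.pbM, ← evB_toPt, evB_apply, MvPolynomial.smul_eval]
where
  act_map_mul' {A : Type u} [CommRing A] [Algebra k A] (ρ : VecGrp.GMod G A) (hρ : ρ.IsMult) {x : P G} (a b : A) :
      act ρ x (a * b) = act ρ x a * act ρ x b := by
    apply (TensorProduct.lid k A).symm.injective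
    have h := (hρ k (toPt x)).1 ((1 : k) ⊗ₜ a) ((1 : k) ⊗ₜ b)
    rw [Algebra.TensorProduct.tmul_mul_tmul, act_apply, act_apply, Algebra.TensorProduct.tmul_mul_tmul,
      _root_.one_mul] at h
    rw [TensorProduct.lid_symm_apply, TensorProduct.lid_symm_apply, ← act_apply]
    exact h
  act_map_one' {A : Type u} [CommRing A] [Algebra k A] (ρ : VecGrp.GMod G A) (hρ : ρ.IsMult) {x : P G} :
      act ρ x (1 : A) = 1 := by
    apply (TensorProduct.lid k A).symm.injective
    rw [TensorProduct.lid_symm_apply, TensorProduct.lid_symm_apply, ← act_apply]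
    have h := (hρ k (toPt x)).2
    rwa [Algebra.TensorProduct.one_def] at h

/-- An invariant polynomial not vanishing at a fixed vector. -/
theorem exists_invariant (hG : VecGrp.IsReductiveGrp k G) (hsep : AGF.ReductiveQuotSeparates k) (v₀ : Fin n → k)
    (hv₀ : v₀ ≠ 0) (hfix : ∀ x : P G, act r.gmod x v₀ = v₀) :
    ∃ p : MvPolynomial (Fin n) k, MvPolynomial.eval 0 p = 0 ∧ MvPolynomial.eval v₀ p = 1 ∧
      ∀ (x : P G) v, MvPolynomial.eval (act r.gmod x v) p = MvPolynomial.eval v p := by
  have hst : ∀ w : Fin n → k, (∀ x : P G, act r.gmod x w = w) →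
      (symMod r).IsStable (𝟙 G) ((RingHom.ker (MvPolynomial.eval w)).restrictScalars k) := fun w hw =>
    isStable_of_points _ _ fun x p hp => by
      show MvPolynomial.eval w (act (symMod r) x p) = 0
      rw [eval_act_symMod, hw]
      exact hp
  have hrad : ∀ w : Fin n → k, (RingHom.ker (MvPolynomial.eval w)).IsRadical := fun w =>
    (RingHom.ker_isPrime _).isRadical
  obtain ⟨i, hi⟩ : ∃ i, v₀ i ≠ 0 := Function.ne_iff.mp hv₀
  have htop : RingHom.ker (MvPolynomial.eval (0 : Fin n → k)) ⊔ RingHom.ker (MvPolynomial.eval v₀) = ⊤ := by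
    refine (Ideal.eq_top_iff_one _).mpr (Submodule.mem_sup.mpr ⟨MvPolynomial.C (v₀ i)⁻¹ * MvPolynomial.X i, ?_,
      1 - MvPolynomial.C (v₀ i)⁻¹ * MvPolynomial.X i, ?_, by ring⟩)
    · rw [RingHom.mem_ker]; simp
    · rw [RingHom.mem_ker]; simp [hi]
  have h := hsep G hG _ (symMod r) (symMod_isMult r) inferInstance _ _ (hrad 0) (hrad v₀)
    (hst 0 fun x => map_zero _) (hst v₀ hfix) htop
  rw [Ideal.eq_top_iff_one] at h
  obtain ⟨p, hp, q, hq, hpq⟩ := Submodule.mem_sup.mp h
  have hp0 : MvPolynomial.eval 0 p.1 = 0 := RingHom.mem_ker.mp (Ideal.mem_comap.mp hp)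
  have hq0 : MvPolynomial.eval v₀ q.1 = 0 := RingHom.mem_ker.mp (Ideal.mem_comap.mp hq)
  refine ⟨p.1, hp0, ?_, fun x v => ?_⟩
  · have h1 := congrArg (fun s => MvPolynomial.eval v₀ s.1) hpq
    simp only [AddMemClass.coe_add, map_add, hq0, add_zero, OneMemClass.coe_one, map_one] at h1
    exact h1
  · have h1 := (mem_fixedUnder_iff (symMod r) (𝟙 G) p.1).mp p.2 x⁻¹
    rw [Category.comp_id] at h1
    conv_rhs => rw [← h1, eval_act_symMod, _root_.inv_inv]

end Groth.Agent.H1.Obs
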