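import Groth.Agent.H1.Obs.DescentInc
import Groth.Agent.H1.Obs.Increment
import Groth.Agent.H1.Obs.SymAct
import Groth.Agent.H1.Obs.Radical

/-!
# Affine quotients of reductive groups have reductive stabilisers
-/

universe u

open CategoryTheory Limits MonoidalCategory CartesianMonoidalCategory MonObj GrpObj AlgebraicGeometry
open scoped TensorProduct

namespace Groth.Agent.H1.Obs

set_option linter.style.haveILetI false
set_option linter.unusedSectionVars false
set_option maxHeartbeats 1000000

open Groth.Agent.Lib.RedPts Groth.Agent.Lib.RedPts.Points Classical.Scheme' Groth.Agent.H1.RInv Groth.Agent.Lib.GrpQ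

attribute [local instance] baseAlgebra

variable {k : Type u} [Field k] [IsAlgClosed k] {G H X : Over (Spec (CommRingCat.of k))} [GrpObj G] [GrpObj H]
  [IsAffine G.left] [Smooth G.hom] [IsAffine H.left] [Smooth H.hom]

/-- A normal connected unipotent subgroup is trivial on points. -/
theorem points_eq_one {U : Over (Spec (CommRingCat.of k))} [GrpObj U] [IsAffine U.left] [Smooth U.hom]
    [ConnectedSpace U.left] (i : H ⟶ G) [IsMonHom i] {a : AlgGrp.Action G X}
    {o : 𝟙_ (Over (Spec (CommRingCat.of k))) ⟶ X} (hX : AGF.IsQuotient i X a o) [IsAffine X.left]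
    (hG : VecGrp.IsReductiveGrp k G) (hsep : AGF.ReductiveQuotSeparates k)
    (u : U ⟶ H) [IsMonHom u] (hn : Classical.RadU.IsNormalPts u) (hU : Classical.Unipotent.NoTorsion U)
    (t : P U) : t ≫ u = 1 := by
  classical
  by_contra ht
  obtain ⟨f, c, hf, hinf⟩ := exists_increment u hn hU ht
  obtain ⟨F, hF⟩ := exists_increment_extend i u hX f c hf
  obtain ⟨W, hWf, hsW, hWst⟩ := exists_stable {1, F}
  haveI := hWf
  obtain ⟨r, e, he⟩ := exists_rep_of_stable W hWst
  have h1W : (1 : Γ(G.left, ⊤)) ∈ W := hsW (by simp)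
  have hFW : F ∈ W := hsW (by simp)
  let v₀ := e.symm ⟨1, h1W⟩
  let y := e.symm ⟨F, hFW⟩
  have hv₀ : (e v₀ : Γ(G.left, ⊤)) = 1 := congrArg Subtype.val (e.apply_symm_apply ⟨1, h1W⟩)
  have hy : (e y : Γ(G.left, ⊤)) = F := congrArg Subtype.val (e.apply_symm_apply ⟨F, hFW⟩)
  have hfix : ∀ x : P G, act r.gmod x v₀ = v₀ := fun x => e.injective (Subtype.ext (by rw [he, hv₀, map_one]))
  have hmove : ∀ (s : P U) (α : k), act r.gmod (s ≫ u ≫ i) (α • y) = α • y + (α * ev s c) • v₀ := fun s α => by
    have h : act r.gmod (s ≫ u ≫ i) y = y + ev s c • v₀ := e.injective (Subtype.ext (ext_fun fun x => by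
      rw [he, hy, ev_rtr, map_add, map_smul, Submodule.coe_add, Submodule.coe_smul, map_add, hy, hv₀, hF,
        Algebra.smul_def, _root_.mul_one, ev_const]))
    rw [map_smul, h, smul_add, smul_smul]
  have hv₀0 : v₀ ≠ 0 := fun h => by
    have h2 : (e v₀ : Γ(G.left, ⊤)) = 0 := by rw [h, map_zero]; rfl
    rw [hv₀] at h2
    exact one_ne_zero ((map_one (ev (1 : P G))).symm.trans ((congrArg _ h2).trans (map_zero _)))
  obtain ⟨p, hp0, hp1, hinv⟩ := exists_invariant r hG hsep v₀ hv₀0 hfix
  have heval : ∀ (φ : Fin (Module.finrank k W) → Polynomial k) (s : k),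
      Polynomial.eval s (MvPolynomial.aeval φ p) = MvPolynomial.eval (fun j => Polynomial.eval s (φ j)) p := fun φ s => by
    rw [← Polynomial.coe_evalRingHom, MvPolynomial.aeval_def, MvPolynomial.eval₂_comp_left]
    show _ = MvPolynomial.eval₂ (RingHom.id k) _ p
    congr 1
    exact RingHom.ext fun z => by simp
  have hline : ∀ α : k, α ≠ 0 → MvPolynomial.eval (α • y + v₀) p = MvPolynomial.eval (α • y) p := fun α hα => by
    let Q : Polynomial k := MvPolynomial.aeval (fun j => Polynomial.C (α * y j) + Polynomial.X * Polynomial.C (v₀ j)) p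
    have hQ : ∀ s, Polynomial.eval s Q = MvPolynomial.eval (α • y + s • v₀) p := fun s => by
      rw [heval]
      congr 1
      congr 1
      funext j
      simp
      ring
    have heq : Q = Polynomial.C (MvPolynomial.eval (α • y) p) := by
      refine Polynomial.eq_of_infinite_eval_eq _ _ ((hinf.image (f := fun s => α * s)
        (mul_right_injective₀ hα).injOn).mono ?_)
      rintro _ ⟨_, ⟨s, rfl⟩, rfl⟩
      show Polynomial.eval (α * ev s c) Q = Polynomial.eval (α * ev s c) (Polynomial.C _)
      rw [hQ, Polynomial.eval_C, ← hmove, hinv]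
    have := hQ 1
    rw [heq, Polynomial.eval_C, one_smul] at this
    exact this.symm
  let R₁ : Polynomial k := MvPolynomial.aeval (fun j => Polynomial.X * Polynomial.C (y j) + Polynomial.C (v₀ j)) p
  let R₀ : Polynomial k := MvPolynomial.aeval (fun j => Polynomial.X * Polynomial.C (y j)) p
  have hR₁ : ∀ α, Polynomial.eval α R₁ = MvPolynomial.eval (α • y + v₀) p := fun α => by
    rw [heval]; congr 1; congr 1; funext j; simp; ring
  have hR₀ : ∀ α, Polynomial.eval α R₀ = MvPolynomial.eval (α • y) p := fun α => by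
    rw [heval]; congr 1; congr 1; funext j; simp; ring
  have hR : R₁ = R₀ := Polynomial.eq_of_infinite_eval_eq _ _ (((Set.finite_singleton (0 : k)).infinite_compl).mono
    fun α hα => by
      show Polynomial.eval α R₁ = Polynomial.eval α R₀
      rw [hR₁, hR₀, hline α hα])
  have := hR₁ 0
  rw [hR, hR₀, zero_smul, zero_add, hp0, hp1] at this
  exact zero_ne_one this

open Groth.Agent.H63.GrpIdentity in
/-- The stabiliser of an affine homogeneous space of a reductive group is reductive. -/
theorem isReductiveGrp_of_isAffine (i : H ⟶ G) [IsMonHom i] {a : AlgGrp.Action G X}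
    {o : 𝟙_ (Over (Spec (CommRingCat.of k))) ⟶ X} (hX : AGF.IsQuotient i X a o) [IsAffine X.left]
    (hG : VecGrp.IsReductiveGrp k G) (hsep : AGF.ReductiveQuotSeparates k) : VecGrp.IsReductiveGrp k H := by
  obtain ⟨hεo, hεc, hεs, hεconn⟩ := identity_props H
  letI := idGrp H
  haveI := isMonHom_idHom H
  haveI : IsAffine (idObj H).left := isAffine_of_isAffineHom (idHom H).left
  refine ⟨inferInstance, inferInstance, idObj H, inferInstance, idHom H, inferInstance, inferInstance,
    inferInstance, inferInstance, inferInstance, ?_⟩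
  intro W _ w _ hwc hws hwconn hwn hwno
  haveI := hwc
  haveI := hws
  haveI := hwconn
  haveI : IsAffine W.left := isAffine_of_isAffineHom w.left
  obtain ⟨U, _, v, h1, h2, h3, h4, h5, h6, hmax⟩ := Classical.RadU.exists_radU (idObj H)
  haveI := h1
  haveI := h2
  haveI := h3
  haveI := h4
  haveI : IsAffine U.left := isAffine_of_isAffineHom v.left
  have hno := Classical.Unipotent.noTorsion_of_hasNoSubtorus h5
  haveI : IsClosedImmersion (𝟙 H : H ⟶ H).left := by rw [Over.id_left]; infer_instance
  have hnid : AlgGrp.IsNormalHom (𝟙 H) := fun T g n => ⟨g * (n ≫ 𝟙 H) * g⁻¹, (Category.comp_id _).symm⟩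
  have hn₁ := Classical.RadU.normalPts_char (𝟙 H) hnid (idHom H) v (Classical.RadU.isNormalPts_of_isNormalHom h6)
    fun f _ _ hf => hmax U f hf hno
  rw [Category.comp_id] at hn₁
  obtain ⟨φ, hφ⟩ := hmax W w (Classical.RadU.isNormalPts_of_isNormalHom hwn)
    (Classical.Unipotent.noTorsion_of_hasNoSubtorus hwno)
  haveI : IsReduced W.left := Groth.Agent.Lib.GrpSch.isReduced_of_smooth_field W.hom
  haveI : Mono (idHom H) := Over.mono_of_mono_left _
  haveI : Mono w := Over.mono_of_mono_left w
  have hone : ∀ x : P W, x = 1 := fun x => by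
    rw [← cancel_mono w, MonObj.one_comp, ← cancel_mono (idHom H), MonObj.one_comp, ← hφ]
    simp only [Category.assoc]
    rw [← Category.assoc]
    exact points_eq_one i hX hG hsep (v ≫ idHom H) hn₁ hno (x ≫ φ)
  have hid : (toUnit W ≫ η[W]) = 𝟙 W := by
    refine Over.OverMorphism.ext (ext_of_isAffine (CommRingCat.hom_ext (RingHom.ext fun g => ext_points fun x => ?_)))
    rw [← ev_comp, ← ev_comp, Category.comp_id, ← Category.assoc, show x ≫ toUnit W = 𝟙 _ from toUnit_unique _ _,
      Category.id_comp, hone x, hone η[W]]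
  haveI : IsIso (toUnit W) := ⟨η[W], hid, toUnit_unique _ _⟩
  haveI : IsIso (toUnit W).left := inferInstanceAs (IsIso ((Over.forget _).map (toUnit W)))
  show IsIso W.hom
  rw [← Over.w (toUnit W)]
  haveI : IsIso (𝟙_ (Over (Spec (CommRingCat.of k)))).hom := inferInstanceAs (IsIso (𝟙 _))
  infer_instance

end Groth.Agent.H1.Obs
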