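import Groth.Agent.H1.Obs.Basic
import Groth.Agent.H1.GrpIrred
import Groth.Agent.H1.Classical.Cone

/-!
# Invariant functions vanishing on a stable closed set
-/

universe u

open CategoryTheory Limits MonoidalCategory CartesianMonoidalCategory MonObj GrpObj AlgebraicGeometry
open scoped TensorProduct

namespace Groth.Agent.H1.Obs

set_option linter.style.haveILetI false
set_option linter.unusedSectionVars false
set_option maxHeartbeats 800000

open Groth.Agent.Lib.RedPts Groth.Agent.Lib.RedPts.Points Classical.Scheme' Groth.Agent.H1.RInv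

attribute [local instance] baseAlgebra

variable {k : Type u} [Field k] [IsAlgClosed k] {G H : Over (Spec (CommRingCat.of k))} [GrpObj G] [GrpObj H]
  [IsAffine G.left] [Smooth G.hom]

theorem finiteType_Γ' : Algebra.FiniteType k Γ(G.left, ⊤) := RInv.finiteType_Γ (G := G)

/-- A function outside a prime is nonzero at some point of the prime's zero set. -/
theorem exists_point_ne (p : Ideal Γ(G.left, ⊤)) (hp : p.IsRadical) {g : Γ(G.left, ⊤)} (hg : g ∉ p) :
    ∃ x : P G, (∀ f ∈ p, ev x f = 0) ∧ ev x g ≠ 0 := by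
  haveI := RInv.isJacobsonRing_Γ (G := G)
  by_contra h
  push Not at h
  refine hg ?_
  rw [← IsJacobsonRing.out' p hp, Ideal.jacobson, Ideal.mem_sInf]
  rintro m ⟨hle, hm⟩
  obtain ⟨x, rfl⟩ := exists_ev_ker' m
  exact h x fun f hf => hle hf

/-- A minimal prime is the only one at some point. -/
theorem exists_point_minimal {p : Ideal Γ(G.left, ⊤)} (hp : p ∈ minimalPrimes Γ(G.left, ⊤)) :
    ∃ x : P G, p ≤ RingHom.ker (ev x) ∧
      ∀ q ∈ minimalPrimes Γ(G.left, ⊤), q ≤ RingHom.ker (ev x) → q = p := by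
  classical
  haveI := RInv.isNoetherianRing_Γ (G := G)
  let T := ((minimalPrimes.finite_of_isNoetherianRing (R := Γ(G.left, ⊤))).toFinset).erase p
  haveI := hp.isPrime
  have h : ∃ g ∈ T.inf id, g ∉ p := by
    by_contra h
    push Not at h
    obtain ⟨q, hq, hqp⟩ := (Ideal.IsPrime.inf_le' (hp := hp.isPrime)).mp h
    obtain ⟨hne, hq'⟩ := Finset.mem_erase.mp hq
    rw [Set.Finite.mem_toFinset] at hq'
    exact hne (le_antisymm hqp (hp.2 hq'.1 hqp))
  obtain ⟨g, hgT, hgp⟩ := h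
  obtain ⟨x, hx, hxg⟩ := exists_point_ne p hp.isPrime.isRadical hgp
  refine ⟨x, hx, fun q hq hqx => by_contra fun hne => hxg ?_⟩
  have hle : T.inf id ≤ q := Finset.inf_le (f := id) (Finset.mem_erase.mpr ⟨hne, (Set.Finite.mem_toFinset _).mpr hq⟩)
  exact hqx (hle hgT)

/-- Left translations permute the minimal primes transitively. -/
theorem exists_translate {p p' : Ideal Γ(G.left, ⊤)} (hp : p ∈ minimalPrimes Γ(G.left, ⊤))
    (hp' : p' ∈ minimalPrimes Γ(G.left, ⊤)) : ∃ y : P G, p.comap (ltr y).toRingHom = p' := by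
  obtain ⟨x, hx, hxu⟩ := exists_point_minimal hp
  obtain ⟨x', hx', hxu'⟩ := exists_point_minimal hp'
  have step : ∀ {p p' : Ideal Γ(G.left, ⊤)} (x x' : P G), p ∈ minimalPrimes Γ(G.left, ⊤) →
      p ≤ RingHom.ker (ev x) → (∀ q ∈ minimalPrimes Γ(G.left, ⊤), q ≤ RingHom.ker (ev x') → q = p') →
      p' ≤ p.comap (ltr (x' * x⁻¹)).toRingHom := by
    intro p p' x x' hp hx hu
    haveI := hp.isPrime
    obtain ⟨q, hq, hqle⟩ := Ideal.exists_minimalPrimes_le (I := ⊥) (J := p.comap (ltr (x' * x⁻¹)).toRingHom) bot_le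
    refine (hu q hq fun f hf => ?_) ▸ hqle
    have h2 := hx (hqle hf)
    rw [RingHom.mem_ker] at h2 ⊢
    rwa [show (ltr (x' * x⁻¹)).toRingHom f = ltr (x' * x⁻¹) f from rfl, ev_ltr, inv_mul_cancel_right] at h2
  refine ⟨x' * x⁻¹, le_antisymm (fun f hf => ?_) (step x x' hp hx hxu')⟩
  have h1 := step x' x hp' hx' hxu hf
  rw [Ideal.mem_comap] at h1
  change ltr (x * x'⁻¹) (ltr (x' * x⁻¹) f) ∈ p' at h1
  rwa [ltr_ltr, show x' * x⁻¹ * (x * x'⁻¹) = (1 : P G) by group, ltr_one] at h1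

/-- A surjective endomorphism of a Noetherian ring cannot shrink an ideal. -/
theorem comap_eq_of_le {R : Type*} [CommRing R] [IsNoetherianRing R] (σ τ : R →+* R)
    (hστ : σ.comp τ = RingHom.id R) (hτσ : τ.comp σ = RingHom.id R) {Q : Ideal R} (h : Q.comap σ ≤ Q) :
    Q.comap σ = Q := by
  let f : ℕ → Ideal R := fun n => (Ideal.comap τ)^[n] Q
  have h0 : Q ≤ Q.comap τ := fun a ha => h (show σ (τ a) ∈ Q by rw [← RingHom.comp_apply, hστ]; exact ha)
  have hmono : Monotone f := by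
    refine monotone_nat_of_le_succ fun n => ?_
    induction n with
    | zero => exact h0
    | succ n ih =>
      simp only [f, Function.iterate_succ_apply'] at ih ⊢
      exact Ideal.comap_mono ih
  obtain ⟨n, hn⟩ := monotone_stabilizes_iff_noetherian.mpr (inferInstance : IsNoetherian R R) ⟨f, hmono⟩
  have hinj : Function.Injective (Ideal.comap τ) := fun I J hIJ => by
    have := congrArg (Ideal.comap σ) hIJ
    rwa [Ideal.comap_comap, Ideal.comap_comap, hτσ, Ideal.comap_id, Ideal.comap_id] at this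
  have h1 : f 0 = f 1 := by
    have hn' := hn (n + 1) (Nat.le_succ n)
    change (Ideal.comap τ)^[n] Q = (Ideal.comap τ)^[n + 1] Q at hn'
    rw [Function.iterate_succ_apply] at hn'
    exact (hinj.iterate n) hn'
  change Q = Q.comap τ at h1
  conv_lhs => rw [h1, Ideal.comap_comap, hτσ, Ideal.comap_id]

theorem inv_iff_rtr (i : H ⟶ G) (f : Γ(G.left, ⊤)) : Inv i f ↔ ∀ h : P H, rtr (h ≫ i) f = f :=
  ⟨fun hf h => ext_fun fun x => by rw [ev_rtr, hf], fun hf x h => by rw [← ev_rtr, hf]⟩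

variable [IsAffine H.left] [Smooth H.hom] (i : H ⟶ G)

/-- For an observable subgroup some invariant vanishes on a stable closed set without vanishing off it. -/
theorem exists_inv_vanishing (hobs : AGF.IsObservableIn k i) (J : Ideal Γ(G.left, ⊤))
    (hst : ∀ (x : P G) (h : P H), (∀ f ∈ J, ev x f = 0) → ∀ f ∈ J, ev (x * (h ≫ i)) f = 0)
    (hne : ∃ x : P G, ∃ f ∈ J, ev x f ≠ 0) :
    ∃ Φ : Γ(G.left, ⊤), Inv i Φ ∧ (∀ x : P G, (∀ f ∈ J, ev x f = 0) → ev x Φ = 0) ∧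
      ∃ x : P G, (∃ f ∈ J, ev x f ≠ 0) ∧ ev x Φ ≠ 0 := by
  classical
  haveI := finiteType_Γ' (G := G)
  haveI := RInv.isNoetherianRing_Γ (G := G)
  obtain ⟨s, hs, hsep⟩ := exists_sep_of_observable i hobs
  obtain ⟨W, hWf, hsW, hWl, hWr⟩ := exists_stable_left s
  have hWinv : ∀ w ∈ W, Inv i w := fun w hw =>
    (inv_iff_rtr i w).mpr fun h => hWr _ (fun f hf => (inv_iff_rtr i f).mp (hs f hf) h) w hw
  let S : Subalgebra k Γ(G.left, ⊤) := Algebra.adjoin k (W : Set Γ(G.left, ⊤))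
  have hSinv : ∀ f ∈ S, Inv i f := fun f hf => (inv_iff_rtr i f).mpr fun h => by
    have hle : S ≤ AlgHom.equalizer (rtr (h ≫ i)) (AlgHom.id k _) :=
      Algebra.adjoin_le fun w hw => (inv_iff_rtr i w).mp (hWinv w hw) h
    exact hle hf
  have hSst : ∀ y : P G, ∀ f ∈ S, ltr y f ∈ S := fun y f hf => by
    have hle : S ≤ S.comap (ltr y) := Algebra.adjoin_le fun w hw => Algebra.subset_adjoin (hWl y w hw)
    exact hle hf
  have hSfg : S.FG := by
    obtain ⟨t, ht⟩ := (Submodule.fg_iff_finiteDimensional W).mpr hWf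
    refine ⟨t, le_antisymm (Algebra.adjoin_mono (ht ▸ Submodule.subset_span)) (Algebra.adjoin_le fun w hw => ?_)⟩
    rw [← ht] at hw
    exact Algebra.span_le_adjoin k _ hw
  haveI : Algebra.FiniteType k S := ⟨S.fg_top.mpr hSfg⟩
  haveI : IsNoetherianRing S := Algebra.FiniteType.isNoetherianRing k S
  by_contra hcon
  push Not at hcon
  obtain ⟨x₀, f, hfJ, hf⟩ := hne
  haveI : ∀ x : P G, (RingHom.ker (ev x)).IsPrime := fun x => RingHom.ker_isPrime _
  obtain ⟨p, hp, hpx⟩ := Ideal.exists_minimalPrimes_le (I := (⊥ : Ideal Γ(G.left, ⊤))) (J := RingHom.ker (ev x₀))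
    bot_le
  haveI := hp.isPrime
  have hfp : f ∉ p := fun h => hf (hpx h)
  let Q : Ideal S := p.comap S.val
  -- a component of the zero set dominating the image of the component
  obtain ⟨q, hq, hqQ⟩ : ∃ q ∈ J.minimalPrimes, q.comap S.val ≤ Q := by
    have hle : ((Ideal.finite_minimalPrimes_of_isNoetherianRing Γ(G.left, ⊤) J).toFinset).inf
        (fun q => q.comap S.val) ≤ Q := by
      intro Φ hΦ
      rw [Submodule.mem_finsetInf] at hΦ
      have hvan : ∀ x : P G, (∀ g ∈ J, ev x g = 0) → ev x (Φ : Γ(G.left, ⊤)) = 0 := fun x hx => by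
        obtain ⟨q, hq, hqx⟩ := Ideal.exists_minimalPrimes_le (I := J) (J := RingHom.ker (ev x)) fun g hg => hx g hg
        exact hqx (hΦ q ((Set.Finite.mem_toFinset _).mpr hq))
      have h0 : (Φ : Γ(G.left, ⊤)) * f = 0 := ext_fun fun x => by
        rw [map_mul, map_zero]
        by_cases hx : ev x f = 0
        · rw [hx, mul_zero]
        · rw [hcon Φ (hSinv _ Φ.2) hvan x ⟨f, hfJ, hx⟩, zero_mul]
      exact ((hp.isPrime.mem_or_mem (h0 ▸ p.zero_mem)).resolve_right hfp)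
    obtain ⟨q, hq, h⟩ := (Ideal.IsPrime.inf_le' (hp := Ideal.IsPrime.comap S.val)).mp hle
    exact ⟨q, (Set.Finite.mem_toFinset _).mp hq, h⟩
  haveI := hq.isPrime
  obtain ⟨p', hp', hp'q⟩ := Ideal.exists_minimalPrimes_le (I := (⊥ : Ideal Γ(G.left, ⊤))) (J := q) bot_le
  obtain ⟨y, hy⟩ := exists_translate hp hp'
  let σ : P G → (S →+* S) := fun y =>
    (((ltr y).comp S.val).codRestrict S fun f => hSst y _ f.2).toRingHom
  have hσ : ∀ y z : P G, z * y = 1 → (σ y).comp (σ z) = RingHom.id S := fun y z hyz =>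
    RingHom.ext fun a => Subtype.ext (by
      show ltr y (ltr z a) = a
      rw [ltr_ltr, hyz, ltr_one])
  have hQσ : Q.comap (σ y) ≤ q.comap S.val := fun a ha => hp'q (hy ▸ ha)
  have hQeq : q.comap S.val = Q := le_antisymm hqQ
    ((comap_eq_of_le (σ y) (σ y⁻¹) (hσ _ _ (inv_mul_cancel y)) (hσ _ _ (mul_inv_cancel y))
      (hQσ.trans hqQ)).ge.trans hQσ)
  -- generic lifting
  haveI : Algebra.FiniteType k (S ⧸ Q) := Algebra.FiniteType.of_surjective (Ideal.Quotient.mkₐ k Q) Ideal.Quotient.mk_surjective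
  haveI : Algebra.FiniteType k (Γ(G.left, ⊤) ⧸ q) :=
    Algebra.FiniteType.of_surjective (Ideal.Quotient.mkₐ k q) Ideal.Quotient.mk_surjective
  let φ : (S ⧸ Q) →ₐ[k] (Γ(G.left, ⊤) ⧸ q) := Ideal.quotientMapₐ q S.val hQeq.ge
  have hφ : Function.Injective φ := by
    rintro a b hab
    obtain ⟨a, rfl⟩ := Ideal.Quotient.mk_surjective a
    obtain ⟨b, rfl⟩ := Ideal.Quotient.mk_surjective b
    have : S.val a - S.val b ∈ q := Ideal.Quotient.eq.mp hab
    rw [Ideal.Quotient.eq, ← hQeq, Ideal.mem_comap, map_sub]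
    exact this
  obtain ⟨b, hb, hlift⟩ := Classical.Cone.exists_generic_lift φ hφ
  obtain ⟨b, rfl⟩ := Ideal.Quotient.mk_surjective b
  have hbQ : (b : Γ(G.left, ⊤)) ∉ p := fun h => hb (Ideal.Quotient.eq_zero_iff_mem.mpr h)
  obtain ⟨x, hx, hxg⟩ := exists_point_ne p hp.isPrime.isRadical
    (fun h => (hp.isPrime.mem_or_mem h).elim hfp hbQ : f * (b : Γ(G.left, ⊤)) ∉ p)
  rw [map_mul, mul_ne_zero_iff] at hxg
  obtain ⟨χ', hχ'⟩ := hlift (Ideal.Quotient.liftₐ Q ((evA x).comp S.val) fun a ha => hx _ ha) hxg.2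
  obtain ⟨z, hz⟩ := exists_point (Y := G) (χ'.comp (Ideal.Quotient.mkₐ k q))
  have hzJ : ∀ g ∈ J, ev z g = 0 := fun g hg => by
    rw [hz]
    show χ' (Ideal.Quotient.mk q g) = 0
    rw [Ideal.Quotient.eq_zero_iff_mem.mpr (hq.1.2 hg), map_zero]
  obtain ⟨h, hh⟩ := hsep z x fun w hw => by
    have := congrArg (fun F => F (Ideal.Quotient.mk Q (⟨w, Algebra.subset_adjoin (hsW hw)⟩ : S))) hχ'
    rw [hz]
    exact this
  exact hxg.1 (hh ▸ hst z h hzJ f hfJ)

/-- Nullstellensatz. -/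
theorem exists_pow_mem (J : Ideal Γ(G.left, ⊤)) {Φ : Γ(G.left, ⊤)}
    (h : ∀ x : P G, (∀ f ∈ J, ev x f = 0) → ev x Φ = 0) : ∃ m : ℕ, Φ ^ m ∈ J := by
  haveI := RInv.isJacobsonRing_Γ (G := G)
  have : Φ ∈ J.radical := by
    refine by_contra fun hΦ => ?_
    obtain ⟨x, hx, hxΦ⟩ := exists_point_ne J.radical J.radical_isRadical hΦ
    exact hxΦ (h x fun f hf => hx f (Ideal.le_radical hf))
  exact this

/-- Functions of inverse weight. -/
theorem exists_inverse_weight (hobs : AGF.IsObservableIn k i) (f : Γ(G.left, ⊤)) (hf : f ≠ 0) (c : P H → k)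
    (hc : ∀ h, c h ≠ 0) (hw : ∀ (x : P G) (h : P H), ev (x * (h ≫ i)) f = c h * ev x f) :
    ∃ f' : Γ(G.left, ⊤), f' ≠ 0 ∧ ∀ (x : P G) (h : P H), ev (x * (h ≫ i)) f' = (c h)⁻¹ * ev x f' := by
  have hmem : ∀ x : P G, (∀ g ∈ Ideal.span {f}, ev x g = 0) ↔ ev x f = 0 := fun x =>
    ⟨fun h => h f (Ideal.mem_span_singleton_self f), fun h g hg => by
      obtain ⟨a, rfl⟩ := Ideal.mem_span_singleton'.mp hg
      rw [map_mul, h, mul_zero]⟩
  obtain ⟨Φ, hΦ, hvan, x₁, ⟨g, hg, hgx⟩, hx₁⟩ := exists_inv_vanishing i hobs (Ideal.span {f})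
    (fun x h hx => (hmem _).mpr (by rw [hw, (hmem x).mp hx, mul_zero]))
    (by
      by_contra hcon
      push Not at hcon
      exact hf (ext_fun fun x => by rw [hcon x f (Ideal.mem_span_singleton_self f), map_zero]))
  have hfx : ev x₁ f ≠ 0 := fun h => hgx ((hmem x₁).mpr h g hg)
  obtain ⟨m, hm⟩ := exists_pow_mem _ hvan
  obtain ⟨f₁, hf₁⟩ := Ideal.mem_span_singleton'.mp hm
  refine ⟨f₁ * Φ, fun h0 => ?_, fun x h => ?_⟩
  · have h1 := congrArg (ev x₁) hf₁
    rw [map_mul, map_pow] at h1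
    have h2 := congrArg (ev x₁) h0
    rw [map_mul, map_zero, mul_eq_zero] at h2
    rcases h2 with h2 | h2
    · rw [h2, zero_mul] at h1
      exact pow_ne_zero m hx₁ h1.symm
    · exact hx₁ h2
  · rw [map_mul, map_mul, hΦ x h]
    by_cases hx : ev x f = 0
    · rw [hvan x ((hmem x).mpr hx), mul_zero, mul_zero, mul_zero]
    · have h1 := congrArg (ev (x * (h ≫ i))) hf₁
      have h2 := congrArg (ev x) hf₁
      rw [map_mul, map_pow, hw, hΦ x h] at h1
      rw [map_mul, map_pow] at h2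
      rw [← h2] at h1
      have h3 : ev (x * (h ≫ i)) f₁ * c h = ev x f₁ := mul_right_cancel₀ hx (by rw [← h1, _root_.mul_assoc])
      rw [← h3]
      field_simp [hc h]

/-- For connected groups invariant fractions are fractions of invariants. -/
theorem exists_inv_fraction [ConnectedSpace G.left] (hobs : AGF.IsObservableIn k i) (a b : Γ(G.left, ⊤)) (hb : b ≠ 0)
    (hab : ∀ (x : P G) (h : P H), ev (x * (h ≫ i)) a * ev x b = ev x a * ev (x * (h ≫ i)) b) :
    ∃ a' b' : Γ(G.left, ⊤), Inv i a' ∧ Inv i b' ∧ b' ≠ 0 ∧ a * b' = a' * b := by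
  haveI := GrpIrred.isIntegral G
  haveI : Nonempty (⊤ : G.left.Opens) := ⟨⟨(η[G]).left (IsLocalRing.closedPoint k), trivial⟩⟩
  have hr : ∀ h : P H, rtr (h ≫ i) a * b = a * rtr (h ≫ i) b := fun h => ext_fun fun x => by
    simp only [map_mul, ev_rtr]
    exact hab x h
  have hb' : ∀ g : P G, rtr g b ≠ 0 := fun g h0 => hb (by
    rw [← rtr_one b, ← inv_mul_cancel g, ← rtr_rtr, h0, map_zero])
  let J : Ideal Γ(G.left, ⊤) :=
    { carrier := {c | ∃ a', c * a = a' * b}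
      add_mem' := fun {c c'} ⟨a₁, h₁⟩ ⟨a₂, h₂⟩ => ⟨a₁ + a₂, by rw [add_mul, add_mul, h₁, h₂]⟩
      zero_mem' := ⟨0, by rw [zero_mul, zero_mul]⟩
      smul_mem' := fun r c ⟨a₁, h₁⟩ => ⟨r * a₁, by rw [smul_eq_mul, _root_.mul_assoc, h₁, ← _root_.mul_assoc]⟩ }
  have hJ : ∀ (h : P H), ∀ c ∈ J, rtr (h ≫ i) c ∈ J := by
    rintro h c ⟨a₁, h₁⟩
    refine ⟨rtr (h ≫ i) a₁, mul_right_cancel₀ (hb' (h ≫ i)) ?_⟩
    have h2 := congrArg (rtr (h ≫ i)) h₁
    rw [map_mul, map_mul] at h2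
    linear_combination b * h2 - rtr (h ≫ i) c * hr h
  obtain ⟨x, hx⟩ : ∃ x : P G, ev x b ≠ 0 := by
    by_contra h
    push Not at h
    exact hb (ext_fun fun x => by rw [h x, map_zero])
  obtain ⟨Φ, hΦ, hvan, x₁, -, hx₁⟩ := exists_inv_vanishing i hobs J
    (fun x h hx c hc => by
      rw [← ev_rtr]
      exact hx _ (hJ h c hc))
    ⟨x, b, ⟨a, mul_comm b a⟩, hx⟩
  obtain ⟨m, a', ha'⟩ := exists_pow_mem J hvan
  refine ⟨a', Φ ^ m, ?_, fun y h => by rw [map_pow, map_pow, hΦ y h], fun h0 => ?_, by rw [mul_comm a, ha']⟩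
  · refine (inv_iff_rtr i a').mpr fun h => mul_right_cancel₀ (mul_ne_zero (hb' (h ≫ i)) hb) ?_
    have h2 := congrArg (rtr (h ≫ i)) ha'
    rw [map_mul, map_mul, map_pow, (inv_iff_rtr i Φ).mp hΦ h] at h2
    linear_combination -(b : Γ(G.left, ⊤)) * h2 + Φ ^ m * hr h + rtr (h ≫ i) b * ha'
  · exact pow_ne_zero m hx₁ (by rw [← map_pow, h0, map_zero])

end Groth.Agent.H1.Obs
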