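import Groth.Agent.H1.Obs.Transfer
import Groth.Agent.H1.Obs.Eigen
import Mathlib.RingTheory.FiniteType
import Mathlib.LinearAlgebra.TensorProduct.RightExactness

/-!
# Finite generation of invariants by the transfer principle
-/

universe u

open CategoryTheory Limits MonoidalCategory CartesianMonoidalCategory MonObj GrpObj AlgebraicGeometry
open scoped TensorProduct

namespace Groth.Agent.H1.Obs

set_option linter.style.haveILetI false
set_option linter.unusedSectionVars false

open Groth.Agent.Lib.RedPts Groth.Agent.Lib.RedPts.Points Classical.Scheme' Groth.Agent.H1.RInv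

attribute [local instance] baseAlgebra

variable {k : Type u} [Field k] [IsAlgClosed k] {G H : Over (Spec (CommRingCat.of k))} [GrpObj G] [GrpObj H]
  [IsAffine G.left] [Smooth G.hom] [IsAffine H.left] [Smooth H.hom] (i : H ⟶ G) [IsMonHom i]

section Restrict

variable {C : Type u} [CommRing C] [Algebra k C] (ρ : VecGrp.GMod G C) (hρ : ρ.IsMult) (S : Subalgebra k C)

/-- The inclusion after scalar extension. -/
noncomputable def incl (B : Type u) [CommRing B] [Algebra k B] : B ⊗[k] S →ₐ[B] B ⊗[k] C :=
  Algebra.TensorProduct.map (AlgHom.id B B) S.val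

theorem incl_eq (B : Type u) [CommRing B] [Algebra k B] (z : B ⊗[k] S) :
    incl S B z = LinearMap.lTensor B S.val.toLinearMap z := by
  induction z using TensorProduct.induction_on with
  | zero => simp
  | tmul b s => rfl
  | add p q hp hq => simp only [map_add, hp, hq]

theorem incl_injective (B : Type u) [CommRing B] [Algebra k B] : Function.Injective (incl S B) := fun x y h => by
  rw [incl_eq, incl_eq] at h
  exact Module.Flat.lTensor_preserves_injective_linearMap (M := B) S.val.toLinearMap Subtype.val_injective h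

variable (hS : ∀ (x : P G), ∀ s ∈ S, act ρ x s ∈ S)

include hS in
theorem mem_range_incl {B : Type u} [CommRing B] [Algebra k B] (g : VecGrp.pt k B ⟶ G) (z : B ⊗[k] S) :
    ρ.ρ B g (incl S B z) ∈ (incl S B).range := by
  haveI : IsReduced G.left := Groth.Agent.Lib.GrpSch.isReduced_of_smooth_field G.hom
  induction z using TensorProduct.induction_on with
  | zero => simp [Subalgebra.zero_mem]
  | add p q hp hq => rw [map_add, map_add]; exact Subalgebra.add_mem _ hp hq
  | tmul b s =>
    have e : incl S B (b ⊗ₜ s) = b • ((1 : B) ⊗ₜ[k] (s : C)) := by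
      rw [TensorProduct.smul_tmul', smul_eq_mul, _root_.mul_one]
      rfl
    rw [e, map_smul]
    refine Subalgebra.smul_mem _ ?_ b
    let q : C →ₗ[k] C ⧸ Subalgebra.toSubmodule S := (Subalgebra.toSubmodule S).mkQ
    have key : LinearMap.lTensor Γ(G.left, ⊤) q (ρ.ρ _ (univPt G) ((1 : Γ(G.left, ⊤)) ⊗ₜ (s : C))) = 0 := by
      refine eq_of_points fun x => ?_
      have hnat : ∀ w, VecGrp.Wmap (evA x) (LinearMap.lTensor Γ(G.left, ⊤) q w) =
          LinearMap.lTensor k q (VecGrp.Wmap (evA x) w) := fun w => by
        induction w using TensorProduct.induction_on with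
        | zero => simp
        | tmul c d => simp
        | add p q hp hq => simp only [map_add, hp, hq]
      rw [hnat, map_zero, Wmap_univ, LinearMap.lTensor_tmul, show q (act ρ x s) = 0 from
        (Submodule.Quotient.mk_eq_zero _).mpr (hS x s s.2), TensorProduct.tmul_zero]
    obtain ⟨w, hw⟩ := ((lTensor_exact Γ(G.left, ⊤) (LinearMap.exact_subtype_mkQ (Subalgebra.toSubmodule S))
      (Submodule.mkQ_surjective _)) _).mp key
    have h2 := congrArg (VecGrp.Wmap (evB g)) hw
    rw [ρ.naturality, VecGrp.Wmap_tmul, map_one, eq_ptMap_univ] at h2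
    refine ⟨VecGrp.Wmap (evB g) w, ?_⟩
    rw [← h2]
    clear hw h2
    induction w using TensorProduct.induction_on with
    | zero => simp
    | tmul c d => rfl
    | add p q hp hq =>
      simp only [map_add] at hp hq ⊢
      rw [← hp, ← hq]

/-- The restricted action. -/
noncomputable def restrictHom {B : Type u} [CommRing B] [Algebra k B] (g : VecGrp.pt k B ⟶ G) :
    B ⊗[k] S →ₐ[B] B ⊗[k] S :=
  ((AlgEquiv.ofInjective (incl S B) (incl_injective S B)).symm.toAlgHom).comp
    (((algAct ρ hρ g).comp (incl S B)).codRestrict (incl S B).range fun z => mem_range_incl ρ S hS g z)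

theorem incl_restrictHom {B : Type u} [CommRing B] [Algebra k B] (g : VecGrp.pt k B ⟶ G) (z : B ⊗[k] S) :
    incl S B (restrictHom ρ hρ S hS g z) = ρ.ρ B g (incl S B z) :=
  congrArg Subtype.val ((AlgEquiv.ofInjective (incl S B) (incl_injective S B)).apply_symm_apply
    ⟨ρ.ρ B g (incl S B z), mem_range_incl ρ S hS g z⟩)

/-- The action on a stable subalgebra. -/
noncomputable def restrictMod : VecGrp.GMod G S where
  ρ B _ _ := (LinearMap.GeneralLinearGroup.generalLinearEquiv B _).toMonoidHom.comp
    (MonoidHom.toHomUnits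
      { toFun := fun g => (restrictHom ρ hρ S hS g).toLinearMap
        map_one' := LinearMap.ext fun z => incl_injective S B (by
          show incl S B (restrictHom ρ hρ S hS 1 z) = incl S B z
          rw [incl_restrictHom, map_one]
          rfl)
        map_mul' := fun g h => LinearMap.ext fun z => incl_injective S B (by
          show incl S B (restrictHom ρ hρ S hS (g * h) z) =
            incl S B (restrictHom ρ hρ S hS g (restrictHom ρ hρ S hS h z))
          rw [incl_restrictHom, incl_restrictHom, incl_restrictHom, map_mul]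
          rfl) })
  naturality {B B'} _ _ _ _ φ g x := by
    show VecGrp.Wmap φ (restrictHom ρ hρ S hS g x) = restrictHom ρ hρ S hS (VecGrp.ptMap φ ≫ g) (VecGrp.Wmap φ x)
    have hc : ∀ z : B ⊗[k] S, incl S B' (VecGrp.Wmap φ z) = VecGrp.Wmap φ (incl S B z) := fun z => by
      induction z using TensorProduct.induction_on with
      | zero => simp
      | tmul b s => rfl
      | add p q hp hq => simp only [map_add, hp, hq]
    refine incl_injective S B' ?_
    rw [incl_restrictHom, hc, hc, incl_restrictHom, ρ.naturality]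

theorem restrictMod_isMult : (restrictMod ρ hρ S hS).IsMult := fun B _ _ g =>
  ⟨fun x y => map_mul (restrictHom ρ hρ S hS g) x y, map_one (restrictHom ρ hρ S hS g)⟩

theorem act_restrictMod (x : P G) (s : S) : (act (restrictMod ρ hρ S hS) x s : C) = act ρ x s := by
  have h := incl_restrictHom ρ hρ S hS (toPt x) ((1 : k) ⊗ₜ s)
  have e : restrictHom ρ hρ S hS (toPt x) ((1 : k) ⊗ₜ s) = (1 : k) ⊗ₜ act (restrictMod ρ hρ S hS) x s :=
    act_apply (restrictMod ρ hρ S hS) x s
  rw [e, show incl S k ((1 : k) ⊗ₜ s) = (1 : k) ⊗ₜ[k] (s : C) from rfl, act_apply] at h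
  exact (TensorProduct.lid k C).symm.injective h

end Restrict

/-- Functions invariant on the right. -/
noncomputable def invAlg : Subalgebra k Γ(G.left, ⊤) where
  carrier := {f | Inv i f}
  mul_mem' {a b} ha hb := fun x h => by rw [map_mul, map_mul, ha, hb]
  one_mem' := fun x h => by rw [map_one, map_one]
  add_mem' {a b} ha hb := fun x h => by rw [map_add, map_add, ha, hb]
  zero_mem' := fun x h => by rw [map_zero, map_zero]
  algebraMap_mem' c := fun x h => by rw [ev_const, ev_const]

theorem finiteType_invAlg (hfg : AGF.SubringFGOver k G (AGF.rTransInv i)) : Algebra.FiniteType k (invAlg i) := by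
  obtain ⟨s, hs, hle⟩ := hfg
  refine (Subalgebra.fg_iff_finiteType _).mp ⟨s, le_antisymm (Algebra.adjoin_le fun f hf =>
    (isRTransInv_iff i f).mp (hs hf)) fun f hf => ?_⟩
  rw [Algebra.mem_adjoin_iff]
  exact hle ((isRTransInv_iff i f).mpr hf)

/-- Evaluation of the second factor at a point. -/
noncomputable def evSnd {A : Type u} [CommRing A] [Algebra k A] (y : P G) : A ⊗[k] invAlg i →ₐ[k] A :=
  Algebra.TensorProduct.lift (AlgHom.id k A) ((Algebra.ofId k A).comp ((evA y).comp (invAlg i).val))
    fun _ _ => Commute.all _ _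

theorem evSnd_tmul {A : Type u} [CommRing A] [Algebra k A] (y : P G) (a : A) (s : invAlg i) :
    evSnd i y (a ⊗ₜ[k] s) = ev y s.1 • a := by
  rw [Algebra.smul_def, mul_comm]
  exact Algebra.TensorProduct.lift_tmul _ _ _ _ _

theorem evSnd_ext {A : Type u} [CommRing A] [Algebra k A] {z z' : A ⊗[k] invAlg i}
    (h : ∀ y : P G, evSnd i y z = evSnd i y z') : z = z' := by
  haveI : IsReduced G.left := Groth.Agent.Lib.GrpSch.isReduced_of_smooth_field G.hom
  let j : A ⊗[k] invAlg i →ₗ[k] Γ(G.left, ⊤) ⊗[k] A :=
    (TensorProduct.comm k A Γ(G.left, ⊤)).toLinearMap ∘ₗ LinearMap.lTensor A (invAlg i).val.toLinearMap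
  have hj : Function.Injective j := (TensorProduct.comm k A Γ(G.left, ⊤)).injective.comp
    (Module.Flat.lTensor_preserves_injective_linearMap (M := A) _ Subtype.val_injective)
  refine hj (eq_of_points fun y => (TensorProduct.lid k A).injective ?_)
  have hjy : ∀ w, TensorProduct.lid k A (VecGrp.Wmap (evA y) (j w)) = evSnd i y w := fun w => by
    induction w using TensorProduct.induction_on with
    | zero => simp
    | tmul a s => rw [evSnd_tmul]; simp [j, evA_apply]
    | add p q hp hq => simp only [map_add, hp, hq]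
  rw [hjy, hjy, h]

/-- The transfer principle. -/
theorem finiteType_fixed (hG : VecGrp.IsReductiveGrp k G) (thmA : VecGrp.ReductiveInvariantsFG k)
    (hfg : AGF.SubringFGOver k G (AGF.rTransInv i))
    (A : Type u) [CommRing A] [Algebra k A] [Algebra.FiniteType k A] (ρ : VecGrp.GMod G A) (hρ : ρ.IsMult) :
    Algebra.FiniteType k ↥(ρ.fixedSubalgebra hρ i) := by
  classical
  haveI : IsReduced G.left := Groth.Agent.Lib.GrpSch.isReduced_of_smooth_field G.hom
  haveI := finiteType_invAlg i hfg
  have hS : ∀ (x : P G), ∀ s ∈ invAlg i, act (regularL G) x s ∈ invAlg i := fun x s hs => by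
    rw [act_regularL]
    exact Inv.ltr i hs x⁻¹
  let σ := restrictMod (regularL G) regularL_isMult (invAlg i) hS
  let hσ := restrictMod_isMult (regularL G) regularL_isMult (invAlg i) hS
  let τ := tensorMod ρ hρ σ hσ
  haveI : Algebra.FiniteType k (A ⊗[k] invAlg i) := Algebra.FiniteType.trans (S := A) inferInstance inferInstance
  obtain ⟨s, hs, hadj⟩ := thmA G hG (A ⊗[k] invAlg i) τ (tensorMod_isMult ρ hρ σ hσ) inferInstance
  have hcomm : ∀ (x y : P G) w, evSnd i y (act τ x w) = act ρ x (evSnd i (x⁻¹ * y) w) := fun x y w => by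
    induction w using TensorProduct.induction_on with
    | zero => simp
    | tmul a t =>
      rw [act_tensorMod, evSnd_tmul, evSnd_tmul, map_smul, act_restrictMod, act_regularL, ev_ltr]
    | add p q hp hq => simp only [map_add, hp, hq]
  have hshift : ∀ (y : P G) (h : P H) w, evSnd (A := A) i (y * (h ≫ i)) w = evSnd i y w := fun y h w => by
    induction w using TensorProduct.induction_on with
    | zero => simp
    | tmul a t => rw [evSnd_tmul, evSnd_tmul, t.2 y h]
    | add p q hp hq => simp only [map_add, hp, hq]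
  let ε := evSnd (A := A) i (1 : P G)
  have hε : ∀ z ∈ τ.fixedUnder (𝟙 G), ε z ∈ ρ.fixedUnder i := fun z hz => by
    refine (mem_fixedUnder_iff ρ i _).mpr fun h => ?_
    have h1 := hcomm (h ≫ i) (h ≫ i) z
    rw [inv_mul_cancel] at h1
    rw [← h1]
    have hzx := (mem_fixedUnder_iff τ (𝟙 G) z).mp hz (h ≫ i)
    rw [Category.comp_id] at hzx
    rw [hzx, ← _root_.one_mul (h ≫ i), hshift]
  have hsurj : ∀ a ∈ ρ.fixedUnder i, ∃ z ∈ τ.fixedUnder (𝟙 G), ε z = a := fun a ha => by
    obtain ⟨V, hVf, hV⟩ := exists_orbit_bound ρ a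
    haveI := hVf
    let b := Module.finBasis k V
    choose l hl using fun j => LinearMap.exists_extend (b.coord j)
    have hco : ∀ j, coef ρ (l j) a ∈ invAlg i := fun j x h => by
      rw [ev_coef, ev_coef, act_mul, (mem_fixedUnder_iff ρ i a).mp ha h]
    let z : A ⊗[k] invAlg i := ∑ j, (b j : A) ⊗ₜ ⟨coef ρ (l j) a, hco j⟩
    have hz : ∀ y, evSnd i y z = act ρ y a := fun y => by
      simp only [z, map_sum, evSnd_tmul, ev_coef]
      have h1 := congrArg Subtype.val (b.sum_repr ⟨act ρ y a, hV y⟩)
      rw [Submodule.coe_sum] at h1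
      refine (Finset.sum_congr rfl fun j _ => ?_).trans h1
      rw [show l j (act ρ y a) = b.coord j ⟨act ρ y a, hV y⟩ from LinearMap.congr_fun (hl j) ⟨_, hV y⟩]
      rfl
    refine ⟨z, (mem_fixedUnder_iff τ (𝟙 G) z).mpr fun x => evSnd_ext i fun y => ?_, (hz 1).trans (act_one ρ a)⟩
    rw [Category.comp_id, hcomm, hz, hz, ← act_mul, mul_inv_cancel_left]
  refine (Subalgebra.fg_iff_finiteType _).mp ⟨s.image ε, le_antisymm (Algebra.adjoin_le fun a ha => ?_) fun a ha => ?_⟩
  · obtain ⟨z, hz, rfl⟩ := Finset.mem_image.mp (Finset.mem_coe.mp ha)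
    exact hε z (hs hz)
  · obtain ⟨z, hz, rfl⟩ := hsurj a ha
    rw [Finset.coe_image, ← AlgHom.map_adjoin]
    exact ⟨z, hadj hz, rfl⟩

/-- Finite generation for the regular representation. -/
theorem fg_of_finiteType_fixed
    (h : Algebra.FiniteType k ↥((regular G).fixedSubalgebra regular_isMult i)) :
    AGF.SubringFGOver k G (AGF.rTransInv i) := by
  haveI : IsReduced G.left := Groth.Agent.Lib.GrpSch.isReduced_of_smooth_field G.hom
  obtain ⟨s, hs⟩ := (Subalgebra.fg_iff_finiteType _).mpr h
  have hmem : ∀ f, f ∈ (regular G).fixedUnder i ↔ Inv i f := fun f => by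
    rw [mem_fixedUnder_iff]
    constructor
    · intro hf x t
      have := congrArg (ev x) (hf t)
      rwa [act_regular, ev_rtr] at this
    · intro hf t
      rw [act_regular]
      exact ext_points fun x => by rw [ev_rtr, hf]
  refine ⟨s, fun f hf => (isRTransInv_iff i f).mpr ((hmem f).mp ?_), fun f hf => ?_⟩
  · exact (hs ▸ Algebra.subset_adjoin hf : f ∈ (regular G).fixedSubalgebra regular_isMult i)
  · have h1 : f ∈ (regular G).fixedSubalgebra regular_isMult i := (hmem f).mpr ((isRTransInv_iff i f).mp hf)
    rw [← hs, Algebra.mem_adjoin_iff] at h1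
    exact h1

end Groth.Agent.H1.Obs
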