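import Groth.Agent.H1.Obs.Eigen
import Groth.Agent.H1.Classical.RadUApply

/-!
# Unipotent radicals of Borel subgroups acting on algebras
-/

universe u

open CategoryTheory Limits MonoidalCategory CartesianMonoidalCategory MonObj GrpObj AlgebraicGeometry
open scoped TensorProduct

namespace Groth.Agent.H1.Obs

set_option linter.style.haveILetI false
set_option linter.unusedSectionVars false

open Groth.Agent.Lib.RedPts Groth.Agent.Lib.RedPts.Points Classical.Scheme' Groth.Agent.H1.RInv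

attribute [local instance] baseAlgebra

variable {k : Type u} [Field k] [IsAlgClosed k]

theorem props_of_radical {G Bo U : Over (Spec (CommRingCat.of k))} [GrpObj G] [GrpObj Bo] [GrpObj U] [IsAffine G.left]
    {iB : Bo ⟶ G} (hB : Red.IsBorelOver k iB) {u : U ⟶ Bo} (hU : Par.IsUnipotentRadical u) :
    IsMonHom (u ≫ iB) ∧ IsAffine U.left ∧ Smooth U.hom ∧ ConnectedSpace U.left ∧ Classical.Unipotent.NoTorsion U := by
  haveI := hB.1
  haveI := hB.2.1
  obtain ⟨hm, hc, -, hs, -, hfib, -⟩ := hU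
  haveI := hm
  haveI := hc
  haveI := hs
  haveI : IsAffine Bo.left := isAffine_of_isAffineHom iB.left
  haveI : IsAffine U.left := isAffine_of_isAffineHom u.left
  obtain ⟨h1, h2⟩ := Classical.RadU.props_of_fibre hfib
  exact ⟨inferInstance, inferInstance, hs, h1, h2⟩

variable {G H : Over (Spec (CommRingCat.of k))} [GrpObj G] [GrpObj H] [IsAffine G.left] [IsAffine H.left]
  [Smooth H.hom] [ConnectedSpace H.left] (i : H ⟶ G) [IsMonHom i] (hU : Classical.Unipotent.NoTorsion H)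
  {A : Type u} [CommRing A] [Algebra k A] (ρ : VecGrp.GMod G A) (hρ : ρ.IsMult)

include hU hρ in
theorem isReduced_iff : IsReduced A ↔ IsReduced ↥(ρ.fixedSubalgebra hρ i) := by
  refine ⟨fun h => isReduced_of_injective (ρ.fixedSubalgebra hρ i).val Subtype.val_injective, fun h => ?_⟩
  by_contra hA
  have hne : (nilradical A).restrictScalars k ≠ ⊥ := fun hbot => hA ⟨fun x hx => by
    have : x ∈ (nilradical A).restrictScalars k := mem_nilradical.mpr hx
    rwa [hbot, Submodule.mem_bot] at this⟩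
  obtain ⟨v, hv, hv0, hvf⟩ := exists_fixed i ρ hU _ hne fun x w hw => by
    obtain ⟨n, hn⟩ := mem_nilradical.mp hw
    refine mem_nilradical.mpr ⟨n, ?_⟩
    let φ : A →* A := { toFun := act ρ (x ≫ i), map_one' := act_map_one ρ hρ _, map_mul' := act_map_mul ρ hρ _ }
    show φ w ^ n = 0
    rw [← map_pow, hn]
    exact map_zero (act ρ (x ≫ i))
  obtain ⟨n, hn⟩ := mem_nilradical.mp hv
  have : IsNilpotent (⟨v, hvf⟩ : ρ.fixedSubalgebra hρ i) := ⟨n, Subtype.ext hn⟩
  exact hv0 (congrArg Subtype.val this.eq_zero)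

include hU hρ in
theorem zeroDivisor_iff : (∃ a b : A, a ≠ 0 ∧ b ≠ 0 ∧ a * b = 0) ↔
    ∃ a b : ↥(ρ.fixedSubalgebra hρ i), a ≠ 0 ∧ b ≠ 0 ∧ a * b = 0 := by
  refine ⟨?_, fun ⟨a, b, ha, hb, h⟩ => ⟨a, b, fun e => ha (Subtype.ext e), fun e => hb (Subtype.ext e),
    congrArg Subtype.val h⟩⟩
  rintro ⟨a, b, ha, hb, hab⟩
  by_cases hred : IsReduced A
  swap
  · rw [isReduced_iff i hU ρ hρ, isReduced_iff_pow_one_lt 2 one_lt_two] at hred
    push Not at hred
    obtain ⟨x, hx, hx0⟩ := hred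
    exact ⟨x, x, hx0, hx0, by rw [← pow_two, hx]⟩
  have hstable : ∀ h : P H, a * act ρ (h ≫ i) b = 0 := fun h => by
    refine IsReduced.eq_zero _ (mem_nilradical.mp ?_)
    rw [nilradical_eq_sInf, Ideal.mem_sInf]
    intro q hq
    haveI : q.IsPrime := hq
    obtain ⟨p, hp, hpq⟩ := Ideal.exists_minimalPrimes_le (I := ⊥) (J := q) bot_le
    refine hpq ?_
    rcases hp.1.1.mem_or_mem (show a * b ∈ p by rw [hab]; exact p.zero_mem) with h1 | h1
    · exact p.mul_mem_right _ h1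
    · exact p.mul_mem_left _ (minimalPrimes_stable i ρ hρ ⊥ (fun g c hc => by
        rw [Ideal.mem_bot] at hc ⊢; rw [hc, map_zero]) hp h h1)
  let W : Submodule k A := ⨅ h : P H, LinearMap.ker (LinearMap.mulRight k (act ρ (h ≫ i) b))
  have hW : ∀ x, x ∈ W ↔ ∀ h : P H, x * act ρ (h ≫ i) b = 0 := fun x => by simp [W]
  obtain ⟨a', ha', ha'0, ha'f⟩ := exists_fixed i ρ hU W
    (fun h => ha (by simpa [h] using (hW a).mpr hstable)) fun g x hx => (hW _).mpr fun h => by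
      have h1 := congrArg (act ρ (g ≫ i)) ((hW x).mp hx (g⁻¹ * h))
      rwa [act_map_mul ρ hρ, map_zero, ← act_mul, ← MonObj.mul_comp, mul_inv_cancel_left] at h1
  let W' : Submodule k A := LinearMap.ker (LinearMap.mulLeft k a')
  have hW' : ∀ x, x ∈ W' ↔ a' * x = 0 := fun x => by simp [W']
  have hab' : a' * b = 0 := by simpa [act_one] using (hW a').mp ha' 1
  obtain ⟨b', hb', hb'0, hb'f⟩ := exists_fixed i ρ hU W'
    (fun h => hb (by simpa [h] using (hW' b).mpr hab')) fun g x hx => (hW' _).mpr (by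
      rw [← (mem_fixedUnder_iff ρ i a').mp ha'f g, ← act_map_mul ρ hρ, (hW' x).mp hx, map_zero])
  exact ⟨⟨a', ha'f⟩, ⟨b', hb'f⟩, fun e => ha'0 (congrArg Subtype.val e), fun e => hb'0 (congrArg Subtype.val e),
    Subtype.ext ((hW' b').mp hb')⟩

include hU hρ in
theorem exists_fixed_fraction [IsDomain A] (a₀ b₀ : A) (hb₀ : b₀ ≠ 0)
    (hinv : ∀ h : P H, act ρ (h ≫ i) a₀ * b₀ = a₀ * act ρ (h ≫ i) b₀) :
    ∃ a b : A, a ∈ ρ.fixedUnder i ∧ b ∈ ρ.fixedUnder i ∧ b ≠ 0 ∧ a * b₀ = b * a₀ := by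
  let W : Submodule k A := ((Ideal.span {b₀}).restrictScalars k).comap (LinearMap.mulRight k a₀)
  have hW : ∀ x, x ∈ W ↔ ∃ c, c * b₀ = x * a₀ := fun x => by
    simp [W, Ideal.mem_span_singleton', eq_comm]
  have hne : W ≠ ⊥ := fun h => hb₀ (by simpa [h] using (hW b₀).mpr ⟨a₀, mul_comm _ _⟩)
  have hinj : ∀ h : P H, act ρ (h ≫ i) b₀ ≠ 0 := fun h e => hb₀ (act_inj ρ _ (e.trans (map_zero _).symm))
  obtain ⟨b, hbW, hb0, hbf⟩ := exists_fixed i ρ hU W hne fun h x hx => by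
    obtain ⟨c, hc⟩ := (hW x).mp hx
    refine (hW _).mpr ⟨act ρ (h ≫ i) c, mul_right_cancel₀ (hinj h) ?_⟩
    have h1 := congrArg (act ρ (h ≫ i)) hc
    rw [act_map_mul ρ hρ, act_map_mul ρ hρ] at h1
    linear_combination b₀ * h1 + act ρ (h ≫ i) x * hinv h
  obtain ⟨a, ha⟩ := (hW b).mp hbW
  refine ⟨a, b, (mem_fixedUnder_iff ρ i a).mpr fun h => ?_, hbf, hb0, ha⟩
  have h1 := congrArg (act ρ (h ≫ i)) ha
  rw [act_map_mul ρ hρ, act_map_mul ρ hρ, (mem_fixedUnder_iff ρ i b).mp hbf h] at h1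
  refine mul_right_cancel₀ (mul_ne_zero (hinj h) hb₀) ?_
  linear_combination b₀ * h1 + b * hinv h - act ρ (h ≫ i) b₀ * ha

end Groth.Agent.H1.Obs
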